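import Cfsg.Agent.Lib.MTwentyTwoUnique.FromOrder.Setting
import Cfsg.Agent.Lib.SmallSimple.Band6232.Tools
import Mathlib

/-!
The Sylow data of a simple group of order 443520 and the centralisers of elements centralising a Sylow
subgroup of prime order.
-/

set_option autoImplicit false
set_option linter.style.haveILetI false
set_option linter.unusedSectionVars false

noncomputable section

open scoped Classical

namespace CfsgLib.MTwentyTwoUnique.FromOrder

open Subgroup CfsgLib.SmallGroups CfsgLib.SmallSimple Cfsg

variable {G : Type*} [Group G] [Fintype G] {p : ℕ} [hp : Fact p.Prime]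

/-- An element of order `p` generates a Sylow subgroup with the same centraliser. -/
theorem exists_sylow_zpowers {m : ℕ} (hnG : Nat.card G = p * m) (hm : ¬ p ∣ m) {x : G}
    (hx : orderOf x = p) : ∃ P : Sylow p G, (P : Subgroup G) = zpowers x ∧
      centralizer ({x} : Set G) = centralizer ((P : Subgroup G) : Set G) := by
  obtain ⟨P, hPx⟩ := (IsPGroup.of_card (p := p) (n := 1) (by rw [Nat.card_zpowers, hx, pow_one]) :
    IsPGroup p (zpowers x)).exists_le_sylow
  have hP : Nat.card (P : Subgroup G) = p := by
    simpa using card_sylow_eq (a := 1) (by rw [pow_one, hnG]) hm P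
  have hPe : zpowers x = (P : Subgroup G) := eq_of_le_of_card_ge hPx (by rw [hP, Nat.card_zpowers, hx])
  exact ⟨P, hPe.symm, by rw [← hPe, zpowers_eq_closure, centralizer_closure]⟩

variable (P : Sylow p G) {r u : ℕ}

/-- The automizer and the regular part from the orders of `N(P)` and `C(P)`. -/
theorem relIndex_and_reg (hP : Nat.card (P : Subgroup G) = p)
    (hN : Nat.card (normalizer ((P : Subgroup G) : Set G)) = p * (r * u))
    (hC : Nat.card (centralizer ((P : Subgroup G) : Set G)) = p * u) :
    (centralizer ((P : Subgroup G) : Set G)).relIndex (normalizer ((P : Subgroup G) : Set G)) = r ∧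
      (reg P).card = u := by
  have h2 := card_centralizer_eq P hP
  rw [hC] at h2
  refine ⟨?_, (Nat.eq_of_mul_eq_mul_left hp.out.pos h2).symm⟩
  have hce := Order459648.card_centralizer_mul_relIndex (P : Subgroup G)
  rw [hC, hN] at hce
  exact Nat.eq_of_mul_eq_mul_left (n := p * u) (hC ▸ Nat.card_pos) (hce.trans (by ring))

theorem sylow_le_centralizer {y : G} (hy : y ∈ centralizer ((P : Subgroup G) : Set G)) :
    (P : Subgroup G) ≤ centralizer ({y} : Set G) :=
  fun x hx => mem_centralizer_singleton_iff.2 (mem_centralizer_iff.1 hy x hx)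

/-- An involution centralising `P` and the divisors of the order of its centraliser. -/
theorem exists_involution (hP : Nat.card (P : Subgroup G) = p) (hp2 : p ≠ 2)
    (hC : Nat.card (centralizer ((P : Subgroup G) : Set G)) = p * u) (hu : 2 ∣ u) :
    ∃ t : G, t * t = 1 ∧ t ≠ 1 ∧ orderOf t = 2 ∧ t ∈ centralizer ((P : Subgroup G) : Set G) ∧
      2 * p ∣ Nat.card (centralizer ({t} : Set G)) := by
  haveI : Fact (Nat.Prime 2) := ⟨Nat.prime_two⟩
  obtain ⟨t, ht⟩ := exists_prime_orderOf_dvd_card' (G := centralizer ((P : Subgroup G) : Set G)) 2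
    (hC ▸ dvd_mul_of_dvd_right hu p)
  have hto : orderOf (t : G) = 2 := by rw [Subgroup.orderOf_coe, ht]
  have h2 := pow_orderOf_eq_one (t : G)
  rw [hto, sq] at h2
  refine ⟨t, h2, fun h => by rw [h, orderOf_one] at hto; norm_num at hto, hto, t.2, ?_⟩
  refine Nat.Coprime.mul_dvd_of_dvd_of_dvd
    ((Nat.coprime_primes Nat.prime_two hp.out).2 (Ne.symm hp2)) ?_ ?_
  · exact hto ▸ Subgroup.orderOf_dvd_natCard _ (mem_centralizer_singleton_iff.2 rfl)
  · have h := card_dvd_of_le (sylow_le_centralizer P t.2)
    rwa [hP] at h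

theorem centralizer_lt (hG : SG G) {t : G} (ht : t ≠ 1) :
    Nat.card (centralizer ({t} : Set G)) < 443520 := by
  haveI := hG.simple
  rw [← hG.card]
  refine lt_of_le_of_ne (Nat.le_of_dvd Nat.card_pos (card_subgroup_dvd_card _)) fun h => ?_
  exact SylowFixed.centralizer_ne_top hG.not_comm ht (eq_top_of_card_eq _ h)

/-- The Sylow subgroups fixed by an element centralising `P`, when it centralises each of them. -/
theorem local_count [IsSimpleGroup G] (hN : Nat.card (normalizer ((P : Subgroup G) : Set G)) = p * (r * u))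
    (hC : Nat.card (centralizer ((P : Subgroup G) : Set G)) = p * u) {q : ℕ} {y : G} (hy : orderOf y = q)
    (hyC : y ∈ centralizer ((P : Subgroup G) : Set G)) (hqr : Nat.Coprime q r) :
    Nat.card (Sylow p (centralizer ({y} : Set G))) = SylowFixed.fixCard p y := by
  rw [SylowLocal.card_sylow_eq_card_le P (sylow_le_centralizer P hyC)]
  refine Nat.card_congr (Equiv.subtypeEquivRight fun Q => ⟨fun h => ?_, fun h => ?_⟩)
  · exact Sylow.smul_eq_iff_mem_normalizer.2 (centralizer_le_normalizer _
      (mem_centralizer_iff.2 fun x hx => mem_centralizer_singleton_iff.1 (h hx)))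
  · intro x hx
    exact mem_centralizer_singleton_iff.2
      (mem_centralizer_iff.1 (Band6232.centralizes_of_coprime P hN hC hy hqr Q h) x hx)

end CfsgLib.MTwentyTwoUnique.FromOrder
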