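import Cfsg.Agent.Lib.MTwentyTwoUnique.Search
import Mathlib

/-!
The finite searches on the degrees in a principal block and the values at an involution centralising the
Sylow subgroup.
-/

set_option autoImplicit false

namespace CfsgLib.MTwentyTwoUnique.FromOrder

open CfsgLib.MTwentyTwoUnique (sgn tsgn okEleven)

/-- Degrees to which a prime and the bound restrict a block member. -/
def degs (p : ℕ) (ok : ℕ → Bool) : List ℕ := (List.range 666).filter fun d =>
  decide (2 * p < d ∧ 443520 % d = 0 ∧ (d % p = 1 ∨ d % p = p - 1)) && ok d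

/-- The conditions on a value at an involution with centraliser of order `C`. -/
def okVal (C d : ℕ) (v : ℤ) : Bool :=
  decide (v * v < (d : ℤ) * d ∧ v * v ≤ (C : ℤ) ∧ (((443520 / C : ℕ) : ℤ) * v) % (d : ℤ) = 0)

/-- The candidate values, congruent to the degree modulo `4 p`. -/
def vals (p C d : ℕ) : List ℤ :=
  ((List.range (2 * d / (4 * p) + 1)).map fun k : ℕ => (d : ℤ) - (4 * p : ℕ) * ((k : ℤ) + 1)).filter (okVal C d)

theorem mem_vals {p C d : ℕ} {v : ℤ} (hp : 0 < p) (h : okVal C d v = true)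
    (hdvd : ((4 * p : ℕ) : ℤ) ∣ (d : ℤ) - v) : v ∈ vals p C d := by
  have hv : v * v < (d : ℤ) * d := by
    simp only [okVal, decide_eq_true_eq] at h; exact h.1
  obtain ⟨j, hj⟩ := hdvd
  have h1 : v.natAbs < d := by
    by_contra hc
    have : (d : ℤ) ≤ v.natAbs := by omega
    nlinarith [Int.natAbs_mul_self' v]
  have hp4 : (0 : ℤ) < ((4 * p : ℕ) : ℤ) := by positivity
  have hj1 : 1 ≤ j := by
    by_contra hc
    have : ((4 * p : ℕ) : ℤ) * j ≤ 0 := Int.mul_nonpos_of_nonneg_of_nonpos hp4.le (by omega)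
    omega
  have hj2 : ((4 * p : ℕ) : ℤ) * j ≤ ((2 * d : ℕ) : ℤ) := by omega
  refine List.mem_filter.mpr ⟨List.mem_map.mpr ⟨(j - 1).toNat, List.mem_range.mpr ?_, ?_⟩, h⟩
  · have h3 : j.toNat * (4 * p) ≤ 2 * d := by
      have : ((j.toNat : ℕ) : ℤ) = j := Int.toNat_of_nonneg (by omega)
      have h4 : (((j.toNat * (4 * p) : ℕ)) : ℤ) ≤ ((2 * d : ℕ) : ℤ) := by push_cast at hj2 ⊢; rw [this]; linarith
      exact_mod_cast h4
    have h4 := (Nat.le_div_iff_mul_le (by omega : 0 < 4 * p)).mpr h3
    omega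
  · have : (((j - 1).toNat : ℕ) : ℤ) + 1 = j := by omega
    rw [this]; omega

/-- The multisets of size `k` with square sum at most `B`, as lists. -/
def combos : List ℕ → ℕ → ℕ → List (List ℕ)
  | [], k, _ => if k = 0 then [[]] else []
  | a :: X, k, B => (List.range (k + 1)).flatMap fun j =>
      if j * (a * a) ≤ B then (combos X (k - j) (B - j * (a * a))).map (List.replicate j a ++ ·) else []

theorem exists_mem_combos : ∀ (X : List ℕ) (M : Multiset ℕ) (k B : ℕ), (∀ d ∈ M, d ∈ X) →
    M.card = k → (M.map fun d => d * d).sum ≤ B → ∃ l ∈ combos X k B, (↑l : Multiset ℕ) = M := by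
  intro X
  induction X with
  | nil =>
    intro M k B hM hk _
    have : M = 0 := Multiset.eq_zero_of_forall_notMem fun d hd => List.not_mem_nil (hM d hd)
    subst this
    subst hk
    exact ⟨[], by simp [combos], rfl⟩
  | cons a X ih =>
    intro M k B hM hk hB
    set j := (M.filter (· = a)).card with hj
    set M' := M.filter (fun d => ¬ d = a) with hM'
    have hsplit : M.filter (· = a) + M' = M := Multiset.filter_add_not _ M
    have hrep : M.filter (· = a) = Multiset.replicate j a :=
      Multiset.eq_replicate.mpr ⟨rfl, fun d hd => (Multiset.mem_filter.mp hd).2⟩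
    have hcard : j + M'.card = k := by
      have h := congrArg Multiset.card hsplit
      rwa [Multiset.card_add, ← hj, hk] at h
    have hsum : j * (a * a) + (M'.map fun d => d * d).sum ≤ B := by
      rw [← hsplit, hrep] at hB
      simpa using hB
    obtain ⟨l, hl, hl'⟩ := ih M' (k - j) (B - j * (a * a))
      (fun d hd => (List.mem_cons.mp (hM d (Multiset.mem_filter.mp hd).1)).resolve_left
        (Multiset.mem_filter.mp hd).2)
      (by omega) (by omega)
    refine ⟨List.replicate j a ++ l, ?_, ?_⟩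
    · show _ ∈ List.flatMap _ _
      exact List.mem_flatMap.mpr ⟨j, List.mem_range.mpr (by omega),
        by rw [if_pos (by omega)]; exact List.mem_map.mpr ⟨l, hl, rfl⟩⟩
    · rw [← Multiset.coe_add, hl', Multiset.coe_replicate, ← hrep, hsplit]

/-- Run through all values, accumulating the relation, the square sum and the structure constant. -/
def fold (p C : ℕ) (chk : ℤ → ℤ → ℤ → Bool) : List ℕ → ℤ → ℤ → ℤ → Bool
  | [], T, Q, S => chk T Q S
  | d :: L, T, Q, S => (vals p C d).all fun v => decide ((C : ℤ) < Q + v * v) ||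
      fold p C chk L (T + sgn p d * v) (Q + v * v) (S + sgn p d * v * v * ((443520 / d : ℕ) : ℤ))

theorem fold_spec {p C : ℕ} {chk : ℤ → ℤ → ℤ → Bool} : ∀ (L : List (ℕ × ℤ)) (T Q S : ℤ),
    fold p C chk (L.map Prod.fst) T Q S = true → (∀ w ∈ L, w.2 ∈ vals p C w.1) →
    Q + (L.map fun w => w.2 * w.2).sum ≤ (C : ℤ) →
    chk (T + (L.map fun w => sgn p w.1 * w.2).sum) (Q + (L.map fun w => w.2 * w.2).sum)
      (S + (L.map fun w => sgn p w.1 * w.2 * w.2 * ((443520 / w.1 : ℕ) : ℤ)).sum) = true := by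
  intro L
  induction L with
  | nil => intro T Q S h _ _; simpa [fold] using h
  | cons w L ih =>
    intro T Q S h hv hQ
    simp only [List.map_cons, List.sum_cons] at hQ ⊢
    simp only [List.map_cons, fold, List.all_eq_true, Bool.or_eq_true, decide_eq_true_eq] at h
    have hnn : 0 ≤ (L.map fun w => w.2 * w.2).sum := List.sum_nonneg fun x hx => by
      obtain ⟨u, -, rfl⟩ := List.mem_map.mp hx
      exact mul_self_nonneg _
    rcases h w.2 (hv w List.mem_cons_self) with h' | h'
    · omega
    · have := ih _ _ _ h' (fun u hu => hv u (List.mem_cons_of_mem _ hu)) (by linarith)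
      simpa only [add_assoc] using this

/-- No square `n` with `n C² = p c S`, except possibly the excluded one. -/
def noCount (p c C : ℕ) (excl : Option ℕ) (S : ℤ) : Bool :=
  let N := ((p * c : ℕ) : ℤ) * S
  decide (N < 0) || decide (N.toNat % (C * C) ≠ 0) ||
    (let n := N.toNat / (C * C); decide (Nat.sqrt n * Nat.sqrt n ≠ n) || decide (excl = some n))

theorem noCount_spec {p c C : ℕ} {excl : Option ℕ} {S : ℤ} (hC : 0 < C) (h : noCount p c C excl S = true)
    (A : ℕ) (hA : (A : ℤ) * A * ((C : ℤ) * C) = (p : ℤ) * c * S) : excl = some (A * A) := by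
  have hN : ((p * c : ℕ) : ℤ) * S = ((A * A * (C * C) : ℕ) : ℤ) := by push_cast; exact hA.symm
  have hdiv : A * A * (C * C) / (C * C) = A * A := Nat.mul_div_cancel _ (Nat.mul_pos hC hC)
  simp only [noCount, hN, Bool.or_eq_true, decide_eq_true_eq, Int.toNat_natCast] at h
  rcases h with (h | h) | h | h
  · omega
  · exact absurd (Nat.mul_mod_left (A * A) (C * C)) h
  · rw [hdiv, Nat.sqrt_eq] at h; exact absurd rfl h
  · rwa [hdiv] at h

/-- The symmetric block (`e = p - 1`): the relation and the count. -/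
def chkFull (p : ℕ) (cs : List ℕ) (C : ℕ) (excl : Option ℕ) (T Q S : ℤ) : Bool :=
  decide (T ≠ 0) || decide ((C : ℤ) < Q) || cs.all fun c => noCount p c C excl S

/-- The block with two or more exceptional characters and odd `e`: the relation and the vanishing. -/
def chkOdd (p f : ℕ) (ε : ℤ) (ny C : ℕ) (T Q S : ℤ) : Bool :=
  let r := ε * T
  !(okVal C f r) || decide (((f : ℤ) - r) % ((4 * p : ℕ) : ℤ) ≠ 0) ||
    decide ((C : ℤ) < Q + (ny : ℤ) * (r * r)) || decide (S - ε * r * r * ((443520 / f : ℕ) : ℤ) ≠ 0)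

/-- The degree tuples in the symmetric block. -/
def tuplesFull (p : ℕ) (ok : ℕ → Bool) : List (List ℕ) :=
  (combos (degs p ok) (p - 1) 443519).filter fun L => decide (1 + (L.map fun d => sgn p d * (d : ℤ)).sum = 0)

/-- The exceptional degree and sign of a tuple. -/
def fOf (p : ℕ) (L : List ℕ) : ℕ := (1 + (L.map fun d => sgn p d * (d : ℤ)).sum).natAbs

/-- The sign of a tuple. -/
def eOf (p : ℕ) (L : List ℕ) : ℤ := tsgn (1 + (L.map fun d => sgn p d * (d : ℤ)).sum)

/-- The degree tuples in the block with `e` non-exceptional characters. -/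
def tuplesOdd (p e : ℕ) (ok : ℕ → Bool) : List (List ℕ) :=
  (combos (degs p ok) (e - 1) 443519).filter fun L =>
    decide (2 ≤ fOf p L ∧ 443520 % fOf p L = 0 ∧ ((fOf p L : ℤ) - eOf p L * e) % (p : ℤ) = 0 ∧
      1 + (L.map fun d => d * d).sum + (p - 1) / e * (fOf p L * fOf p L) ≤ 443520) && ok (fOf p L)

/-- No data in the symmetric block. -/
def deadFull (p : ℕ) (ok : ℕ → Bool) (cs Cs : List ℕ) (excl : ℕ → Option ℕ) : Bool :=
  (tuplesFull p ok).all fun L => Cs.all fun C => fold p C (chkFull p cs C (excl C)) L 1 1 443520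

/-- No data in the block with `e` non-exceptional characters. -/
def deadOdd (p e : ℕ) (ok : ℕ → Bool) (Cs : List ℕ) : Bool :=
  (tuplesOdd p e ok).all fun L => Cs.all fun C =>
    fold p C (chkOdd p (fOf p L) (eOf p L) ((p - 1) / e) C) L 1 1 443520

theorem exists_lift {α β : Type*} (f : α → β) : ∀ (l : List β) (M : Multiset α), M.map f = ↑l →
    ∃ L : List α, L.map f = l ∧ (↑L : Multiset α) = M := by
  classical
  intro l
  induction l with
  | nil => exact fun M h => ⟨[], rfl, (Multiset.map_eq_zero.mp h).symm⟩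
  | cons b l ih =>
    intro M h
    obtain ⟨a, ha, he, ht⟩ := (Multiset.map_eq_cons f M ↑l b).mpr h
    obtain ⟨L, hL, hL'⟩ := ih _ ht
    exact ⟨a :: L, by rw [List.map_cons, he, hL],
      by rw [← Multiset.cons_coe, hL', Multiset.cons_erase ha]⟩

/-- Data on the symmetric block are excluded, but for the exceptional count. -/
theorem deadFull_spec {p : ℕ} {ok : ℕ → Bool} {cs Cs : List ℕ} {excl : ℕ → Option ℕ}
    (h : deadFull p ok cs Cs excl = true) (hp : 0 < p) (M : Multiset (ℕ × ℤ)) {C c A : ℕ}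
    (hcard : M.card = p - 1) (hd : ∀ w ∈ M, w.1 ∈ degs p ok)
    (hv : ∀ w ∈ M, okVal C w.1 w.2 = true ∧ ((4 * p : ℕ) : ℤ) ∣ (w.1 : ℤ) - w.2)
    (hsq : (M.map fun w => w.1 * w.1).sum ≤ 443519)
    (hdeg : 1 + (M.map fun w => sgn p w.1 * (w.1 : ℤ)).sum = 0)
    (hT : 1 + (M.map fun w => sgn p w.1 * w.2).sum = 0)
    (hQ : 1 + (M.map fun w => w.2 * w.2).sum ≤ (C : ℤ)) (hC : C ∈ Cs) (hC0 : 0 < C) (hc : c ∈ cs)
    (hA : (A : ℤ) * A * ((C : ℤ) * C) =
      (p : ℤ) * c * (443520 + (M.map fun w => sgn p w.1 * w.2 * w.2 * ((443520 / w.1 : ℕ) : ℤ)).sum)) :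
    excl C = some (A * A) := by
  obtain ⟨l, hl, hl'⟩ := exists_mem_combos (degs p ok) (M.map Prod.fst) (p - 1) 443519
    (fun d hd' => by obtain ⟨w, hw, rfl⟩ := Multiset.mem_map.mp hd'; exact hd w hw)
    (by rw [Multiset.card_map, hcard]) (by rwa [Multiset.map_map])
  obtain ⟨L, rfl, rfl⟩ := exists_lift Prod.fst l M hl'.symm
  simp only [Multiset.map_coe, Multiset.sum_coe, Multiset.mem_coe] at hv hdeg hT hQ hA
  simp only [deadFull, List.all_eq_true] at h
  have h1 := fold_spec L 1 1 443520 (h _ (List.mem_filter.mpr ⟨hl, by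
      rw [decide_eq_true_eq, List.map_map]; exact hdeg⟩) C hC)
    (fun w hw => mem_vals hp (hv w hw).1 (hv w hw).2) hQ
  simp only [chkFull, Bool.or_eq_true, decide_eq_true_eq, List.all_eq_true] at h1
  rcases h1 with (h1 | h1) | h1
  · exact absurd hT h1
  · omega
  · exact noCount_spec hC0 (h1 c hc) A hA

/-- A degree tuple occurs in the list. -/
theorem mem_tuplesOdd {p e : ℕ} {ok : ℕ → Bool} (M : Multiset ℕ) {f : ℕ} {ε : ℤ}
    (hcard : M.card = e - 1) (hd : ∀ d ∈ M, d ∈ degs p ok) (hε : ε = 1 ∨ ε = -1)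
    (hdeg : 1 + (M.map fun d => sgn p d * (d : ℤ)).sum = ε * f) (hf : 2 ≤ f) (hfd : f ∣ 443520)
    (hfp : (p : ℤ) ∣ (f : ℤ) - ε * e) (hfok : ok f = true)
    (hsq : 1 + (M.map fun d => d * d).sum + (p - 1) / e * (f * f) ≤ 443520) :
    ∃ l ∈ tuplesOdd p e ok, (↑l : Multiset ℕ) = M ∧ fOf p l = f ∧ eOf p l = ε := by
  obtain ⟨l, hl, rfl⟩ := exists_mem_combos (degs p ok) M (e - 1) 443519 hd hcard (by omega)
  simp only [Multiset.map_coe, Multiset.sum_coe] at hdeg hsq
  have h1 : fOf p l = f := by
    rw [fOf, hdeg]; rcases hε with rfl | rfl <;> simp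
  have h2 : eOf p l = ε := by
    rw [eOf, hdeg, CfsgLib.MTwentyTwoUnique.tsgn]
    rcases hε with rfl | rfl
    · rw [if_pos (by omega)]
    · rw [if_neg (by omega)]
  refine ⟨l, List.mem_filter.mpr ⟨hl, ?_⟩, rfl, h1, h2⟩
  rw [Bool.and_eq_true, decide_eq_true_eq, h1, h2]
  exact ⟨⟨hf, Nat.mod_eq_zero_of_dvd hfd, Int.emod_eq_zero_of_dvd hfp, hsq⟩, hfok⟩

/-- No degrees at all. -/
theorem noTuples_spec {p e : ℕ} {ok : ℕ → Bool} (h : tuplesOdd p e ok = []) (M : Multiset ℕ) {f : ℕ} {ε : ℤ}
    (hcard : M.card = e - 1) (hd : ∀ d ∈ M, d ∈ degs p ok) (hε : ε = 1 ∨ ε = -1)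
    (hdeg : 1 + (M.map fun d => sgn p d * (d : ℤ)).sum = ε * f) (hf : 2 ≤ f) (hfd : f ∣ 443520)
    (hfp : (p : ℤ) ∣ (f : ℤ) - ε * e) (hfok : ok f = true)
    (hsq : 1 + (M.map fun d => d * d).sum + (p - 1) / e * (f * f) ≤ 443520) : False := by
  obtain ⟨l, hl, -⟩ := mem_tuplesOdd M hcard hd hε hdeg hf hfd hfp hfok hsq
  rw [h] at hl
  exact List.not_mem_nil hl

/-- Data on the block with several exceptional characters are excluded. -/
theorem deadOdd_spec {p e : ℕ} {ok : ℕ → Bool} {Cs : List ℕ} (h : deadOdd p e ok Cs = true) (hp : 0 < p)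
    (M : Multiset (ℕ × ℤ)) {C f : ℕ} {ε r : ℤ} (hcard : M.card = e - 1) (hd : ∀ w ∈ M, w.1 ∈ degs p ok)
    (hε : ε = 1 ∨ ε = -1) (hdeg : 1 + (M.map fun w => sgn p w.1 * (w.1 : ℤ)).sum = ε * f) (hf : 2 ≤ f)
    (hfd : f ∣ 443520) (hfp : (p : ℤ) ∣ (f : ℤ) - ε * e) (hfok : ok f = true)
    (hsq : 1 + (M.map fun w => w.1 * w.1).sum + (p - 1) / e * (f * f) ≤ 443520)
    (hv : ∀ w ∈ M, okVal C w.1 w.2 = true ∧ ((4 * p : ℕ) : ℤ) ∣ (w.1 : ℤ) - w.2)
    (hr : okVal C f r = true) (hr' : ((4 * p : ℕ) : ℤ) ∣ (f : ℤ) - r)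
    (hT : 1 + (M.map fun w => sgn p w.1 * w.2).sum = ε * r)
    (hQ : 1 + (M.map fun w => w.2 * w.2).sum + (((p - 1) / e : ℕ) : ℤ) * (r * r) ≤ (C : ℤ)) (hC : C ∈ Cs)
    (hS : 443520 + (M.map fun w => sgn p w.1 * w.2 * w.2 * ((443520 / w.1 : ℕ) : ℤ)).sum =
      ε * r * r * ((443520 / f : ℕ) : ℤ)) : False := by
  obtain ⟨l, hl, hl', h1, h2⟩ := mem_tuplesOdd (M.map Prod.fst) (e := e)
    (by rw [Multiset.card_map, hcard])
    (fun d hd' => by obtain ⟨w, hw, rfl⟩ := Multiset.mem_map.mp hd'; exact hd w hw) hε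
    (by rw [Multiset.map_map]; exact hdeg) hf hfd hfp hfok (by rw [Multiset.map_map]; exact hsq)
  obtain ⟨L, rfl, rfl⟩ := exists_lift Prod.fst l M hl'.symm
  simp only [Multiset.map_coe, Multiset.sum_coe, Multiset.mem_coe] at hv hT hQ hS
  simp only [deadOdd, List.all_eq_true] at h
  have h3 := fold_spec L 1 1 443520 (h _ hl C hC)
    (fun w hw => mem_vals hp (hv w hw).1 (hv w hw).2)
    (le_trans (le_add_of_nonneg_right (mul_nonneg (Int.natCast_nonneg _) (mul_self_nonneg r))) hQ)
  rw [h1, h2] at h3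
  have hr2 : ε * (1 + (L.map fun w => sgn p w.1 * w.2).sum) = r := by
    rw [hT, ← mul_assoc]; rcases hε with rfl | rfl <;> simp
  simp only [chkOdd, hr2, hr, Bool.not_true, Bool.false_or, Bool.or_eq_true, decide_eq_true_eq] at h3
  rcases h3 with (h3 | h3) | h3
  · exact h3 (Int.emod_eq_zero_of_dvd hr')
  · omega
  · omega

/-- Divisors of a product. -/
def dvs (ns : List ℕ) : List ℕ :=
  ns.foldr (fun n L => ((List.range (n + 1)).filter fun a => n % a = 0).flatMap fun a => L.map (a * ·)) [1]

theorem mem_dvs : ∀ (ns : List ℕ) {k : ℕ}, (∀ n ∈ ns, 0 < n) → k ∣ ns.prod → k ∈ dvs ns := by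
  intro ns
  induction ns with
  | nil => intro k _ h; simpa [dvs] using h
  | cons n ns ih =>
    intro k hn h
    rw [List.prod_cons] at h
    obtain ⟨a, b, ha, hb, rfl⟩ := exists_dvd_and_dvd_of_dvd_mul h
    exact List.mem_flatMap.mpr ⟨a, List.mem_filter.mpr ⟨List.mem_range.mpr
      (Nat.lt_succ_of_le (Nat.le_of_dvd (hn n List.mem_cons_self) ha)),
      decide_eq_true (Nat.mod_eq_zero_of_dvd ha)⟩,
      List.mem_map.mpr ⟨b, ih (fun m hm => hn m (List.mem_cons_of_mem _ hm)) hb, rfl⟩⟩

/-- Orders of centralisers of an involution commuting with an element of order 11. -/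
def centsEleven : List ℕ := ((dvs [64, 9, 5, 7]).filter fun k => k < 20160).map (22 * ·)

/-- The orders `C` for `e = 6`, `|K| = c` at 7, apart from the case of eight Sylow subgroups. -/
def centsSeven : ℕ → List ℕ
  | 4 => [56, 168, 840, 2016, 2520, 6720, 20160]
  | _ => [56, 168, 280, 504, 840, 2016, 2520, 6720, 10080, 20160]

/-- The count excluded otherwise. -/
def exclSeven (c C : ℕ) : Option ℕ := if c = 60 ∧ C = 6720 then some 49 else none

theorem degs_two_eleven : tuplesOdd 11 2 (fun _ => true) = [] := by decide +kernel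

theorem degs_two_seven : tuplesOdd 7 2 okEleven = [] := by decide +kernel

theorem dead_eleven_five : deadOdd 11 5 (fun _ => true) centsEleven = true := by decide +kernel

/-- A degree with its square and its signed value. -/
def enc (p a : ℕ) : ℕ × ℕ × ℤ := (a, a * a, sgn p a * (a : ℤ))

/-- Run a check over the multisets with vanishing signed sum without listing them, cutting by the inequality of
Cauchy and Schwarz. -/
def allT : List (ℕ × ℕ × ℤ) → ℕ → ℕ → ℤ → (List ℕ → Bool) → Bool
  | [], k, _, S, f => bif Nat.beq k 0 && Nat.beq S.natAbs 0 then f [] else true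
  | (a, sq, w) :: X, k, B, S, f => Nat.blt (k * B) (S.natAbs * S.natAbs) ||
      (bif X.isEmpty then [k] else List.range (k + 1)).all fun j =>
        bif Nat.ble (j * sq) B then allT X (k - j) (B - j * sq) (S + (j : ℤ) * w) fun L => f (List.replicate j a ++ L)
        else true

theorem combos_spec : ∀ (X : List ℕ) (k B : ℕ) (L : List ℕ), L ∈ combos X k B →
    L.length = k ∧ (L.map fun d => d * d).sum ≤ B := by
  intro X
  induction X with
  | nil =>
    intro k B L h
    by_cases hk : k = 0 <;> simp [combos, hk] at h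
    subst h; simp [hk]
  | cons a X ih =>
    intro k B L h
    simp only [combos, List.mem_flatMap, List.mem_range] at h
    obtain ⟨j, hj, h⟩ := h
    split at h
    · obtain ⟨M, hM, rfl⟩ := List.mem_map.mp h
      obtain ⟨h1, h2⟩ := ih _ _ M hM
      simp only [List.length_append, List.length_replicate, List.map_append, List.map_replicate, List.sum_append,
        List.sum_replicate, smul_eq_mul]
      omega
    · simp at h

theorem sum_sq_le : ∀ L : List ℕ, L.sum * L.sum ≤ L.length * (L.map fun d => d * d).sum := by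
  intro L
  induction L with
  | nil => simp
  | cons a L ih =>
    simp only [List.sum_cons, List.length_cons, List.map_cons]
    generalize L.length = k at ih ⊢
    generalize L.sum = T at ih ⊢
    generalize (L.map fun d => d * d).sum = Q at ih ⊢
    rcases Nat.eq_zero_or_pos k with rfl | hk
    · have hT : T = 0 := by nlinarith
      subst hT; nlinarith
    · zify at ih hk ⊢
      refine le_of_mul_le_mul_left ?_ hk
      nlinarith [sq_nonneg ((k : ℤ) * a - T)]

theorem natAbs_signed_le (p : ℕ) : ∀ L : List ℕ, ((L.map fun d => sgn p d * (d : ℤ)).sum).natAbs ≤ L.sum := by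
  intro L
  induction L with
  | nil => simp
  | cons a L ih =>
    simp only [List.map_cons, List.sum_cons]
    refine (Int.natAbs_add_le _ _).trans (Nat.add_le_add ?_ ih)
    rw [Int.natAbs_mul, Int.natAbs_natCast]
    refine (Nat.mul_le_mul_right a (?_ : (sgn p a).natAbs ≤ 1)).trans (one_mul a).le
    unfold CfsgLib.MTwentyTwoUnique.sgn
    split <;> simp

theorem allT_spec (p : ℕ) : ∀ (X : List ℕ) (k B : ℕ) (S : ℤ) (f : List ℕ → Bool),
    allT (X.map (enc p)) k B S f = true → ∀ L ∈ combos X k B,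
      S + (L.map fun d => sgn p d * (d : ℤ)).sum = 0 → f L = true := by
  intro X
  induction X with
  | nil =>
    intro k B S f h L hL hs
    obtain ⟨hlen, -⟩ := combos_spec _ _ _ _ hL
    by_cases hk : k = 0 <;> simp [combos, hk] at hL
    subst hL
    subst hk
    simp only [List.map_nil, List.sum_nil, add_zero] at hs
    subst hs
    simpa [allT] using h
  | cons a X ih =>
    intro k B S f h L hL hs
    obtain ⟨hlen, hsq⟩ := combos_spec _ _ _ _ hL
    simp only [List.map_cons, enc, allT, Bool.or_eq_true, Nat.blt_eq, List.all_eq_true] at h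
    rcases h with h | h
    · exfalso
      have h1 : S.natAbs ≤ L.sum := by
        have e : S = -(L.map fun d => sgn p d * (d : ℤ)).sum := by omega
        rw [e, Int.natAbs_neg]; exact natAbs_signed_le p L
      have := (Nat.mul_le_mul h1 h1).trans ((sum_sq_le L).trans (Nat.mul_le_mul_left _ hsq))
      rw [hlen] at this
      omega
    · simp only [combos, List.mem_flatMap, List.mem_range] at hL
      obtain ⟨j, hj, hL⟩ := hL
      split at hL
      case isFalse => simp at hL
      case isTrue hB =>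
        obtain ⟨M, hM, rfl⟩ := List.mem_map.mp hL
        have hjm : j ∈ (bif (X.map (enc p)).isEmpty then [k] else List.range (k + 1)) := by
          cases X with
          | nil =>
            by_cases hk : k - j = 0 <;> simp [combos, hk] at hM
            simp; omega
          | cons b Y => simp; omega
        have h1 := h j hjm
        rw [Nat.ble_eq.mpr hB] at h1
        refine ih (k - j) (B - j * (a * a)) (S + (j : ℤ) * (sgn p a * (a : ℤ))) (fun L => f (List.replicate j a ++ L)) h1 M hM ?_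
        simp only [List.map_append, List.map_replicate, List.sum_append, List.sum_replicate, nsmul_eq_mul] at hs
        rw [← hs]; ring

theorem deadFull_of_allT {p : ℕ} {ok : ℕ → Bool} {cs Cs : List ℕ} {excl : ℕ → Option ℕ} (D : List (ℕ × ℕ × ℤ))
    (hD : (degs p ok).map (enc p) = D)
    (h : allT D (p - 1) 443519 1 (fun L => Cs.all fun C => fold p C (chkFull p cs C (excl C)) L 1 1 443520) = true) :
    deadFull p ok cs Cs excl = true := by
  subst hD
  simp only [deadFull, tuplesFull, List.all_eq_true, List.mem_filter, decide_eq_true_eq]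
  rintro L ⟨hL, hs⟩ C hC
  exact List.all_eq_true.mp (allT_spec p _ _ _ _ _ h L hL hs) C hC

theorem dead_eleven_ten :
    deadFull 11 (fun _ => true) [6, 28, 72, 336] centsEleven (fun _ => none) = true :=
  deadFull_of_allT [(32, 1024, -32), (45, 2025, 45), (56, 3136, 56), (120, 14400, -120), (144, 20736, 144),
    (210, 44100, 210), (252, 63504, -252), (320, 102400, 320), (384, 147456, -384), (560, 313600, -560)]
    (by decide +kernel) (by decide +kernel)

theorem dead_seven_three : deadOdd 7 3 okEleven [2016, 6720, 20160, 10080] = true := by decide +kernel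

theorem dead_seven_four : deadFull 7 okEleven [4] (centsSeven 4) (exclSeven 4) = true := by decide +kernel

theorem dead_seven_sixty : deadFull 7 okEleven [60] (centsSeven 60) (exclSeven 60) = true := by
  decide +kernel

end CfsgLib.MTwentyTwoUnique.FromOrder
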