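import Cfsg.Agent.Lib.MTwentyTwoUnique.FromOrder.Eleven
import Cfsg.Agent.Lib.MTwentyTwoUnique.Seven
import Mathlib

/-!
A simple group of order 443520: Sylow tools and the first cases at 7.
-/

set_option autoImplicit false
set_option linter.style.haveILetI false
set_option linter.unusedSectionVars false

noncomputable section

open scoped Classical

namespace CfsgLib.MTwentyTwoUnique.FromOrder

open Subgroup CfsgLib.InvolChar CfsgLib.SmallGroups CfsgLib.SmallSimple Cfsg

section

variable {G : Type*} [Group G] [Finite G]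

/-- The Frattini argument for one element. -/
theorem exists_mul_mem_normalizer {p : ℕ} [Fact p.Prime] (P : Sylow p G) {H : Subgroup G}
    (hPH : (P : Subgroup G) ≤ H) {a : G} (ha : ∀ x ∈ (P : Subgroup G), a * x * a⁻¹ ∈ H) :
    ∃ c ∈ H, c * a ∈ normalizer ((P : Subgroup G) : Set G) := by
  have h1 : ((a • P : Sylow p G) : Subgroup G) ≤ H := by
    rw [Sylow.coe_subgroup_smul]
    rintro _ ⟨x, hx, rfl⟩
    exact ha x hx
  obtain ⟨c, hc⟩ := MulAction.exists_smul_eq H ((a • P).subtype h1) (P.subtype hPH)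
  rw [Sylow.smul_subtype] at hc
  have h2 := Sylow.subtype_injective hc
  exact ⟨c, c.2, Sylow.smul_eq_iff_mem_normalizer.1 (by rw [mul_smul]; exact h2)⟩

/-- Two subgroups of `T` meet in at least the expected order. -/
theorem card_mul_le_inf {A B T : Subgroup G} (hA : A ≤ T) (hB : B ≤ T) :
    Nat.card A * Nat.card B ≤ Nat.card (A ⊓ B : Subgroup G) * Nat.card T := by
  have h : ∀ X : Subgroup G, Nat.card (A ⊓ X : Subgroup G) * A.relIndex X = Nat.card X := fun X => by
    rw [Subgroup.relIndex, ← (A.subgroupOf X).card_mul_index]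
    congr 1
    rw [← Nat.card_congr (subgroupOfEquivOfLe (inf_le_right : A ⊓ X ≤ X)).toEquiv,
      Subgroup.inf_subgroupOf_right]
  have hT := h T
  rw [inf_eq_left.2 hA] at hT
  have hB' := h B
  have hle : A.relIndex B ≤ A.relIndex T := relIndex_le_of_le_right hB (by
    intro h0
    rw [h0, mul_zero] at hT
    exact (Nat.card_pos (α := T)).ne hT)
  calc Nat.card A * Nat.card B = Nat.card A * (Nat.card (A ⊓ B : Subgroup G) * A.relIndex B) := by rw [hB']
    _ ≤ Nat.card A * (Nat.card (A ⊓ B : Subgroup G) * A.relIndex T) :=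
      Nat.mul_le_mul_left _ (Nat.mul_le_mul_left _ hle)
    _ = Nat.card (A ⊓ B : Subgroup G) * Nat.card T := by rw [← hT]; ring

/-- A non-trivial subgroup normalised by a `p`-group containing it meets the centre. -/
theorem exists_central_in {p : ℕ} [Fact p.Prime] {S D : Subgroup G} (hS : IsPGroup p S) (hDS : D ≤ S)
    (hD : D ≠ ⊥) (hnorm : ∀ s ∈ S, ∀ d ∈ D, s * d * s⁻¹ ∈ D) :
    ∃ k ∈ D, orderOf k = p ∧ ∀ s ∈ S, s * k = k * s := by
  let act : MulAction S D :=
    { smul := fun s d => ⟨(s : G) * d * (s : G)⁻¹, hnorm _ s.2 _ d.2⟩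
      one_smul := fun d => Subtype.ext (by show (1 : G) * d * (1 : G)⁻¹ = d; group)
      mul_smul := fun a b d => Subtype.ext (by
        show ((a : G) * b) * d * ((a : G) * b)⁻¹ = a * (b * d * (b : G)⁻¹) * (a : G)⁻¹
        group) }
  letI := act
  have hDp : IsPGroup p D := hS.to_le hDS
  haveI : Nontrivial D := D.nontrivial_iff_ne_bot.2 hD
  obtain ⟨n, hn⟩ := IsPGroup.iff_card.1 hDp
  have hpD : p ∣ Nat.card D := by
    rcases Nat.eq_zero_or_pos n with h | h
    · have := Finite.one_lt_card (α := D)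
      rw [hn, h, pow_zero] at this
      omega
    · rw [hn]; exact dvd_pow_self p h.ne'
  have hone : (1 : D) ∈ MulAction.fixedPoints S D := fun s => Subtype.ext (by
    show (s : G) * 1 * (s : G)⁻¹ = 1; group)
  obtain ⟨b, hb, hb1⟩ := hS.exists_fixed_point_of_prime_dvd_card_of_fixed_point D hpD hone
  obtain ⟨j, hj⟩ := IsPGroup.iff_orderOf.1 hDp b
  have hj0 : j ≠ 0 := fun h => hb1 (by rw [h, pow_zero, orderOf_eq_one_iff] at hj; exact hj.symm)
  refine ⟨((b ^ p ^ (j - 1) : D) : G), Subtype.prop _, ?_, fun s hs => ?_⟩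
  · rw [Subgroup.orderOf_coe, orderOf_pow' b (pow_ne_zero _ (Fact.out : p.Prime).ne_zero), hj,
      Nat.gcd_eq_right (pow_dvd_pow p (Nat.sub_le j 1)), Nat.pow_div (Nat.sub_le j 1) (Fact.out : p.Prime).pos,
      show j - (j - 1) = 1 by omega, pow_one]
  · have h1 : s * (b : G) * s⁻¹ = b := congrArg Subtype.val (hb ⟨s, hs⟩)
    have h2 : Commute s (b : G) := mul_inv_eq_iff_eq_mul.1 h1
    rw [SubmonoidClass.coe_pow]
    exact (h2.pow_right _).eq

/-- The part of a subgroup of order 64 in a Sylow 2-subgroup of order 128. -/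
theorem exists_index_two {T : Subgroup G} (hT : Nat.card T = 64)
    (hG : ∀ S : Sylow 2 G, Nat.card (S : Subgroup G) = 128) :
    ∃ (S : Subgroup G) (g : G), IsPGroup 2 S ∧ Nat.card S = 128 ∧ T ≤ S ∧ g ∈ S ∧
      (∀ t ∈ T, g * t * g⁻¹ ∈ T) ∧ (∀ t ∈ T, g⁻¹ * t * g ∈ T) ∧ g * g ∈ T ∧
      ∀ s ∈ S, s ∈ T ∨ g⁻¹ * s ∈ T := by
  haveI : Fact (Nat.Prime 2) := ⟨Nat.prime_two⟩
  obtain ⟨S, hS⟩ := (IsPGroup.of_card (n := 6) (by rw [hT]; norm_num) : IsPGroup 2 T).exists_le_sylow
  have hidx : (T.subgroupOf (S : Subgroup G)).index = 2 := by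
    have h := (T.subgroupOf (S : Subgroup G)).card_mul_index
    rw [Nat.card_congr (subgroupOfEquivOfLe hS).toEquiv, hT, hG S] at h
    omega
  have hn := Subgroup.normal_of_index_eq_two hidx
  obtain ⟨g, hg⟩ : ∃ g : (S : Subgroup G), g ∉ T.subgroupOf (S : Subgroup G) := by
    by_contra hall
    push Not at hall
    rw [(Subgroup.eq_top_iff' (T.subgroupOf (S : Subgroup G))).2 hall, Subgroup.index_top] at hidx
    omega
  refine ⟨S, g, S.2, hG S, hS, g.2, fun t ht => ?_, fun t ht => ?_, ?_, fun s hs => ?_⟩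
  · exact hn.conj_mem ⟨t, hS ht⟩ ht g
  · have h := hn.conj_mem ⟨t, hS ht⟩ ht g⁻¹
    rw [mem_subgroupOf] at h
    simpa using h
  · exact (Subgroup.mul_self_mem_of_index_two hidx g : _)
  · by_cases h : s ∈ T
    · exact Or.inl h
    · refine Or.inr ?_
      have := (Subgroup.mul_mem_iff_of_index_two hidx (a := g⁻¹) (b := ⟨s, hs⟩)).2
        (iff_of_false (fun h' => hg (by simpa using inv_mem h')) h)
      exact this

/-- `A ∩ Aᵍ` is normal in the Sylow subgroup, for `A` normal in `T`. -/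
theorem inf_conj_normalized {T S A : Subgroup G} {g : G} (hg' : ∀ t ∈ T, g⁻¹ * t * g ∈ T)
    (hgg : g * g ∈ T) (hS : ∀ s ∈ S, s ∈ T ∨ g⁻¹ * s ∈ T) (hA : ∀ t ∈ T, ∀ a ∈ A, t * a * t⁻¹ ∈ A) :
    ∀ s ∈ S, ∀ d ∈ A ⊓ A.map (MulAut.conj g).toMonoidHom,
      s * d * s⁻¹ ∈ A ⊓ A.map (MulAut.conj g).toMonoidHom := by
  have hmem : ∀ x, x ∈ A.map (MulAut.conj g).toMonoidHom ↔ g⁻¹ * x * g ∈ A := fun x => by
    constructor
    · rintro ⟨a, ha, rfl⟩
      simpa [mul_assoc] using ha
    · exact fun h => ⟨_, h, by simp [mul_assoc]⟩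
  have hT : ∀ t ∈ T, ∀ d ∈ A ⊓ A.map (MulAut.conj g).toMonoidHom,
      t * d * t⁻¹ ∈ A ⊓ A.map (MulAut.conj g).toMonoidHom := by
    intro t ht d hd
    obtain ⟨h1, h2⟩ := Subgroup.mem_inf.1 hd
    refine Subgroup.mem_inf.2 ⟨hA t ht d h1, (hmem _).2 ?_⟩
    have := hA _ (hg' t ht) _ ((hmem d).1 h2)
    convert this using 1
    group
  have hgA : ∀ d ∈ A ⊓ A.map (MulAut.conj g).toMonoidHom,
      g * d * g⁻¹ ∈ A ⊓ A.map (MulAut.conj g).toMonoidHom := by
    intro d hd
    obtain ⟨h1, h2⟩ := Subgroup.mem_inf.1 hd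
    refine Subgroup.mem_inf.2 ⟨?_, ⟨d, h1, rfl⟩⟩
    have := hA _ hgg _ ((hmem d).1 h2)
    convert this using 1
    group
  intro s hs d hd
  rcases hS s hs with h | h
  · exact hT s h d hd
  · have := hgA _ (hT _ h d hd)
    convert this using 1
    group

end

variable {G : Type*} [Group G] [Fintype G]

theorem card_sylow_two (hG : SG G) (S : Sylow 2 G) : Nat.card (S : Subgroup G) = 128 := by
  haveI : Fact (Nat.Prime 2) := ⟨Nat.prime_two⟩
  simpa using card_sylow_eq (show Nat.card G = 2 ^ 7 * 3465 by rw [hG.card]; norm_num) (by norm_num) S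

/-- The residues of the degrees modulo 11. -/
theorem okEleven_of (hG : SG G) (χ : IrrCharacter G) : okEleven (deg χ) = true := by
  haveI : Fact (Nat.Prime 11) := ⟨by norm_num⟩
  obtain ⟨x, hx⟩ := exists_prime_orderOf_dvd_card' (G := G) 11 (by rw [hG.card]; norm_num)
  obtain ⟨P, hPx, hcx⟩ := exists_sylow_zpowers (m := 40320) (by rw [hG.card]) (by norm_num) hx
  obtain ⟨h1, h2⟩ := eleven hG x hx
  rw [hcx] at h1
  rw [← hPx] at h2
  have hP : Nat.card (P : Subgroup G) = 11 := by rw [hPx, Nat.card_zpowers, hx]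
  have hce := Order459648.card_centralizer_mul_relIndex (P : Subgroup G)
  rw [h1, h2] at hce
  obtain ⟨B⟩ := exists_sc P hP h1 5 (Nat.eq_of_mul_eq_mul_left (by norm_num : 0 < 11) hce)
  simp only [okEleven, decide_eq_true_eq]
  by_cases h : 11 ∣ deg χ
  · simp [Nat.mod_eq_zero_of_dvd h]
  rcases Finset.mem_union.mp (B.mem_of_not_dvd h) with hX | hY
  · have h1 := B.deg_X χ hX
    rcases B.s_sq χ hX with e | e <;> rw [e] at h1 <;> simp only [List.mem_cons] <;> omega
  · have h1 := B.deg_f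
    rw [← B.deg_Y χ hY] at h1
    rcases B.ε_sq with e | e <;> rw [e] at h1 <;> simp only [List.mem_cons] <;> omega

/-- Degrees five and six do not both occur. -/
theorem not_five_six (hG : SG G) {χ θ : IrrCharacter G} (hχ : deg χ = 6) (hθ : deg θ = 5) : False := by
  haveI : Fact (Nat.Prime 11) := ⟨by norm_num⟩
  obtain ⟨x, hx⟩ := exists_prime_orderOf_dvd_card' (G := G) 11 (by rw [hG.card]; norm_num)
  obtain ⟨P, hPx, hcx⟩ := exists_sylow_zpowers (m := 40320) (by rw [hG.card]) (by norm_num) hx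
  obtain ⟨h1, h2⟩ := eleven hG x hx
  rw [hcx] at h1
  rw [← hPx] at h2
  have hP : Nat.card (P : Subgroup G) = 11 := by rw [hPx, Nat.card_zpowers, hx]
  have hce := Order459648.card_centralizer_mul_relIndex (P : Subgroup G)
  rw [h1, h2] at hce
  obtain ⟨B⟩ := exists_sc P hP h1 5 (Nat.eq_of_mul_eq_mul_left (by norm_num : 0 < 11) hce)
  have hY : ∀ η : IrrCharacter G, deg η = 5 ∨ deg η = 6 → deg η = B.f := fun η hη => by
    rcases Finset.mem_union.mp (B.mem_of_not_dvd (χ := η) (by omega)) with hX | hY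
    · have h1 := B.deg_X η hX
      rcases B.s_sq η hX with e | e <;> rw [e] at h1 <;> omega
    · exact B.deg_Y η hY
  have := hY χ (Or.inr hχ)
  have := hY θ (Or.inl hθ)
  omega

/-- An element commuting with an element of order 7 has centraliser of order prime to 11. -/
theorem not_eleven_dvd (hG : SG G) {z : G} (hz : z ≠ 1) (h7 : 7 ∣ Nat.card (centralizer ({z} : Set G))) :
    ¬ 11 ∣ Nat.card (centralizer ({z} : Set G)) := by
  haveI : Fact (Nat.Prime 11) := ⟨by norm_num⟩
  intro h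
  obtain ⟨c, hc⟩ := exists_prime_orderOf_dvd_card' (G := centralizer ({z} : Set G)) 11 h
  have hcG : orderOf (c : G) = 11 := by rw [Subgroup.orderOf_coe, hc]
  have hd := Subgroup.orderOf_dvd_natCard (s := centralizer ({(c : G)} : Set G))
    (mem_centralizer_singleton_iff.mpr (mem_centralizer_singleton_iff.mp c.2).symm)
  rw [(eleven hG _ hcG).1] at hd
  rcases (Nat.dvd_prime (by norm_num)).mp hd with e | e
  · exact hz (orderOf_eq_one_iff.mp e)
  · rw [(eleven hG z e).1] at h7
    norm_num at h7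

variable [Fact (Nat.Prime 7)] (P : Sylow 7 G)

theorem card_seven (hG : SG G) : Nat.card (P : Subgroup G) = 7 := by
  simpa using card_sylow_eq (a := 1) (show Nat.card G = 7 ^ 1 * 63360 by rw [hG.card]; norm_num) (by norm_num) P

/-- The order of a subgroup of order prime to 11 containing `P`. -/
theorem local_seven_facts (hG : SG G) {X : Subgroup G} (hPX : (P : Subgroup G) ≤ X)
    (h11 : ¬ 11 ∣ Nat.card X) :
    ∃ F j : ℕ, Nat.card (Sylow 7 X) = F ∧ F % 7 = 1 ∧ F * j ∣ 5760 ∧
      Nat.card (normalizer ((P : Subgroup G) : Set G) ⊓ X : Subgroup G) = 7 * j ∧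
      Nat.card X = F * (7 * j) := by
  have h7 : 7 ∣ Nat.card (normalizer ((P : Subgroup G) : Set G) ⊓ X : Subgroup G) := by
    have h := card_dvd_of_le (le_inf le_normalizer hPX :
      (P : Subgroup G) ≤ normalizer ((P : Subgroup G) : Set G) ⊓ X)
    rwa [card_seven P hG] at h
  obtain ⟨j, hj⟩ := h7
  have hH := SylowLocal.card_eq_mul_inf P hPX
  rw [hj] at hH
  refine ⟨_, j, rfl, card_sylow_modEq_one 7 _, ?_, hj, hH⟩
  have hd : Nat.card X ∣ 40320 := by
    refine (Nat.Coprime.dvd_mul_right (k := Nat.card X) (n := 11) ?_).1 ?_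
    · exact ((Nat.Prime.coprime_iff_not_dvd (by norm_num)).2 h11).symm
    · exact (hG.card ▸ card_subgroup_dvd_card _ : _ ∣ 443520).trans (by norm_num)
  rw [hH, show 40320 = 7 * 5760 by norm_num, mul_left_comm] at hd
  exact Nat.dvd_of_mul_dvd_mul_left (by norm_num) hd

/-- The order of the centraliser of an element centralising `P`. -/
theorem cent_seven_facts (hG : SG G) {z : G} (hz : z ≠ 1)
    (hzC : z ∈ centralizer ((P : Subgroup G) : Set G)) :
    ∃ F j : ℕ, Nat.card (Sylow 7 (centralizer ({z} : Set G))) = F ∧ F % 7 = 1 ∧ F * j ∣ 5760 ∧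
      Nat.card (normalizer ((P : Subgroup G) : Set G) ⊓ centralizer ({z} : Set G) : Subgroup G) = 7 * j ∧
      Nat.card (centralizer ({z} : Set G)) = F * (7 * j) := by
  refine local_seven_facts P hG (sylow_le_centralizer P hzC) (not_eleven_dvd hG hz ?_)
  have h := card_dvd_of_le (sylow_le_centralizer P hzC)
  rwa [card_seven P hG] at h

/-- A local subgroup containing `P` and a Sylow 2-subgroup. -/
theorem no_big_local (hG : SG G) {M a : ℕ} (ha : a = 3 ∨ a = 6)
    (hN : Nat.card (normalizer ((P : Subgroup G) : Set G)) = 7 * M) (hM : ¬ 2 ^ (a + 1) ∣ M)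
    {X T : Subgroup G} (hPX : (P : Subgroup G) ≤ X) (h11 : ¬ 11 ∣ Nat.card X)
    (hTN : T ≤ normalizer ((P : Subgroup G) : Set G)) (hT : Nat.card T = 2 ^ a) (hTk : T ≤ X)
    (h128 : 128 ∣ Nat.card X) : False := by
  obtain ⟨F, j, -, hF, hFj, hj, hH⟩ := local_seven_facts P hG hPX h11
  have hja : 2 ^ a ∣ j := by
    have h := card_dvd_of_le (le_inf hTN hTk)
    rw [hT, hj] at h
    exact (Nat.Coprime.pow_left a (by norm_num : Nat.Coprime 2 7)).dvd_of_dvd_mul_left h
  have hjM : j ∣ M := by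
    have h := card_dvd_of_le (inf_le_left :
      normalizer ((P : Subgroup G) : Set G) ⊓ X ≤ _)
    rw [hN, hj] at h
    exact Nat.dvd_of_mul_dvd_mul_left (by norm_num) h
  obtain ⟨o, rfl⟩ := hja
  have ho : ¬ 2 ∣ o := fun h => hM ((pow_succ 2 a ▸ Nat.mul_dvd_mul_left _ h).trans hjM)
  have hF2 : 2 ^ (7 - a) ∣ F := by
    rw [hH] at h128
    have h1 : 2 ^ 7 ∣ F * (2 ^ a * o) :=
      (Nat.Coprime.pow_left 7 (by norm_num : Nat.Coprime 2 7)).dvd_of_dvd_mul_left
        (by rw [← mul_left_comm]; exact h128)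
    have h2 : 2 ^ (7 - a) * 2 ^ a ∣ F * o * 2 ^ a := by
      rw [← pow_add, show 7 - a + a = 7 by omega]
      rwa [mul_comm (2 ^ a) o, ← mul_assoc] at h1
    exact (Nat.Coprime.pow_left _ ((Nat.prime_two.coprime_iff_not_dvd).2 ho)).dvd_of_dvd_mul_right
      (Nat.dvd_of_mul_dvd_mul_right (by positivity) h2)
  have hFa : F * 2 ^ a ∣ 5760 := (Dvd.intro o (by ring)).trans hFj
  have key : ∀ k ∈ dvs [128, 9, 5], k % 7 = 1 →
      (k * 2 ^ 3 ∣ 5760 → 2 ^ 4 ∣ k → False) ∧ (k * 2 ^ 6 ∣ 5760 → 2 ^ 1 ∣ k → False) := by decide +kernel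
  have hmem := mem_dvs [128, 9, 5] (by simp) ((dvd_mul_right F _).trans hFj : F ∣ _)
  rcases ha with rfl | rfl
  · exact (key F hmem hF).1 hFa hF2
  · exact (key F hmem hF).2 hFa hF2

/-- An involution of `C(P)` in the centre of a Sylow 2-subgroup. -/
theorem no_central (hG : SG G) {M a : ℕ} (ha : a = 3 ∨ a = 6)
    (hN : Nat.card (normalizer ((P : Subgroup G) : Set G)) = 7 * M) (hM : ¬ 2 ^ (a + 1) ∣ M)
    {T : Subgroup G} (hTN : T ≤ normalizer ((P : Subgroup G) : Set G)) (hT : Nat.card T = 2 ^ a) {k : G}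
    (hk : k ≠ 1) (hkC : k ∈ centralizer ((P : Subgroup G) : Set G))
    (hTk : T ≤ centralizer ({k} : Set G)) (h128 : 128 ∣ Nat.card (centralizer ({k} : Set G))) : False := by
  refine no_big_local P hG ha hN hM (sylow_le_centralizer P hkC) (not_eleven_dvd hG hk ?_) hTN hT hTk h128
  have h := card_dvd_of_le (sylow_le_centralizer P hkC)
  rwa [card_seven P hG] at h

/-- No centraliser with regular part of order 15. -/
theorem not_seven_fifteen (hG : SG G)
    (hN : Nat.card (normalizer ((P : Subgroup G) : Set G)) = 7 * (3 * 15))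
    (hC : Nat.card (centralizer ((P : Subgroup G) : Set G)) = 7 * 15) : False := by
  haveI := hG.simple
  haveI : Fact (Nat.Prime 5) := ⟨by norm_num⟩
  obtain ⟨z, hzC, hz⟩ := Band6232.exists_of_dvd_centralizer (q := 5) (by norm_num) hC (by norm_num)
  obtain ⟨Z, hZz, hCz⟩ := exists_sylow_zpowers (m := 88704) (by rw [hG.card]) (by norm_num) hz
  have hZ : Nat.card (Z : Subgroup G) = 5 := by rw [hZz, Nat.card_zpowers, hz]
  refine not_normalizer_le_centralizer hG.not_comm (by rw [hG.card]; norm_num) Z fun a ha => ?_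
  have hPz := sylow_le_centralizer P hzC
  rw [hCz] at hPz
  have haC : ∀ x ∈ centralizer ((Z : Subgroup G) : Set G), a * x * a⁻¹ ∈ centralizer ((Z : Subgroup G) : Set G) := by
    intro x hx
    rw [mem_centralizer_iff] at hx ⊢
    intro y hy
    have h := hx _ ((ha (a⁻¹ * y * a)).2 (by simpa [mul_assoc] using hy))
    calc y * (a * x * a⁻¹) = a * (a⁻¹ * y * a * x) * a⁻¹ := by group
      _ = a * (x * (a⁻¹ * y * a)) * a⁻¹ := by rw [h]
      _ = a * x * a⁻¹ * y := by group
  obtain ⟨c, hc, hca⟩ := exists_mul_mem_normalizer P hPz fun x hx => haC x (hPz hx)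
  have hcaZ : c * a ∈ normalizer ((Z : Subgroup G) : Set G) :=
    mul_mem (centralizer_le_normalizer _ hc) ha
  have hord : Nat.Coprime (orderOf (c * a)) 4 := by
    have h := Subgroup.orderOf_dvd_natCard _ hca
    rw [hN] at h
    exact Nat.Coprime.coprime_dvd_left h (by norm_num)
  have hidx : Nat.card (normalizer ((Z : Subgroup G) : Set G)) ∣
      4 * Nat.card (centralizer ((Z : Subgroup G) : Set G)) := by
    have h := CfsgLib.Blocks.PrimeSylow.relIndex_dvd Z hZ
    rw [← Order459648.card_centralizer_mul_relIndex (Z : Subgroup G), mul_comm]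
    exact Nat.mul_dvd_mul_right h _
  have := SylowLocal.mem_centralizer_of_coprime _ hidx hcaZ hord
  simpa using mul_mem (inv_mem hc) this

/-- No Sylow 2-subgroup of order 64 in the normaliser. -/
theorem not_seven_big (hG : SG G) {r u : ℕ} (hru : r * u = 192) (hr : r ≤ 6)
    (hN : Nat.card (normalizer ((P : Subgroup G) : Set G)) = 7 * (r * u))
    (hrel : (centralizer ((P : Subgroup G) : Set G)).relIndex (normalizer ((P : Subgroup G) : Set G)) = r)
    : False := by
  haveI : Fact (Nat.Prime 2) := ⟨Nat.prime_two⟩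
  rw [hru] at hN
  set N := normalizer ((P : Subgroup G) : Set G)
  set C := centralizer ((P : Subgroup G) : Set G)
  obtain ⟨T0⟩ : Nonempty (Sylow 2 N) := inferInstance
  set T : Subgroup G := (T0 : Subgroup N).map N.subtype
  have hTN : T ≤ N := map_subtype_le _
  have hT : Nat.card T = 64 := by
    rw [card_map_of_injective N.subtype_injective]
    simpa using card_sylow_eq (show Nat.card N = 2 ^ 6 * 21 by rw [hN]; norm_num) (by norm_num) T0
  obtain ⟨S, g, hSp, hS, hTS, -, -, hg', hgg, hSc⟩ := exists_index_two hT (card_sylow_two hG)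
  set A : Subgroup G := T ⊓ C
  have hA : 12 * Nat.card A ≥ 2 * 64 := by
    have h : Nat.card (C ⊓ T : Subgroup G) * C.relIndex T = Nat.card T := by
      rw [Subgroup.relIndex, ← (C.subgroupOf T).card_mul_index]
      congr 1
      rw [← Nat.card_congr (subgroupOfEquivOfLe (inf_le_right : C ⊓ T ≤ T)).toEquiv,
        Subgroup.inf_subgroupOf_right]
    have h2 : C.relIndex T ≤ 6 := (relIndex_le_of_le_right hTN (by rw [hrel]; intro h0; rw [h0] at hru; omega)).trans
      (hrel.trans_le hr)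
    rw [inf_comm, hT] at h
    nlinarith
  have hAT : ∀ t ∈ T, ∀ a ∈ A, t * a * t⁻¹ ∈ A := by
    intro t ht a ha
    obtain ⟨haT, haC⟩ := Subgroup.mem_inf.1 ha
    refine Subgroup.mem_inf.2 ⟨mul_mem (mul_mem ht haT) (inv_mem ht), ?_⟩
    haveI : (C.subgroupOf N).Normal := by
      rw [← Subgroup.normalizerMonoidHom_ker]; exact MonoidHom.normal_ker _
    exact (Subgroup.Normal.conj_mem (H := C.subgroupOf N) inferInstance ⟨a, centralizer_le_normalizer _ haC⟩
      haC ⟨t, hTN ht⟩ : _)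
  set D := A ⊓ A.map (MulAut.conj g).toMonoidHom
  have hgA : A.map (MulAut.conj g).toMonoidHom ≤ S := by
    rintro _ ⟨x, hx, rfl⟩
    show g * x * g⁻¹ ∈ S
    exact hTS (by
      have := mul_mem (mul_mem hgg (hg' x hx.1)) (inv_mem hgg)
      convert this using 1
      group)
  have hD : D ≠ ⊥ := by
    intro h0
    have hle := card_mul_le_inf (T := T) (A := A) (B := A.map (MulAut.conj g).toMonoidHom) inf_le_left (by
      rintro _ ⟨x, hx, rfl⟩
      show g * x * g⁻¹ ∈ T
      have := mul_mem (mul_mem hgg (hg' x hx.1)) (inv_mem hgg)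
      convert this using 1
      group)
    rw [card_map_of_injective (MulAut.conj g).injective, hT] at hle
    change _ ≤ Nat.card D * 64 at hle
    rw [h0, Subgroup.card_bot] at hle
    nlinarith
  obtain ⟨k, hkD, hk2, hkS⟩ := exists_central_in hSp (inf_le_left.trans (inf_le_left.trans hTS)) hD
    (inf_conj_normalized hg' hgg hSc hAT)
  have hSk : S ≤ centralizer ({k} : Set G) := fun s hs => mem_centralizer_singleton_iff.2 (hkS s hs)
  refine no_central P hG (M := 192) (a := 6) (Or.inr rfl) hN (by norm_num) hTN (by rw [hT]; norm_num)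
    (fun h => by rw [h, orderOf_one] at hk2; norm_num at hk2) hkD.1.2 (hTS.trans hSk) ?_
  exact hS ▸ card_dvd_of_le hSk

end CfsgLib.MTwentyTwoUnique.FromOrder
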