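import Cfsg.Agent.Lib.MTwentyTwoUnique.FromOrder.Block
import Cfsg.Agent.Lib.MTwentyTwoUnique.FromOrder.Search
import Cfsg.Agent.Lib.MTwentyTwoUnique.DegSeven
import Cfsg.Agent.Lib.MTwelveUnique.Common
import Mathlib

/-!
A simple group of order 443520: from the principal block at a prime and an involution centralising a
Sylow subgroup to the searches.
-/

set_option autoImplicit false
set_option linter.style.haveILetI false
set_option linter.unusedSectionVars false

noncomputable section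

open scoped ComplexConjugate Classical

namespace CfsgLib.MTwentyTwoUnique.FromOrder

open Subgroup CfsgLib.InvolChar CfsgLib.Blocks CfsgLib.Blocks.PrimeSylow Cfsg

/-- Simplicity and the order. -/
structure SG (G : Type*) [Group G] : Prop where
  card : Nat.card G = 443520
  simple : IsSimpleGroup G

variable {G : Type*} [Group G] [Fintype G]

namespace SG

variable (hG : SG G)
include hG

omit [Fintype G] in
theorem not_comm : ¬ IsMulCommutative G := by
  haveI : Finite G := Nat.finite_of_card_ne_zero (by rw [hG.card]; norm_num)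
  haveI := hG.simple
  exact CfsgLib.SmallGroups.not_isMulCommutative_of_not_prime (by rw [hG.card]; norm_num)

theorem linear_trivial (f : G →* ℂˣ) : f = 1 := by
  haveI := hG.simple
  ext g
  have hp : commutator G = ⊤ := CfsgLib.SmallGroups.commutator_eq_top_of_simple hG.not_comm
  have hg : g ∈ f.ker := Abelianization.commutator_subset_ker f (by rw [hp]; exact mem_top g)
  exact congrArg Units.val (MonoidHom.mem_ker.mp hg)

theorem deg_dvd (χ : IrrCharacter G) : deg χ ∣ 443520 :=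
  hG.card ▸ CfsgLib.Char.degree_dvd_card χ.2 (deg_spec χ)

theorem sum_sq_deg : ∑ χ : IrrCharacter G, deg χ * deg χ = 443520 := by
  have h := CfsgLib.Char.sum_degree_sq (G := G)
  simp only [deg_spec, hG.card, pow_two] at h
  exact_mod_cast h

theorem sum_sq_le (S : Finset (IrrCharacter G)) : ∑ χ ∈ S, deg χ * deg χ ≤ 443520 :=
  hG.sum_sq_deg ▸ Finset.sum_le_sum_of_subset (Finset.subset_univ S)

theorem deg_lt (χ : IrrCharacter G) : deg χ < 666 := by
  have h := hG.sum_sq_le {χ}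
  rw [Finset.sum_singleton] at h
  by_contra hc
  nlinarith

theorem two_le_deg {χ : IrrCharacter G} (h : χ ≠ CfsgLib.Char.irrOne) : 2 ≤ deg χ := by
  haveI := hG.simple
  by_contra hc
  have h1 : deg χ = 1 := by have := deg_pos χ; omega
  exact h (CfsgLib.SmallGroups.MElevenDegrees.eq_irrOne_of_deg_one hG.not_comm χ h1)

end SG

variable {p : ℕ} [hp : Fact p.Prime] {P : Sylow p G} {hP : Nat.card P = p} {e : ℕ}

/-- With `e` odd no element inverts `P`. -/
theorem invSet_eq_empty (he : (centralizer ((P : Subgroup G) : Set G)).relIndex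
    (normalizer ((P : Subgroup G) : Set G)) = e) (hodd : e % 2 = 1) (hp2 : p ≠ 2) (t : G) :
    invSet (pw P hP 1) t = ∅ := by
  refine Finset.eq_empty_of_forall_notMem fun a ha => ?_
  obtain ⟨-, hax⟩ := mem_invSet.mp ha
  set x := pw P hP (1 : ZMod p) with hx
  have hz : zpowers x = (P : Subgroup G) := zpowers_pw P hP one_ne_zero
  have haN : a ∈ normalizer ((P : Subgroup G) : Set G) := by
    intro y
    have e : (P : Subgroup G).map (MulAut.conj a).toMonoidHom = (P : Subgroup G) := by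
      rw [← hz, MonoidHom.map_zpowers]
      show zpowers (a * x * a⁻¹) = _
      rw [hax, zpowers_inv]
    have h2 : y ∈ (P : Subgroup G) ↔ a * y * a⁻¹ ∈ (P : Subgroup G).map (MulAut.conj a).toMonoidHom :=
      (Subgroup.mem_map_iff_mem (f := (MulAut.conj a).toMonoidHom) (MulAut.conj a).injective
        (x := y)).symm
    rw [e] at h2
    exact h2
  have hCN : ((centralizer ((P : Subgroup G) : Set G)).subgroupOf
      (normalizer ((P : Subgroup G) : Set G))).Normal := by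
    rw [← Subgroup.normalizerMonoidHom_ker]
    infer_instance
  have h1 : a ^ e ∈ centralizer ((P : Subgroup G) : Set G) := by
    have h := Subgroup.pow_index_mem ((centralizer ((P : Subgroup G) : Set G)).subgroupOf
      (normalizer ((P : Subgroup G) : Set G))) ⟨a, haN⟩
    rw [← Subgroup.relIndex, he] at h
    exact h
  have hxP : x ∈ (P : Subgroup G) := pw_mem P hP 1
  have hax2 : a ^ 2 * x * (a ^ 2)⁻¹ = x := by
    calc a ^ 2 * x * (a ^ 2)⁻¹ = a * (a * x * a⁻¹) * a⁻¹ := by rw [pow_two]; group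
      _ = a * x⁻¹ * a⁻¹ := by rw [hax]
      _ = (a * x * a⁻¹)⁻¹ := by group
      _ = x := by rw [hax, inv_inv]
  have h2 : Commute (a ^ 2) x := mul_inv_eq_iff_eq_mul.mp hax2
  have h3 : Commute (a ^ e) x := (mem_centralizer_iff.mp h1 x hxP).symm
  have h4 : Commute a x := by
    have h5 := h3.mul_left (((h2.pow_left (e / 2))).inv_left)
    rwa [← pow_mul, ← div_eq_mul_inv, show a ^ e / a ^ (2 * (e / 2)) = a by
      rw [div_eq_iff_eq_mul, ← pow_succ']; congr 1; omega] at h5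
  have h5 : x ^ 2 = 1 := by
    have h6 : a * x * a⁻¹ = x := mul_inv_eq_iff_eq_mul.mpr h4.eq
    rw [hax] at h6
    rw [sq]
    nth_rewrite 1 [← h6]
    rw [inv_mul_cancel]
  have h6 := orderOf_dvd_of_pow_eq_one h5
  rw [hx, pw_one, orderOf_gen] at h6
  exact hp2 ((Nat.prime_dvd_prime_iff_eq hp.out Nat.prime_two).mp h6)

namespace PB

variable (B : PB G P hP e)
include B

theorem deg_rel {θ : IrrCharacter G} (hθ : θ ∈ B.Y) :
    B.ε * (B.f : ℤ) = ∑ χ ∈ B.X, B.s χ * (deg χ : ℤ) := by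
  have h := B.rel θ hθ 1 (by rw [orderOf_one]; exact hp.out.not_dvd_one)
  rw [deg_spec, B.deg_Y θ hθ, Finset.sum_congr rfl fun χ _ => by rw [deg_spec χ]] at h
  exact_mod_cast h

theorem one_X (h2 : 2 ≤ e) (he : e + 1 < p) :
    CfsgLib.Char.irrOne ∈ B.X ∧ B.s CfsgLib.Char.irrOne = 1 := by
  have hX : CfsgLib.Char.irrOne ∈ B.X := by
    refine (Finset.mem_union.mp B.one_mem).resolve_right fun h => ?_
    have h2' := B.deg_Y _ h
    rw [deg_irrOne] at h2'
    have h3 := B.deg_f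
    rw [← h2'] at h3
    rcases B.ε_sq with k | k <;> rw [k] at h3
    · have h4 : (p : ℤ) ∣ (e : ℤ) - 1 := by
        rw [← dvd_neg]; simpa using h3
      have h5 := Int.le_of_dvd (by omega) h4
      omega
    · have h4 : (p : ℤ) ∣ (e : ℤ) + 1 := by
        rw [add_comm]; simpa using h3
      have h5 := Int.le_of_dvd (by omega) h4
      omega
  refine ⟨hX, ?_⟩
  have h := B.val_X _ hX 1 one_ne_zero
  rw [CfsgLib.Char.irrOne_apply] at h
  exact_mod_cast h.symm

theorem sgn_X (hp2 : 2 < p) {χ : IrrCharacter G} (hχ : χ ∈ B.X) : sgn p (deg χ) = B.s χ :=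
  sgn_eq hp2 (B.s_sq χ hχ) (B.deg_X χ hχ)

theorem mod_X {χ : IrrCharacter G} (hχ : χ ∈ B.X) : deg χ % p = 1 ∨ deg χ % p = p - 1 := by
  have h := B.deg_X χ hχ
  have hp1 := hp.out.two_le
  have h1 : ((deg χ % p : ℕ) : ℤ) = B.s χ % p := by
    push_cast
    exact Int.emod_eq_emod_iff_emod_sub_eq_zero.mpr (Int.emod_eq_zero_of_dvd h)
  rcases B.s_sq χ hχ with k | k <;> rw [k] at h1
  · rw [Int.emod_eq_of_lt (by norm_num) (by omega)] at h1
    exact Or.inl (by exact_mod_cast h1)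
  · rw [show (-1 : ℤ) % (p : ℤ) = (p : ℤ) - 1 by
      rw [← Int.add_emod_right]
      exact (Int.emod_eq_of_lt (by omega) (by omega)).trans (by ring)] at h1
    exact Or.inr (by omega)

/-- The facts on a value at an involution centralising `P`. -/
theorem val_facts (hG : SG G) (hp2 : p ≠ 2) {t : G} (ht : t * t = 1) (ht1 : t ≠ 1)
    (htC : t ∈ centralizer ((P : Subgroup G) : Set G)) {χ : IrrCharacter G} (hχ : χ ∈ B.X ∪ B.Y)
    (hne : χ ≠ CfsgLib.Char.irrOne) :
    okVal (Nat.card (centralizer ({t} : Set G))) (deg χ) (intVal χ ht) = true ∧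
      ((4 * p : ℕ) : ℤ) ∣ (deg χ : ℤ) - intVal χ ht ∧ 2 * p < deg χ := by
  haveI := hG.simple
  set v := intVal χ ht
  set C := Nat.card (centralizer ({t} : Set G)) with hC
  have hlt : v * v < (deg χ : ℤ) * deg χ :=
    CfsgLib.MTwelveUnique.sq_lt_deg_sq hG.not_comm χ hne ht1 (intVal_spec χ ht)
  have hle : v * v ≤ (C : ℤ) := by
    rw [hC, ← CfsgLib.MTwelveUnique.sum_sq_val (fun χ => intVal χ ht) (fun χ => intVal_spec χ ht)]
    exact Finset.single_le_sum (f := fun χ => intVal χ ht * intVal χ ht)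
      (fun χ _ => mul_self_nonneg _) (Finset.mem_univ χ)
  have hmod := CfsgLib.MTwelveUnique.deg_dvd_index_mul χ (intVal_spec χ ht) hC.symm
  rw [hG.card] at hmod
  have h4 : (4 : ℤ) ∣ (deg χ : ℤ) - v :=
    CfsgLib.SmallGroups.PrimeRational.four_dvd_deg_sub hG.linear_trivial χ ht
  have hpd : (p : ℤ) ∣ (deg χ : ℤ) - v := dvd_sub_comm.mp (B.congr hp2 χ hχ t ht ht1 htC)
  have h4p : ((4 * p : ℕ) : ℤ) ∣ (deg χ : ℤ) - v := by
    have hc : IsCoprime ((4 : ℕ) : ℤ) ((p : ℕ) : ℤ) := Nat.isCoprime_iff_coprime.mpr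
      (Nat.Coprime.pow_left 2 ((Nat.coprime_primes Nat.prime_two hp.out).mpr (Ne.symm hp2)))
    rw [Nat.cast_mul]
    exact hc.mul_dvd h4 hpd
  refine ⟨by simp only [okVal, decide_eq_true_eq]; exact ⟨hlt, hle, hmod⟩, h4p, ?_⟩
  have hlt' : v.natAbs < deg χ := by
    by_contra hc
    have : (deg χ : ℤ) ≤ v.natAbs := by omega
    nlinarith [Int.natAbs_mul_self' v]
  have := Int.le_of_dvd (by omega) h4p
  omega

/-- The values on the block bound the centraliser. -/
theorem norm_le {t : G} (ht : t * t = 1) :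
    ∑ χ ∈ B.X, intVal χ ht * intVal χ ht + ∑ χ ∈ B.Y, intVal χ ht * intVal χ ht ≤
      (Nat.card (centralizer ({t} : Set G)) : ℤ) := by
  rw [← Finset.sum_union B.disj,
    ← CfsgLib.MTwelveUnique.sum_sq_val (fun χ => intVal χ ht) (fun χ => intVal_spec χ ht)]
  exact Finset.sum_le_sum_of_subset_of_nonneg (Finset.subset_univ _) fun χ _ _ => mul_self_nonneg _

/-- The common value on the exceptional characters. -/
theorem exists_val (hp2 : p ≠ 2) {t : G} (ht : t * t = 1) (ht1 : t ≠ 1) :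
    ∃ r : ℤ, (∀ θ ∈ B.Y, intVal θ ht = r) ∧ B.ε * r = ∑ χ ∈ B.X, B.s χ * intVal χ ht := by
  obtain ⟨θ₀, hθ₀⟩ := B.Y_ne
  have hto : ¬ p ∣ orderOf t := by
    rw [orderOf_eq_prime (p := 2) (by rw [sq]; exact ht) ht1]
    exact fun h => hp2 ((Nat.prime_dvd_prime_iff_eq hp.out Nat.prime_two).mp h)
  refine ⟨intVal θ₀ ht, fun θ hθ => ?_, ?_⟩
  · have h := B.Y_eq θ hθ θ₀ hθ₀ t hto
    rw [intVal_spec θ ht, intVal_spec θ₀ ht] at h
    exact_mod_cast h
  · have h := B.rel θ₀ hθ₀ t hto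
    rw [intVal_spec θ₀ ht, Finset.sum_congr rfl fun χ _ => by rw [intVal_spec χ ht]] at h
    exact_mod_cast h

/-- Degrees of the block with several exceptional characters. -/
theorem odd_degrees (hG : SG G) (h2 : 2 ≤ e) (he : e + 1 < p) (ok : ℕ → Bool)
    (hok : ∀ χ : IrrCharacter G, χ ≠ CfsgLib.Char.irrOne → ok (deg χ) = true)
    (hbig : ∀ χ ∈ B.X, χ ≠ CfsgLib.Char.irrOne → 2 * p < deg χ) :
    ((B.X.erase CfsgLib.Char.irrOne).val.map deg).card = e - 1 ∧
      (∀ d ∈ (B.X.erase CfsgLib.Char.irrOne).val.map deg, d ∈ degs p ok) ∧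
      1 + (((B.X.erase CfsgLib.Char.irrOne).val.map deg).map fun d => sgn p d * (d : ℤ)).sum = B.ε * B.f ∧
      2 ≤ B.f ∧ B.f ∣ 443520 ∧ ok B.f = true ∧
      1 + (((B.X.erase CfsgLib.Char.irrOne).val.map deg).map fun d => d * d).sum +
        (p - 1) / e * (B.f * B.f) ≤ 443520 := by
  obtain ⟨h1X, hs1⟩ := B.one_X h2 he
  obtain ⟨θ, hθ⟩ := B.Y_ne
  have hθne : θ ≠ CfsgLib.Char.irrOne := fun e => Finset.disjoint_left.mp B.disj h1X (e ▸ hθ)
  refine ⟨?_, ?_, ?_, B.deg_Y θ hθ ▸ hG.two_le_deg hθne, B.deg_Y θ hθ ▸ hG.deg_dvd θ,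
    B.deg_Y θ hθ ▸ hok θ hθne, ?_⟩
  · rw [Multiset.card_map, ← Finset.card_def, Finset.card_erase_of_mem h1X, B.card_X]
  · intro d hd
    obtain ⟨χ, hχ, rfl⟩ := Multiset.mem_map.mp hd
    obtain ⟨hne, hχX⟩ := Finset.mem_erase.mp (Finset.mem_def.mpr hχ)
    refine List.mem_filter.mpr ⟨List.mem_range.mpr (hG.deg_lt χ), ?_⟩
    rw [Bool.and_eq_true, decide_eq_true_eq]
    exact ⟨⟨hbig χ hχX hne, Nat.mod_eq_zero_of_dvd (hG.deg_dvd χ), B.mod_X hχX⟩, hok χ hne⟩
  · rw [B.deg_rel hθ, ← Finset.add_sum_erase _ _ h1X, hs1, deg_irrOne, Multiset.map_map]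
    show 1 + ∑ χ ∈ B.X.erase CfsgLib.Char.irrOne, sgn p (deg χ) * (deg χ : ℤ) = _
    rw [Finset.sum_congr rfl fun χ hχ => by rw [B.sgn_X (by omega) (Finset.mem_of_mem_erase hχ)]]
    push_cast
    ring
  · have h := hG.sum_sq_le (B.X ∪ B.Y)
    rw [Finset.sum_union B.disj, ← Finset.add_sum_erase _ _ h1X, deg_irrOne,
      Finset.sum_congr rfl (s₁ := B.Y) fun θ hθ => by rw [B.deg_Y θ hθ], Finset.sum_const, B.card_Y,
      smul_eq_mul, one_mul] at h
    rw [Multiset.map_map]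
    exact h

/-- No degrees with `e` non-exceptional characters. -/
theorem false_of_noTuples (hG : SG G) (h2 : 2 ≤ e) (he : e + 1 < p) {ok : ℕ → Bool}
    (hnone : tuplesOdd p e ok = [])
    (hok : ∀ χ : IrrCharacter G, χ ≠ CfsgLib.Char.irrOne → ok (deg χ) = true)
    (hbig : ∀ χ ∈ B.X, χ ≠ CfsgLib.Char.irrOne → 2 * p < deg χ) : False := by
  obtain ⟨h3, h4, h5, h6, h7, h8, h9⟩ := B.odd_degrees hG h2 he ok hok hbig
  exact noTuples_spec hnone _ h3 h4 B.ε_sq h5 h6 h7 B.deg_f h8 h9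

/-- No values with `e` odd. -/
theorem false_of_deadOdd (hG : SG G) (h2 : 2 ≤ e) (he : e + 1 < p)
    (hrel : (centralizer ((P : Subgroup G) : Set G)).relIndex (normalizer ((P : Subgroup G) : Set G)) = e)
    (hodd : e % 2 = 1) {ok : ℕ → Bool} {Cs : List ℕ} (hdead : deadOdd p e ok Cs = true)
    (hok : ∀ χ : IrrCharacter G, χ ≠ CfsgLib.Char.irrOne → ok (deg χ) = true) {t : G} (ht : t * t = 1)
    (ht1 : t ≠ 1) (htC : t ∈ centralizer ((P : Subgroup G) : Set G))
    (hC : Nat.card (centralizer ({t} : Set G)) ∈ Cs) : False := by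
  have hp2 : p ≠ 2 := by omega
  obtain ⟨h1X, hs1⟩ := B.one_X h2 he
  obtain ⟨θ, hθ⟩ := B.Y_ne
  have hθne : θ ≠ CfsgLib.Char.irrOne := fun e => Finset.disjoint_left.mp B.disj h1X (e ▸ hθ)
  have hbig : ∀ χ ∈ B.X, χ ≠ CfsgLib.Char.irrOne → 2 * p < deg χ := fun χ hχ hne =>
    (B.val_facts hG hp2 ht ht1 htC (Finset.mem_union_left _ hχ) hne).2.2
  obtain ⟨h3, h4, h5, h6, h7, h8, h9⟩ := B.odd_degrees hG h2 he ok hok hbig
  obtain ⟨r, hr, hT⟩ := B.exists_val hp2 ht ht1
  set C := Nat.card (centralizer ({t} : Set G)) with hCdef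
  have hvθ := B.val_facts hG hp2 ht ht1 htC (Finset.mem_union_right _ hθ) hθne
  rw [hr θ hθ, B.deg_Y θ hθ] at hvθ
  have hone : intVal CfsgLib.Char.irrOne ht = 1 := intVal_irrOne ht
  refine deadOdd_spec hdead hp.out.pos
    ((B.X.erase CfsgLib.Char.irrOne).val.map fun χ => (deg χ, intVal χ ht)) (C := C) (r := r)
    (by rwa [Multiset.card_map] at h3 ⊢) ?_ B.ε_sq ?_ h6 h7 B.deg_f h8 ?_ ?_ hvθ.1 hvθ.2.1 ?_ ?_ hC ?_
  · intro w hw
    obtain ⟨χ, hχ, rfl⟩ := Multiset.mem_map.mp hw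
    exact h4 _ (Multiset.mem_map_of_mem _ hχ)
  · rw [Multiset.map_map] at h5 ⊢; exact h5
  · rw [Multiset.map_map] at h9 ⊢; exact h9
  · intro w hw
    obtain ⟨χ, hχ, rfl⟩ := Multiset.mem_map.mp hw
    obtain ⟨hne, hχX⟩ := Finset.mem_erase.mp (Finset.mem_def.mpr hχ)
    have := B.val_facts hG hp2 ht ht1 htC (Finset.mem_union_left _ hχX) hne
    exact ⟨this.1, this.2.1⟩
  · rw [hT, ← Finset.add_sum_erase _ _ h1X, hs1, hone, mul_one, Multiset.map_map]
    show 1 + ∑ χ ∈ B.X.erase CfsgLib.Char.irrOne, sgn p (deg χ) * intVal χ ht = _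
    rw [Finset.sum_congr rfl fun χ hχ => by rw [B.sgn_X (by omega) (Finset.mem_of_mem_erase hχ)]]
  · have h := B.norm_le ht
    rw [← Finset.add_sum_erase _ _ h1X, hone, one_mul,
      Finset.sum_congr rfl (s₁ := B.Y) fun θ hθ => by rw [hr θ hθ], Finset.sum_const, B.card_Y,
      nsmul_eq_mul] at h
    rw [Multiset.map_map]
    exact h
  · have h := B.count_eq P hP hp2 ht r hr
    rw [invSet_eq_empty hrel hodd hp2 t, Finset.card_empty, Nat.cast_zero, zero_mul, zero_mul,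
      eq_comm, mul_eq_zero] at h
    have hne : (p : ℤ) * (reg P).card ≠ 0 := mul_ne_zero (by exact_mod_cast hp.out.ne_zero)
      (by exact_mod_cast (Finset.card_pos.mpr ⟨1, one_mem_reg P⟩).ne')
    have h' := h.resolve_left hne
    rw [PB.sg, sub_eq_zero, hG.card, ← Finset.add_sum_erase _ _ h1X, hs1, hone, deg_irrOne] at h'
    rw [Multiset.map_map, ← h']
    show _ + ∑ χ ∈ B.X.erase CfsgLib.Char.irrOne,
      sgn p (deg χ) * intVal χ ht * intVal χ ht * ((443520 / deg χ : ℕ) : ℤ) = _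
    rw [Finset.sum_congr rfl fun χ hχ => by rw [B.sgn_X (by omega) (Finset.mem_of_mem_erase hχ)]]
    norm_num

/-- The degrees and values on the symmetric block. -/
theorem full_data (hG : SG G) (he : e = p - 1) (hp5 : 5 ≤ p) {t : G} (ht : t * t = 1)
    (ht1 : t ≠ 1) (htC : t ∈ centralizer ((P : Subgroup G) : Set G)) :
    ∃ M : Multiset (ℕ × ℤ), (∀ w ∈ M, ∃ χ : IrrCharacter G, χ ≠ CfsgLib.Char.irrOne ∧
        w = (deg χ, intVal χ ht)) ∧ M.card = p - 1 ∧
      (∀ ok : ℕ → Bool, (∀ χ : IrrCharacter G, χ ≠ CfsgLib.Char.irrOne → ok (deg χ) = true) →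
        ∀ w ∈ M, w.1 ∈ degs p ok) ∧
      (∀ w ∈ M, okVal (Nat.card (centralizer ({t} : Set G))) w.1 w.2 = true ∧
        ((4 * p : ℕ) : ℤ) ∣ (w.1 : ℤ) - w.2) ∧
      (M.map fun w => w.1 * w.1).sum ≤ 443519 ∧
      1 + (M.map fun w => sgn p w.1 * (w.1 : ℤ)).sum = 0 ∧
      1 + (M.map fun w => sgn p w.1 * w.2).sum = 0 ∧
      1 + (M.map fun w => w.2 * w.2).sum ≤ (Nat.card (centralizer ({t} : Set G)) : ℤ) ∧
      ((invSet (pw P hP 1) t).card : ℤ) * (invSet (pw P hP 1) t).card *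
          ((Nat.card (centralizer ({t} : Set G)) : ℤ) * Nat.card (centralizer ({t} : Set G))) =
        (p : ℤ) * (reg P).card *
          (443520 + (M.map fun w => sgn p w.1 * w.2 * w.2 * ((443520 / w.1 : ℕ) : ℤ)).sum) := by
  have hp2 : p ≠ 2 := by omega
  have hpe : ((e : ℕ) : ℤ) = (p : ℤ) - 1 := by omega
  obtain ⟨η, hη⟩ := Finset.card_eq_one.mp (show B.Y.card = 1 by
    rw [B.card_Y, he, Nat.div_self (by omega)])
  have hηY : η ∈ B.Y := by simp [hη]
  have hsη : sgn p (deg η) = -B.ε := sgn_eq (by omega)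
    (by rcases B.ε_sq with k | k <;> simp [k]) (by
      have h1 := B.deg_f
      rw [← B.deg_Y η hηY, hpe] at h1
      have h2 : (deg η : ℤ) - -B.ε = (deg η : ℤ) - B.ε * ((p : ℤ) - 1) + B.ε * p := by ring
      rw [h2]
      exact dvd_add h1 (dvd_mul_left _ _))
  set W := B.X ∪ B.Y with hW
  have hsum : ∀ (g : G), ¬ p ∣ orderOf g →
      ∑ χ ∈ W, (sgn p (deg χ) : ℂ) * (χ : G → ℂ) g = 0 := fun g hg => by
    rw [hW, Finset.sum_union B.disj, hη, Finset.sum_singleton, hsη,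
      Finset.sum_congr rfl (g := fun χ => (B.s χ : ℂ) * (χ : G → ℂ) g) fun χ hχ => by
        rw [B.sgn_X (by omega) hχ], ← B.rel η hηY g hg]
    push_cast
    ring
  have h1W : CfsgLib.Char.irrOne ∈ W := B.one_mem
  have hs1 : sgn p 1 = 1 := by simp [sgn, Nat.mod_eq_of_lt hp.out.one_lt]
  have hto : ¬ p ∣ orderOf t := by
    rw [orderOf_eq_prime (p := 2) (by rw [sq]; exact ht) ht1]
    exact fun h => hp2 ((Nat.prime_dvd_prime_iff_eq hp.out Nat.prime_two).mp h)
  have hone : intVal CfsgLib.Char.irrOne ht = 1 := intVal_irrOne ht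
  have hdeg : ∑ χ ∈ W, sgn p (deg χ) * (deg χ : ℤ) = 0 := by
    have h := hsum 1 (by rw [orderOf_one]; exact hp.out.not_dvd_one)
    rw [Finset.sum_congr rfl fun χ _ => by rw [deg_spec χ]] at h
    exact_mod_cast h
  have hT : ∑ χ ∈ W, sgn p (deg χ) * intVal χ ht = 0 := by
    have h := hsum t hto
    rw [Finset.sum_congr rfl fun χ _ => by rw [intVal_spec χ ht]] at h
    exact_mod_cast h
  obtain ⟨r, hr, -⟩ := B.exists_val hp2 ht ht1
  have hcount := B.count_eq P hP hp2 ht r hr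
  have hsg : B.sg P hP ht r =
      ∑ χ ∈ W, sgn p (deg χ) * intVal χ ht * intVal χ ht * ((443520 / deg χ : ℕ) : ℤ) := by
    rw [PB.sg, hG.card, hW, Finset.sum_union B.disj, hη, Finset.sum_singleton, hsη, hr η hηY,
      B.deg_Y η hηY]
    rw [Finset.sum_congr rfl (f := fun χ => sgn p (deg χ) * intVal χ ht * intVal χ ht *
        ((443520 / deg χ : ℕ) : ℤ)) (g := fun χ => B.s χ * intVal χ ht * intVal χ ht *
        ((443520 / deg χ : ℕ) : ℤ)) fun χ hχ => by rw [B.sgn_X (by omega) hχ]]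
    ring
  rw [hsg, ← Finset.add_sum_erase _ _ h1W, deg_irrOne, hone, hs1] at hcount
  refine ⟨(W.erase CfsgLib.Char.irrOne).val.map fun χ => (deg χ, intVal χ ht), fun w hw => ?_,
    ?_, fun ok hok => ?_, ?_, ?_, ?_, ?_, ?_, ?_⟩
  · obtain ⟨χ, hχ, rfl⟩ := Multiset.mem_map.mp hw
    exact ⟨χ, (Finset.mem_erase.mp (Finset.mem_def.mpr hχ)).1, rfl⟩
  · rw [Multiset.card_map, ← Finset.card_def, Finset.card_erase_of_mem h1W, hW,
      Finset.card_union_of_disjoint B.disj, B.card_X, hη, Finset.card_singleton, he]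
    omega
  · intro w hw
    obtain ⟨χ, hχ, rfl⟩ := Multiset.mem_map.mp hw
    obtain ⟨hne, hχW⟩ := Finset.mem_erase.mp (Finset.mem_def.mpr hχ)
    refine List.mem_filter.mpr ⟨List.mem_range.mpr (hG.deg_lt χ), ?_⟩
    rw [Bool.and_eq_true, decide_eq_true_eq]
    refine ⟨⟨(B.val_facts hG hp2 ht ht1 htC hχW hne).2.2, Nat.mod_eq_zero_of_dvd (hG.deg_dvd χ), ?_⟩,
      hok χ hne⟩
    show deg χ % p = 1 ∨ deg χ % p = p - 1
    rcases Finset.mem_union.mp hχW with h | h
    · exact B.mod_X h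
    · rw [hη, Finset.mem_singleton] at h
      subst h
      have h2 : sgn p (deg χ) = 1 → deg χ % p = 1 := by
        intro h3
        by_contra h4
        simp [sgn, h4] at h3
      rcases B.ε_sq with k | k
      · have h3 := B.deg_f
        rw [k, ← B.deg_Y χ hηY, hpe, one_mul] at h3
        right
        have h4 : ((deg χ % p : ℕ) : ℤ) = ((p : ℤ) - 1) % p := by
          push_cast
          exact Int.emod_eq_emod_iff_emod_sub_eq_zero.mpr (Int.emod_eq_zero_of_dvd h3)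
        rw [Int.emod_eq_of_lt (by omega) (by omega)] at h4
        omega
      · exact Or.inl (h2 (by rw [hsη, k]; norm_num))
  · intro w hw
    obtain ⟨χ, hχ, rfl⟩ := Multiset.mem_map.mp hw
    obtain ⟨hne, hχW⟩ := Finset.mem_erase.mp (Finset.mem_def.mpr hχ)
    have := B.val_facts hG hp2 ht ht1 htC hχW hne
    exact ⟨this.1, this.2.1⟩
  · have h := hG.sum_sq_le W
    rw [← Finset.add_sum_erase _ _ h1W, deg_irrOne] at h
    rw [Multiset.map_map]
    show ∑ χ ∈ W.erase CfsgLib.Char.irrOne, deg χ * deg χ ≤ 443519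
    omega
  · rw [← Finset.add_sum_erase _ _ h1W, deg_irrOne, hs1] at hdeg
    rw [Multiset.map_map, ← hdeg]
    norm_num
    rfl
  · rw [← Finset.add_sum_erase _ _ h1W, deg_irrOne, hone, hs1] at hT
    rw [Multiset.map_map, ← hT]
    norm_num
    rfl
  · have h := B.norm_le ht
    rw [← Finset.sum_union B.disj, ← hW, ← Finset.add_sum_erase _ _ h1W, hone, one_mul] at h
    rw [Multiset.map_map]
    exact h
  · rw [hcount, Nat.div_one, one_mul, one_mul, one_mul, Multiset.map_map, Nat.cast_ofNat]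
    rfl

/-- The symmetric block leaves only the excepted count. -/
theorem excl_of_deadFull (hG : SG G) (he : e = p - 1) (hp5 : 5 ≤ p) {ok : ℕ → Bool} {cs Cs : List ℕ}
    {excl : ℕ → Option ℕ} (hdead : deadFull p ok cs Cs excl = true)
    (hok : ∀ χ : IrrCharacter G, χ ≠ CfsgLib.Char.irrOne → ok (deg χ) = true) {t : G} (ht : t * t = 1)
    (ht1 : t ≠ 1) (htC : t ∈ centralizer ((P : Subgroup G) : Set G))
    (hC : Nat.card (centralizer ({t} : Set G)) ∈ Cs) (hc : (reg P).card ∈ cs) :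
    excl (Nat.card (centralizer ({t} : Set G))) =
      some ((invSet (pw P hP 1) t).card * (invSet (pw P hP 1) t).card) := by
  obtain ⟨M, -, h1, h2, h3, h4, h5, h6, h7, h8⟩ := B.full_data hG he hp5 ht ht1 htC
  exact deadFull_spec hdead hp.out.pos M h1 (h2 ok hok) h3 h4 h5 h6 h7 hC Nat.card_pos hc h8

end PB

end CfsgLib.MTwentyTwoUnique.FromOrder
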