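import Cfsg.Agent.Lib.SmallGroups.MElevenDegrees.Block
import Cfsg.Agent.Lib.Blocks.CyclicPrincipal
import Cfsg.Agent.Lib.MTwelveUnique.Common
import Mathlib

/-!
The principal block of a Sylow subgroup of prime order with arbitrary centraliser, averaged over the
regular elements of the centraliser, and the count of involutions inverting an element of that order.
-/

set_option autoImplicit false
set_option linter.style.haveILetI false
set_option linter.unusedSectionVars false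

noncomputable section

open scoped ComplexConjugate Classical

namespace CfsgLib.MTwentyTwoUnique.FromOrder

open Subgroup CfsgLib.InvolChar CfsgLib.Blocks CfsgLib.Blocks.PrimeSylow Cfsg

variable {G : Type*} [Group G] [Fintype G] {p : ℕ} [hp : Fact p.Prime]

/-- An exponent isolating the part of order `p`. -/
theorem exists_exp (p : ℕ) (m : ℕ) (h : Nat.Coprime p m) : ∃ n : ℕ, n % p = 1 % p ∧ m ∣ n := by
  refine ⟨(Nat.chineseRemainder h 1 0).1, (Nat.chineseRemainder h 1 0).2.1, ?_⟩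
  exact Nat.modEq_zero_iff_dvd.mp (Nat.chineseRemainder h 1 0).2.2

section

variable (P : Sylow p G) (hP : Nat.card P = p)
include hP

/-- The regular elements of the centraliser. -/
def reg : Finset G :=
  Finset.univ.filter fun z => z ∈ centralizer ((P : Subgroup G) : Set G) ∧ ¬ p ∣ orderOf z

omit hP in
theorem mem_reg {z : G} :
    z ∈ reg P ↔ z ∈ centralizer ((P : Subgroup G) : Set G) ∧ ¬ p ∣ orderOf z := by
  simp [reg]

omit hP in
theorem one_mem_reg : (1 : G) ∈ reg P :=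
  (mem_reg P).mpr ⟨one_mem _, by rw [orderOf_one]; exact hp.out.not_dvd_one⟩

theorem commute_pw {z : G} (hz : z ∈ centralizer ((P : Subgroup G) : Set G)) (i : ZMod p) :
    Commute (pw P hP i) z :=
  mem_centralizer_iff.mp hz _ (pw_mem P hP i)

/-- Powers of `x^i z`. -/
theorem pow_pw_mul {z : G} (hz : z ∈ centralizer ((P : Subgroup G) : Set G)) (i : ZMod p) {n : ℕ}
    (hn : n % p = 1 % p) (hz' : orderOf z ∣ n) : (pw P hP i * z) ^ n = pw P hP i := by
  rw [(commute_pw P hP hz i).mul_pow, orderOf_dvd_iff_pow_eq_one.mp hz', mul_one, pw_pow,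
    ← ZMod.natCast_mod n p, hn, ZMod.natCast_mod, Nat.cast_one, one_mul]

theorem pw_mul_unique {i j : ZMod p} {z z' : G} (hz : z ∈ reg P) (hz' : z' ∈ reg P)
    (h : pw P hP i * z = pw P hP j * z') : i = j ∧ z = z' := by
  obtain ⟨hzC, hzp⟩ := (mem_reg P).mp hz
  obtain ⟨hzC', hzp'⟩ := (mem_reg P).mp hz'
  obtain ⟨n, hn, hdvd⟩ := exists_exp p (orderOf z * orderOf z')
    (Nat.Coprime.mul_right ((hp.out.coprime_iff_not_dvd).mpr hzp) ((hp.out.coprime_iff_not_dvd).mpr hzp'))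
  have h1 := congrArg (· ^ n) h
  simp only [pow_pw_mul P hP hzC i hn (dvd_trans (dvd_mul_right _ _) hdvd),
    pow_pw_mul P hP hzC' j hn (dvd_trans (dvd_mul_left _ _) hdvd)] at h1
  have hij := pw_injective P hP h1
  subst hij
  exact ⟨rfl, mul_left_cancel h⟩

theorem exists_pw_mul {w : G} (hw : w ∈ centralizer ((P : Subgroup G) : Set G)) :
    ∃ i : ZMod p, ∃ z ∈ reg P, w = pw P hP i * z := by
  have hsq : ¬ p * p ∣ orderOf w := by
    intro h
    have h1 : p ^ 2 ∣ Nat.card G := by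
      rw [sq]; exact h.trans (_root_.orderOf_dvd_natCard w)
    have h2 := (hp.out.pow_dvd_iff_le_factorization Nat.card_pos.ne').mp h1
    rw [factorization_card P hP] at h2
    omega
  by_cases hd : p ∣ orderOf w
  swap
  · exact ⟨0, w, (mem_reg P).mpr ⟨hw, hd⟩, by rw [pw_zero, one_mul]⟩
  obtain ⟨m, hm⟩ := hd
  have hcop : Nat.Coprime m p :=
    ((hp.out.coprime_iff_not_dvd).mpr fun h => hsq (hm ▸ Nat.mul_dvd_mul_left p h)).symm
  obtain ⟨n, hn1, hn2⟩ := exists_exp m p hcop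
  -- the regular part
  have hzm : (w ^ n) ^ m = 1 := by
    rw [← pow_mul, ← orderOf_dvd_iff_pow_eq_one, hm]
    exact Nat.mul_dvd_mul_right hn2 m
  have hzC : w ^ n ∈ centralizer ((P : Subgroup G) : Set G) := pow_mem hw n
  have hzp : ¬ p ∣ orderOf (w ^ n) := fun h =>
    (hp.out.coprime_iff_not_dvd.mp hcop.symm) (h.trans (orderOf_dvd_of_pow_eq_one hzm))
  have hup : (w * (w ^ n)⁻¹) ^ p = 1 := by
    rw [(Commute.self_pow w n).inv_right.mul_pow, inv_pow, mul_inv_eq_one, ← pow_mul,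
      ← pow_mod_orderOf, ← pow_mod_orderOf w (n * p), hm]
    congr 1
    show p ≡ n * p [MOD p * m]
    have h1 : 1 * p ≡ n * p [MOD m * p] := Nat.ModEq.mul_right' p hn1.symm
    rw [one_mul, mul_comm m p] at h1
    exact h1
  have huP : w * (w ^ n)⁻¹ ∈ (P : Subgroup G) := by
    refine mem_of_pElement_centralizer P (mul_mem hw (inv_mem hzC)) ?_
    rcases (Nat.dvd_prime hp.out).mp (orderOf_dvd_of_pow_eq_one hup) with h | h
    · exact ⟨0, by rw [h, pow_zero]⟩
    · exact ⟨1, by rw [h, pow_one]⟩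
  obtain ⟨i, hi⟩ := pw_surjOn P hP huP
  exact ⟨i, w ^ n, (mem_reg P).mpr ⟨hzC, hzp⟩, by rw [hi, inv_mul_cancel_right]⟩

theorem card_centralizer_eq :
    Nat.card (centralizer ((P : Subgroup G) : Set G)) = p * (reg P).card := by
  have hmem : ∀ (i : ZMod p) (z : G), z ∈ reg P → pw P hP i * z ∈ centralizer ((P : Subgroup G) : Set G) :=
    fun i z hz => mul_mem (le_centralizer P hP (pw_mem P hP i)) ((mem_reg P).mp hz).1
  rw [← Nat.card_congr (Equiv.ofBijective
    (fun q : ZMod p × (reg P : Finset G) =>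
      (⟨pw P hP q.1 * (q.2 : G), hmem q.1 q.2 q.2.2⟩ : centralizer ((P : Subgroup G) : Set G)))
    ⟨fun a b h => by
      obtain ⟨h1, h2⟩ := pw_mul_unique P hP a.2.2 b.2.2 (congrArg Subtype.val h)
      exact Prod.ext h1 (Subtype.ext h2),
    fun w => by
      obtain ⟨i, z, hz, h⟩ := exists_pw_mul P hP w.2
      exact ⟨(i, ⟨z, hz⟩), Subtype.ext h.symm⟩⟩), Nat.card_prod, Nat.card_zmod,
    Nat.card_eq_fintype_card (α := (reg P : Finset G)), Fintype.card_coe]

/-- Conjugacy of the elements `x z`. -/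
theorem isConj_pw_mul_iff {i : ZMod p} (hi : i ≠ 0) {z z' : G} (hz : z ∈ reg P) (hz' : z' ∈ reg P) :
    IsConj (pw P hP i * z) (pw P hP i * z') ↔
      ∃ g ∈ centralizer ((P : Subgroup G) : Set G), g * z * g⁻¹ = z' := by
  constructor
  · intro h
    obtain ⟨g, hg⟩ := isConj_iff.mp h
    obtain ⟨hzC, hzp⟩ := (mem_reg P).mp hz
    obtain ⟨hzC', hzp'⟩ := (mem_reg P).mp hz'
    obtain ⟨n, hn, hdvd⟩ := exists_exp p (orderOf z * orderOf z')
      (Nat.Coprime.mul_right ((hp.out.coprime_iff_not_dvd).mpr hzp) ((hp.out.coprime_iff_not_dvd).mpr hzp'))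
    have h1 := congrArg (· ^ n) hg
    simp only [conj_pow, pow_pw_mul P hP hzC i hn (dvd_trans (dvd_mul_right _ _) hdvd),
      pow_pw_mul P hP hzC' i hn (dvd_trans (dvd_mul_left _ _) hdvd)] at h1
    have hgC : g ∈ centralizer ((P : Subgroup G) : Set G) := by
      rw [← centralizer_pw P hP hi, mem_centralizer_singleton_iff]
      exact mul_inv_eq_iff_eq_mul.mp h1
    refine ⟨g, hgC, mul_left_cancel (a := pw P hP i) ?_⟩
    calc pw P hP i * (g * z * g⁻¹) = g * pw P hP i * g⁻¹ * (g * z * g⁻¹) := by rw [h1]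
      _ = g * (pw P hP i * z) * g⁻¹ := by group
      _ = pw P hP i * z' := hg
  · rintro ⟨g, hgC, hg⟩
    refine isConj_iff.mpr ⟨g, ?_⟩
    calc g * (pw P hP i * z) * g⁻¹ = g * pw P hP i * g⁻¹ * (g * z * g⁻¹) := by group
      _ = pw P hP i * z' := by
        rw [hg, ← (commute_pw P hP hgC i).eq, mul_inv_cancel_right]

theorem centralizer_pw_mul {i : ZMod p} (hi : i ≠ 0) {z : G} (hz : z ∈ reg P) :
    centralizer ({pw P hP i * z} : Set G) =
      centralizer ((P : Subgroup G) : Set G) ⊓ centralizer ({z} : Set G) := by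
  obtain ⟨hzC, hzp⟩ := (mem_reg P).mp hz
  ext g
  rw [mem_inf, ← centralizer_pw P hP hi, mem_centralizer_singleton_iff, mem_centralizer_singleton_iff,
    mem_centralizer_singleton_iff]
  constructor
  · intro h
    obtain ⟨n, hn, hdvd⟩ := exists_exp p (orderOf z) ((hp.out.coprime_iff_not_dvd).mpr hzp)
    have h1 : Commute g (pw P hP i) := pow_pw_mul P hP hzC i hn hdvd ▸ (Commute.pow_right h n)
    refine ⟨h1.eq, mul_left_cancel (a := pw P hP i) ?_⟩
    rw [← mul_assoc, ← h1.eq, mul_assoc, h, mul_assoc]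
  · rintro ⟨h1, h2⟩
    exact (Commute.mul_right h1 h2).eq

/-- The regular elements conjugate to a given one in the centraliser. -/
theorem card_orbit_mul {z : G} (hz : z ∈ reg P) :
    ((reg P).filter fun z' => ∃ g ∈ centralizer ((P : Subgroup G) : Set G), g * z * g⁻¹ = z').card *
      Nat.card (centralizer ((P : Subgroup G) : Set G) ⊓ centralizer ({z} : Set G) : Subgroup G) =
      p * (reg P).card := by
  set C := centralizer ((P : Subgroup G) : Set G) with hC
  obtain ⟨hzC, hzp⟩ := (mem_reg P).mp hz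
  set S := centralizer ({(⟨z, hzC⟩ : C)} : Set C) with hS
  have h1 : Nat.card (C ⊓ centralizer ({z} : Set G) : Subgroup G) = Nat.card S := by
    refine Nat.card_congr ⟨fun g => ⟨⟨g.1, g.2.1⟩, ?_⟩, fun g => ⟨g.1.1, g.1.2, ?_⟩, fun g => rfl, fun g => rfl⟩
    · exact mem_centralizer_singleton_iff.mpr (Subtype.ext (mem_centralizer_singleton_iff.mp g.2.2))
    · exact mem_centralizer_singleton_iff.mpr (congrArg Subtype.val (mem_centralizer_singleton_iff.mp g.2))
  have h2 : ((reg P).filter fun z' => ∃ g ∈ C, g * z * g⁻¹ = z').card =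
      Nat.card {w : C // IsConj (⟨z, hzC⟩ : C) w} := by
    rw [← Fintype.card_coe, ← Nat.card_eq_fintype_card]
    refine Nat.card_congr (Equiv.ofBijective
      (fun w => ⟨⟨w.1, ((mem_reg P).mp (Finset.mem_filter.mp w.2).1).1⟩, ?_⟩) ⟨fun a b h => ?_, fun w => ?_⟩)
    · obtain ⟨g, hg, he⟩ := (Finset.mem_filter.mp w.2).2
      exact isConj_iff.mpr ⟨⟨g, hg⟩, Subtype.ext he⟩
    · exact Subtype.ext (congrArg (fun q => ((q.1 : C) : G)) h)
    · obtain ⟨g, hg⟩ := isConj_iff.mp w.2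
      have he : (g : G) * z * (g : G)⁻¹ = w.1 := congrArg Subtype.val hg
      refine ⟨⟨w.1, Finset.mem_filter.mpr ⟨(mem_reg P).mpr ⟨w.1.2, ?_⟩, g, g.2, he⟩⟩, rfl⟩
      rw [← he, show (g : G) * z * (g : G)⁻¹ = MulAut.conj (g : G) z by simp, MulEquiv.orderOf_eq]
      exact hzp
  rw [h1, h2, CfsgLib.Char.card_isConj_eq_index, hS, Subgroup.index_mul_card, card_centralizer_eq P hP]

/-- Outside the principal block the values over a `p`-section sum to zero. -/
theorem sum_reg_eq_zero {M : Ideal AlgInt} [M.IsMaximal] (hM : IsPModular p M) {χ : IrrCharacter G}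
    (hχ : χ ∉ principalBlock M G) {i : ZMod p} (hi : i ≠ 0) :
    ∑ z ∈ reg P, (χ : G → ℂ) (pw P hP i * z) = 0 := by
  set F : IrrCharacter G → ℂ := fun χ => ∑ z ∈ reg P, (χ : G → ℂ) (pw P hP i * z) with hF
  have hall : ∑ χ : IrrCharacter G, F χ * conj (F χ) = ((p * (reg P).card * (reg P).card : ℕ) : ℂ) := by
    simp only [hF, map_sum, Finset.sum_mul_sum]
    rw [Finset.sum_comm]
    push_cast
    rw [mul_comm, ← nsmul_eq_mul, ← Finset.sum_const]
    refine Finset.sum_congr rfl fun z hz => ?_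
    rw [Finset.sum_comm, Finset.sum_congr rfl fun z' _ => CfsgLib.Char.second_orthogonality _ _,
      ← Finset.sum_filter, Finset.sum_const, nsmul_eq_mul,
      Finset.filter_congr fun z' hz' => isConj_pw_mul_iff P hP hi hz hz', centralizer_pw_mul P hP hi hz]
    exact_mod_cast card_orbit_mul P hP hz
  have hin : ∀ ψ ∈ principalBlock M G, F ψ = ((reg P).card : ℂ) * (ψ : G → ℂ) (pw P hP i) := fun ψ hψ => by
    rw [hF]
    dsimp only
    rw [← nsmul_eq_mul, ← Finset.sum_const]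
    exact Finset.sum_congr rfl fun z hz =>
      principal_value P hM hP hψ hi ((mem_reg P).mp hz).1 ((mem_reg P).mp hz).2
  have hb := column_inner P hM hP hi hi
  rw [if_pos (IsConj.refl _)] at hb
  have hin2 : ∑ ψ : IrrCharacter G, (if ψ ∈ principalBlock M G then F ψ * conj (F ψ) else 0) =
      ((p * (reg P).card * (reg P).card : ℕ) : ℂ) := by
    calc _ = ∑ ψ : IrrCharacter G, ((reg P).card : ℂ) * (reg P).card * (if ψ ∈ principalBlock M G then
          (ψ : G → ℂ) (pw P hP i) * conj ((ψ : G → ℂ) (pw P hP i)) else 0) :=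
        Finset.sum_congr rfl fun ψ _ => by
          split_ifs with h
          · rw [hin ψ h, map_mul, map_natCast]; ring
          · rw [mul_zero]
      _ = _ := by rw [← Finset.mul_sum, hb]; push_cast; ring
  have hdiff : ∑ ψ : IrrCharacter G, (if ψ ∈ principalBlock M G then 0 else Complex.normSq (F ψ) : ℝ) = 0 := by
    have h2 : (∑ ψ : IrrCharacter G, ((if ψ ∈ principalBlock M G then 0 else Complex.normSq (F ψ) : ℝ) : ℂ)) = 0 := by
      calc _ = ∑ ψ : IrrCharacter G, (F ψ * conj (F ψ) -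
            if ψ ∈ principalBlock M G then F ψ * conj (F ψ) else 0) :=
            Finset.sum_congr rfl fun ψ _ => by split_ifs <;> simp [Complex.mul_conj]
        _ = 0 := by rw [Finset.sum_sub_distrib, hall, hin2, sub_self]
    exact_mod_cast h2
  have h3 := (Finset.sum_eq_zero_iff_of_nonneg fun ψ _ => by
    split_ifs
    · exact le_rfl
    · exact Complex.normSq_nonneg _).mp hdiff χ (Finset.mem_univ χ)
  rw [if_neg hχ] at h3
  exact Complex.normSq_eq_zero.mp h3

/-- The value at an involution centralising `P` is congruent to the degree modulo `p`. -/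
theorem dvd_intVal_sub {M : Ideal AlgInt} [M.IsMaximal] (hM : IsPModular p M) (hp2 : p ≠ 2)
    {χ : IrrCharacter G} (hχ : χ ∈ principalBlock M G) {t : G} (ht : t * t = 1) (ht1 : t ≠ 1)
    (htC : t ∈ centralizer ((P : Subgroup G) : Set G)) : (p : ℤ) ∣ intVal χ ht - (deg χ : ℤ) := by
  set x := pw P hP (1 : ZMod p) with hx
  have hto : orderOf t = 2 := orderOf_eq_prime (by rw [sq]; exact ht) ht1
  have htp : ¬ p ∣ orderOf t := by
    rw [hto]
    exact fun h => hp2 ((Nat.prime_dvd_prime_iff_eq hp.out Nat.prime_two).mp h)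
  have hone : (1 : ZMod p) ≠ 0 := one_ne_zero
  have hxo : orderOf x = p := by rw [hx, pw_one]; exact orderOf_gen P hP
  have hcard : Nat.card (zpowers (x * t)) = p * 2 := by
    rw [Nat.card_zpowers, (commute_pw P hP htC 1).orderOf_mul_eq_mul_orderOf_of_coprime
      (by rw [hxo, hto]; exact (Nat.coprime_primes hp.out Nat.prime_two).mpr hp2), hxo, hto]
  have hmem : ∀ q : ZMod p × Bool, pw P hP q.1 * (if q.2 then t else 1) ∈ zpowers (x * t) := by
    obtain ⟨n, hn, hdvd⟩ := exists_exp p (orderOf t) ((hp.out.coprime_iff_not_dvd).mpr htp)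
    have h1 : x ∈ zpowers (x * t) := by
      have := npow_mem_zpowers (x * t) n
      rwa [pow_pw_mul P hP htC 1 hn hdvd] at this
    have h2 : t ∈ zpowers (x * t) := by
      have := mul_mem (inv_mem h1) (mem_zpowers (x * t))
      rwa [inv_mul_cancel_left] at this
    intro q
    refine mul_mem ?_ (by split_ifs; exacts [h2, one_mem _])
    have h3 : (P : Subgroup G) ≤ zpowers (x * t) := by
      rw [← zpowers_pw P hP hone]
      exact zpowers_le.mpr h1
    exact h3 (pw_mem P hP _)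
  have hz1 : ∀ b : Bool, (if b then t else 1) ∈ reg P := fun b => by
    split_ifs
    · exact (mem_reg P).mpr ⟨htC, htp⟩
    · exact one_mem_reg P
  have hinj : Function.Injective fun q : ZMod p × Bool =>
      (⟨pw P hP q.1 * (if q.2 then t else 1), hmem q⟩ : zpowers (x * t)) := fun a b h => by
    obtain ⟨h1, h2⟩ := pw_mul_unique P hP (hz1 a.2) (hz1 b.2) (congrArg Subtype.val h)
    refine Prod.ext h1 ?_
    rcases a with ⟨i, a⟩; rcases b with ⟨j, b⟩
    cases a <;> cases b <;> simp_all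
  let e : ZMod p × Bool ≃ zpowers (x * t) := Equiv.ofBijective _
    ((Fintype.bijective_iff_injective_and_card _).mpr ⟨hinj, by
      rw [Fintype.card_prod, ZMod.card, Fintype.card_bool, ← Nat.card_eq_fintype_card, hcard]⟩)
  obtain ⟨w, hw⟩ := CfsgLib.Char.classInner_gen_int
    (CfsgLib.Char.isGen_res (zpowers (x * t)) (CfsgLib.Char.isGen_of_irr χ.2))
    (CfsgLib.Char.isGen_of_irr (CfsgLib.Char.isIrrCharacter_one (G := zpowers (x * t))))
  rw [CfsgLib.Char.classInner_def, hcard,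
    inv_mul_eq_iff_eq_mul₀ (by exact_mod_cast Nat.mul_ne_zero hp.out.ne_zero two_ne_zero)] at hw
  simp only [map_one, mul_one] at hw
  rw [← e.sum_comp, Fintype.sum_prod_type] at hw
  simp only [e, Equiv.ofBijective_apply, Fintype.sum_bool, if_true, if_false, Bool.false_eq_true,
    mul_one] at hw
  rw [Finset.sum_add_distrib, ← Finset.add_sum_erase _ _ (Finset.mem_univ (0 : ZMod p)),
    ← Finset.add_sum_erase (f := fun i : ZMod p => (χ : G → ℂ) (pw P hP i)) _ (Finset.mem_univ (0 : ZMod p)),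
    pw_zero, one_mul, intVal_spec χ ht, deg_spec χ,
    Finset.sum_congr rfl (g := fun i : ZMod p => (χ : G → ℂ) (pw P hP i)) fun i hi' =>
      principal_value P hM hP hχ (Finset.ne_of_mem_erase hi') htC htp] at hw
  obtain ⟨a, ha⟩ := exists_fourier P hP χ
  have h0 := ha 0
  simp only [zero_mul, neg_zero, AddChar.map_zero_eq_one, one_mul] at h0
  rw [← Finset.add_sum_erase _ _ (Finset.mem_univ (0 : ZMod p)), pw_zero, deg_spec χ] at h0
  have key : ((intVal χ ht - (deg χ : ℤ) : ℤ) : ℂ) = (((p : ℤ) * (2 * w - 2 * a 0) : ℤ) : ℂ) := by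
    push_cast at hw h0 ⊢
    linear_combination hw + 2 * h0
  exact ⟨2 * w - 2 * a 0, by exact_mod_cast key⟩

end

/-- The principal block at `P`. -/
structure PB (G : Type*) [Group G] [Fintype G] {p : ℕ} [Fact p.Prime] (P : Sylow p G)
    (hP : Nat.card P = p) (e : ℕ) where
  /-- non-exceptional -/
  X : Finset (IrrCharacter G)
  /-- exceptional -/
  Y : Finset (IrrCharacter G)
  /-- signs -/
  s : IrrCharacter G → ℤ
  /-- the exceptional sign -/
  ε : ℤ
  /-- the exceptional degree -/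
  f : ℕ
  disj : Disjoint X Y
  card_X : X.card = e
  card_Y : Y.card = (p - 1) / e
  one_mem : CfsgLib.Char.irrOne ∈ X ∪ Y
  s_sq : ∀ χ ∈ X, s χ = 1 ∨ s χ = -1
  deg_X : ∀ χ ∈ X, (p : ℤ) ∣ (deg χ : ℤ) - s χ
  ε_sq : ε = 1 ∨ ε = -1
  deg_Y : ∀ θ ∈ Y, deg θ = f
  deg_f : (p : ℤ) ∣ (f : ℤ) - ε * e
  val_X : ∀ χ ∈ X, ∀ i : ZMod p, i ≠ 0 → (χ : G → ℂ) (pw P hP i) = (s χ : ℂ)
  out_sum : ∀ χ, χ ∉ X → χ ∉ Y → ∀ i : ZMod p, i ≠ 0 → ∑ z ∈ reg P, (χ : G → ℂ) (pw P hP i * z) = 0
  in_val : ∀ χ ∈ X ∪ Y, ∀ i : ZMod p, i ≠ 0 → ∀ z ∈ reg P,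
    (χ : G → ℂ) (pw P hP i * z) = (χ : G → ℂ) (pw P hP i)
  congr : p ≠ 2 → ∀ χ ∈ X ∪ Y, ∀ (t : G) (ht : t * t = 1), t ≠ 1 →
    t ∈ centralizer ((P : Subgroup G) : Set G) → (p : ℤ) ∣ intVal χ ht - (deg χ : ℤ)
  Y_ne : Y.Nonempty
  Y_eq : ∀ θ ∈ Y, ∀ θ' ∈ Y, ∀ g : G, ¬ p ∣ orderOf g → (θ : G → ℂ) g = (θ' : G → ℂ) g
  rel : ∀ θ ∈ Y, ∀ g : G, ¬ p ∣ orderOf g →
    (ε : ℂ) * (θ : G → ℂ) g = ∑ χ ∈ X, (s χ : ℂ) * (χ : G → ℂ) g
  sum_Y : ∀ i : ZMod p, i ≠ 0 → ∑ θ ∈ Y, (θ : G → ℂ) (pw P hP i) = -(ε : ℂ)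

set_option maxHeartbeats 800000 in
theorem exists_pb (P : Sylow p G) (hP : Nat.card P = p) (e : ℕ)
    (he : (centralizer ((P : Subgroup G) : Set G)).relIndex (normalizer ((P : Subgroup G) : Set G)) = e) :
    Nonempty (PB G P hP e) := by
  obtain ⟨M, hM⟩ := CfsgLib.Invol.exists_isPModular p hp.out
  haveI := hM.2.1
  obtain ⟨X, Y, hB, hXY, hXc, hYc, -, εX, ε, hX, hε, hYdeg, hYeq, hYrel⟩ :=
    principal_block_prime_sylow P hM hP e he
  set Xf : Finset (IrrCharacter G) := Finset.univ.filter (· ∈ X) with hXfd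
  set Yf : Finset (IrrCharacter G) := Finset.univ.filter (· ∈ Y) with hYfd
  have hXf : ∀ χ, χ ∈ Xf ↔ χ ∈ X := fun χ => by simp [Xf]
  have hYf : ∀ χ, χ ∈ Yf ↔ χ ∈ Y := fun χ => by simp [Yf]
  have hXcard : Xf.card = e := by rw [← hXc, Nat.card_eq_fintype_card, Fintype.card_subtype]
  have hYcard : Yf.card = (p - 1) / e := by rw [← hYc, Nat.card_eq_fintype_card, Fintype.card_subtype]
  have hblock : ∀ χ, χ ∈ principalBlock M G ↔ χ ∈ Xf ∪ Yf := fun χ => by
    rw [hB, Finset.mem_union, hXf, hYf, Set.mem_union]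
  have hdisj : Disjoint Xf Yf :=
    Finset.disjoint_left.mpr fun χ h h' => Set.disjoint_left.mp hXY ((hXf χ).mp h) ((hYf χ).mp h')
  have hdeg : ∀ χ : IrrCharacter G, charDegree (χ : G → ℂ) = deg χ :=
    CfsgLib.SmallGroups.BrauerFew.deg_eq_charDegree
  have he0 : 0 < e ∧ e ≤ p - 1 := by
    have h := relIndex_dvd P hP
    rw [he] at h
    have := hp.out.two_le
    exact ⟨Nat.pos_of_ne_zero fun h0 => by rw [h0, Nat.zero_dvd] at h; omega, Nat.le_of_dvd (by omega) h⟩
  obtain ⟨θ, hθ⟩ := Finset.card_pos.mp (hYcard ▸ Nat.div_pos he0.2 he0.1 : 0 < Yf.card)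
  have hf : ∀ θ' ∈ Yf, deg θ' = deg θ := fun θ' hθ' => by
    have h := hYeq θ' ((hYf θ').mp hθ') θ ((hYf θ).mp hθ) 1 (by rw [orderOf_one]; exact hp.out.not_dvd_one)
    rw [deg_spec θ', deg_spec θ] at h
    exact_mod_cast h
  have hval : ∀ χ ∈ Xf, ∀ i : ZMod p, i ≠ 0 → (χ : G → ℂ) (pw P hP i) = (εX χ : ℂ) := fun χ h i hi => by
    have h' := (hX χ ((hXf χ).mp h)).2.2 (pw P hP i) (pw_mem P hP i)
      (fun h => hi ((pw_eq_one_iff P hP).mp h)) 1 (one_mem _) (by rw [orderOf_one]; exact hp.out.not_dvd_one)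
    rwa [mul_one] at h'
  have hrelset : ∀ a ∈ Yf, ∀ g : G, ¬ p ∣ orderOf g →
      (ε : ℂ) * (a : G → ℂ) g = ∑ χ ∈ Xf, (εX χ : ℂ) * (χ : G → ℂ) g := fun a ha g hg => by
    rw [hYrel a ((hYf a).mp ha) g hg,
      finsum_mem_eq_sum_of_inter_support_eq (t := Xf) _ (by ext χ; simp [Xf])]
  exact ⟨{
    X := Xf, Y := Yf, s := εX, ε := ε, f := deg θ
    disj := hdisj
    card_X := hXcard
    card_Y := hYcard
    one_mem := (hblock _).mp irrOne_mem_principalBlock
    s_sq := fun χ h => (hX χ ((hXf χ).mp h)).1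
    deg_X := fun χ h => by
      have h2 := (hX χ ((hXf χ).mp h)).2.1
      rw [hdeg] at h2
      exact Int.ModEq.dvd h2.symm
    ε_sq := hε
    deg_Y := hf
    deg_f := by
      have h := hYdeg θ ((hYf θ).mp hθ)
      rw [hdeg] at h
      exact Int.ModEq.dvd h.symm
    val_X := hval
    out_sum := fun χ h1 h2 i hi => sum_reg_eq_zero P hP hM
      (by rw [hblock, Finset.mem_union]; tauto) hi
    in_val := fun χ h i hi z hz => principal_value P hM hP ((hblock χ).mpr h) hi
      ((mem_reg P).mp hz).1 ((mem_reg P).mp hz).2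
    congr := fun hp2 χ h t ht ht1 htC => dvd_intVal_sub P hP hM hp2 ((hblock χ).mpr h) ht ht1 htC
    Y_ne := ⟨θ, hθ⟩
    Y_eq := fun a ha b hb g hg => hYeq a ((hYf a).mp ha) b ((hYf b).mp hb) g hg
    rel := hrelset
    sum_Y := fun i hi => by
      have h := column_regular P hM hP hi (g := (1 : G)) (by rw [orderOf_one]; exact hp.out.not_dvd_one)
      rw [Finset.sum_congr rfl (g := fun χ : IrrCharacter G => if χ ∈ Xf ∪ Yf then
          (χ : G → ℂ) (pw P hP i) * (χ : G → ℂ) 1 else 0) fun χ _ => by simp only [hblock],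
        Finset.sum_ite_mem, Finset.univ_inter, Finset.sum_union hdisj,
        Finset.sum_congr rfl (s₁ := Xf) (g := fun χ => (εX χ : ℂ) * (χ : G → ℂ) 1) fun χ hχ => by
          rw [hval χ hχ i hi],
        ← hrelset θ hθ 1 (by rw [orderOf_one]; exact hp.out.not_dvd_one),
        Finset.sum_congr rfl (s₁ := Yf) (g := fun θ' => (θ' : G → ℂ) (pw P hP i) * (deg θ : ℂ))
          fun θ' hθ' => by rw [deg_spec θ', hf θ' hθ'],
        ← Finset.sum_mul, deg_spec θ] at h
      have hne : (deg θ : ℂ) ≠ 0 := by exact_mod_cast (deg_pos θ).ne'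
      refine mul_right_cancel₀ hne ?_
      linear_combination h }⟩

/-- The involutions of the class of `t` that invert `x`. -/
def invSet (x t : G) : Finset G := Finset.univ.filter fun a => IsConj t a ∧ a * x * a⁻¹ = x⁻¹

theorem mem_invSet {x t a : G} : a ∈ invSet x t ↔ IsConj t a ∧ a * x * a⁻¹ = x⁻¹ := by simp [invSet]

section

variable (P : Sylow p G) (hP : Nat.card P = p)
include hP

set_option maxHeartbeats 800000 in
/-- The pairs of conjugates of `t` with product in `x K`. -/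
theorem count_pairs (hp2 : p ≠ 2) {t : G} (ht : t * t = 1) :
    p * ∑ z ∈ reg P, Nat.card {q : G × G // IsConj t q.1 ∧ IsConj t q.2 ∧ q.1 * q.2 = pw P hP 1 * z} =
      (invSet (pw P hP 1) t).card * (invSet (pw P hP 1) t).card := by
  set x := pw P hP (1 : ZMod p) with hx
  set A := invSet x t with hA
  have hsq : ∀ a, IsConj t a → a * a = 1 := fun a ha => by
    obtain ⟨k, rfl⟩ := isConj_iff.mp ha
    calc k * t * k⁻¹ * (k * t * k⁻¹) = k * (t * t) * k⁻¹ := by group
      _ = 1 := by rw [ht]; group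
  have hainv : ∀ a, IsConj t a → a⁻¹ = a := fun a ha => inv_eq_of_mul_eq_one_left (hsq a ha)
  -- an element of A inverts all powers
  have hApow : ∀ a ∈ A, ∀ i : ZMod p, a * pw P hP i * a⁻¹ = pw P hP (-i) := by
    intro a ha i
    have h1 := ((mem_invSet).mp ha).2
    have hi : pw P hP i = x ^ i.val := by rw [hx, pw_pow, ZMod.natCast_zmod_val, mul_one]
    rw [hi, ← conj_pow, h1, inv_pow, ← hi, inv_eq_iff_mul_eq_one, ← pw_add, add_neg_cancel, pw_zero]
  have hprod : ∀ a b : G, IsConj t a → IsConj t b → ∀ z ∈ reg P, a * b = x * z → a ∈ A ∧ b ∈ A := by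
    intro a b ha hb z hz hab
    obtain ⟨hzC, hzp⟩ := (mem_reg P).mp hz
    obtain ⟨n, hn, hdvd⟩ := exists_exp p (orderOf z) ((hp.out.coprime_iff_not_dvd).mpr hzp)
    have hxz := pow_pw_mul P hP hzC 1 hn hdvd
    rw [← hx, ← hab] at hxz
    have key : ∀ c, IsConj t c → c * (a * b) * c⁻¹ = (a * b)⁻¹ → c ∈ A := by
      intro c hc h
      refine mem_invSet.mpr ⟨hc, ?_⟩
      rw [← hxz, ← conj_pow, h, inv_pow]
    refine ⟨key a ha ?_, key b hb ?_⟩
    · rw [mul_inv_rev, hainv a ha, hainv b hb, ← mul_assoc, hsq a ha, one_mul]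
    · rw [mul_inv_rev, hainv a ha, hainv b hb, mul_assoc, mul_assoc, hsq b hb, mul_one]
  have hshift : ∀ a ∈ A, ∀ k : ZMod p, pw P hP (k + k) * a ∈ A := by
    intro a ha k
    have he : pw P hP (k + k) * a = pw P hP k * a * (pw P hP k)⁻¹ := by
      have h1 := hApow a ha (-k)
      rw [neg_neg, mul_inv_eq_iff_eq_mul] at h1
      have h2 : (pw P hP k)⁻¹ = pw P hP (-k) := by
        rw [inv_eq_iff_mul_eq_one, ← pw_add, add_neg_cancel, pw_zero]
      rw [h2, mul_assoc, h1, ← mul_assoc, ← pw_add]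
    refine mem_invSet.mpr ⟨((mem_invSet.mp ha).1).trans (isConj_iff.mpr ⟨pw P hP k, he.symm⟩), ?_⟩
    have h1 : pw P hP (k + k) * x = x * pw P hP (k + k) := by rw [hx, ← pw_add, ← pw_add, add_comm]
    calc pw P hP (k + k) * a * x * (pw P hP (k + k) * a)⁻¹
        = pw P hP (k + k) * (a * x * a⁻¹) * (pw P hP (k + k))⁻¹ := by group
      _ = x⁻¹ := by
        rw [(mem_invSet.mp ha).2, mul_inv_eq_iff_eq_mul]
        exact ((Commute.inv_right h1).eq)
  have hh : ((2 : ℕ) : ZMod p) ≠ 0 := by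
    rw [Ne, ZMod.natCast_eq_zero_iff]
    exact fun h => hp2 ((Nat.prime_dvd_prime_iff_eq hp.out Nat.prime_two).mp h)
  let T := Σ z : (reg P : Finset G), {q : G × G // IsConj t q.1 ∧ IsConj t q.2 ∧ q.1 * q.2 = x * z.1}
  have hmap : ∀ w : ZMod p × T, (pw P hP (w.1 + w.1) * w.2.2.1.1, w.2.2.1.2) ∈ A ×ˢ A := fun w => by
    obtain ⟨h1, h2, h3⟩ := w.2.2.2
    have h4 := hprod _ _ h1 h2 _ w.2.1.2 h3
    exact Finset.mem_product.mpr ⟨hshift _ h4.1 _, h4.2⟩
  have hbij : Function.Bijective fun w : ZMod p × T =>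
      (⟨(pw P hP (w.1 + w.1) * w.2.2.1.1, w.2.2.1.2), hmap w⟩ : (A ×ˢ A : Finset (G × G))) := by
    constructor
    · rintro ⟨k, ⟨z, hz⟩, ⟨a, b⟩, ha, hb, hab⟩ ⟨k', ⟨z', hz'⟩, ⟨a', b'⟩, ha', hb', hab'⟩ h
      simp only [Subtype.mk.injEq, Prod.mk.injEq] at h
      obtain ⟨h1, rfl⟩ := h
      simp only at hab hab' h1
      have h2 : pw P hP (k + k + 1) * z = pw P hP (k' + k' + 1) * z' := by
        calc pw P hP (k + k + 1) * z = pw P hP (k + k) * a * b := by
              rw [pw_add P hP (k + k) 1, mul_assoc, mul_assoc, hab, hx]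
          _ = pw P hP (k' + k') * a' * b := by rw [h1]
          _ = pw P hP (k' + k' + 1) * z' := by
              rw [pw_add P hP (k' + k') 1, mul_assoc, mul_assoc, hab', hx]
      obtain ⟨h3, rfl⟩ := pw_mul_unique P hP hz hz' h2
      have h4 : k = k' := by
        have h5 : ((2 : ℕ) : ZMod p) * k = ((2 : ℕ) : ZMod p) * k' := by
          push_cast; linear_combination h3
        exact mul_left_cancel₀ hh h5
      subst h4
      have h5 : a = a' := mul_left_cancel h1
      subst h5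
      rfl
    · rintro ⟨⟨a', b⟩, hab⟩
      obtain ⟨ha', hb⟩ := Finset.mem_product.mp hab
      have hC : a' * b ∈ centralizer ((P : Subgroup G) : Set G) := by
        rw [← centralizer_pw P hP (one_ne_zero : (1 : ZMod p) ≠ 0), mem_centralizer_singleton_iff,
          ← mul_inv_eq_iff_eq_mul]
        calc a' * b * x * (a' * b)⁻¹ = a' * (b * x * b⁻¹) * a'⁻¹ := by group
          _ = x := by rw [(mem_invSet.mp hb).2, ← conj_inv, (mem_invSet.mp ha').2, inv_inv]
      obtain ⟨i, z, hz, he⟩ := exists_pw_mul P hP hC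
      set k : ZMod p := (i - 1) / 2 with hk
      have hk2 : k + k + 1 = i := by
        have h2 : (2 : ZMod p) ≠ 0 := by exact_mod_cast hh
        rw [hk]; field_simp; ring
      have ha : pw P hP (-(k + k)) * a' ∈ A := by
        have := hshift a' ha' (-k)
        rwa [← neg_add] at this
      refine ⟨(k, (⟨⟨z, hz⟩, ⟨(pw P hP (-(k + k)) * a', b), (mem_invSet.mp ha).1, (mem_invSet.mp hb).1, ?_⟩⟩ : T)), ?_⟩
      · show pw P hP (-(k + k)) * a' * b = x * z
        rw [mul_assoc, he, ← mul_assoc, ← pw_add, hx]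
        congr 2
        linear_combination -hk2
      · refine Subtype.ext (Prod.ext ?_ rfl)
        show pw P hP (k + k) * (pw P hP (-(k + k)) * a') = a'
        rw [← mul_assoc, ← pw_add, add_neg_cancel, pw_zero, one_mul]
  have h := Nat.card_eq_of_bijective _ hbij
  rw [Nat.card_prod, Nat.card_zmod, Nat.card_sigma, Nat.card_eq_fintype_card (α := (A ×ˢ A : Finset (G × G))),
    Fintype.card_coe, Finset.card_product,
    Finset.sum_coe_sort (reg P)
      (fun z => Nat.card {q : G × G // IsConj t q.1 ∧ IsConj t q.2 ∧ q.1 * q.2 = x * z})] at h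
  exact h

variable {e : ℕ} (B : PB G P hP e)

/-- The scaled structure constant of the class of an involution. -/
def PB.sg {t : G} (ht : t * t = 1) (r : ℤ) : ℤ :=
  ∑ χ ∈ B.X, B.s χ * intVal χ ht * intVal χ ht * ((Nat.card G / deg χ : ℕ) : ℤ) -
    B.ε * r * r * ((Nat.card G / B.f : ℕ) : ℤ)

set_option maxHeartbeats 800000 in
/-- The number of inverting conjugates, from the principal block. -/
theorem PB.count_eq (hp2 : p ≠ 2) {t : G} (ht : t * t = 1) (r : ℤ)
    (hr : ∀ θ ∈ B.Y, intVal θ ht = r) :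
    ((invSet (pw P hP 1) t).card : ℤ) * (invSet (pw P hP 1) t).card *
        ((Nat.card (centralizer ({t} : Set G)) : ℤ) * Nat.card (centralizer ({t} : Set G))) =
      (p : ℤ) * (reg P).card * B.sg P hP ht r := by
  set x := pw P hP (1 : ZMod p) with hx
  set A := (invSet x t).card
  have hone : (1 : ZMod p) ≠ 0 := one_ne_zero
  set C := Nat.card (centralizer ({t} : Set G)) with hC
  have hC0 : (C : ℂ) ≠ 0 := by exact_mod_cast (Nat.card_pos).ne'
  have hG0 : (Nat.card G : ℂ) ≠ 0 := by exact_mod_cast (Nat.card_pos).ne'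
  have hcl : (Nat.card {y : G // IsConj t y} : ℂ) = (Nat.card G : ℂ) / C := by
    rw [eq_div_iff hC0, CfsgLib.Char.card_isConj_eq_index, hC, ← Nat.cast_mul, Subgroup.index_mul_card]
  have hfdvd : ∀ χ : IrrCharacter G, deg χ ∣ Nat.card G := fun χ =>
    CfsgLib.Char.degree_dvd_card χ.2 (deg_spec χ)
  obtain ⟨θ₀, hθ₀⟩ := B.Y_ne
  have hfG : B.f ∣ Nat.card G := B.deg_Y θ₀ hθ₀ ▸ hfdvd θ₀
  have hf0 : (B.f : ℂ) ≠ 0 := by exact_mod_cast (B.deg_Y θ₀ hθ₀ ▸ deg_pos θ₀).ne'
  -- every term of the character sum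
  have hin : ∀ χ ∈ B.X ∪ B.Y, ∑ z ∈ reg P,
      (χ : G → ℂ) t * (χ : G → ℂ) t * conj ((χ : G → ℂ) (x * z)) / (χ : G → ℂ) 1 =
      ((reg P).card : ℂ) * ((intVal χ ht : ℂ) * intVal χ ht * conj ((χ : G → ℂ) x) / (deg χ : ℂ)) :=
    fun χ hχ => by
      rw [← nsmul_eq_mul, ← Finset.sum_const]
      exact Finset.sum_congr rfl fun z hz => by
        rw [B.in_val χ hχ 1 hone z hz, intVal_spec χ ht, deg_spec χ]
  have hout : ∀ χ : IrrCharacter G, χ ∉ B.X ∪ B.Y → ∑ z ∈ reg P,
      (χ : G → ℂ) t * (χ : G → ℂ) t * conj ((χ : G → ℂ) (x * z)) / (χ : G → ℂ) 1 = 0 := fun χ hχ => by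
    rw [Finset.mem_union, not_or] at hχ
    rw [← Finset.sum_div, ← Finset.mul_sum, ← map_sum, B.out_sum χ hχ.1 hχ.2 1 hone, map_zero, mul_zero,
      zero_div]
  have hN : ((∑ z ∈ reg P,
      Nat.card {q : G × G // IsConj t q.1 ∧ IsConj t q.2 ∧ q.1 * q.2 = x * z} : ℕ) : ℂ) =
      ((reg P).card : ℂ) / ((C : ℂ) * C) * (B.sg P hP ht r : ℂ) := by
    push_cast
    simp only [CfsgLib.Char.card_classProduct_eq]
    rw [← Finset.mul_sum, Finset.sum_comm, ← Finset.sum_subset (Finset.subset_univ (B.X ∪ B.Y))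
      (fun χ _ hχ => hout χ hχ), Finset.sum_congr rfl hin, ← Finset.mul_sum, Finset.sum_union B.disj]
    have hX : ∑ χ ∈ B.X, (intVal χ ht : ℂ) * intVal χ ht * conj ((χ : G → ℂ) x) / (deg χ : ℂ) =
        ((∑ χ ∈ B.X, B.s χ * intVal χ ht * intVal χ ht * ((Nat.card G / deg χ : ℕ) : ℤ) : ℤ) : ℂ) /
          (Nat.card G : ℂ) := by
      simp only [Int.cast_sum, Int.cast_mul, Int.cast_natCast, Finset.sum_div]
      refine Finset.sum_congr rfl fun χ hχ => ?_
      have hd : (deg χ : ℂ) ≠ 0 := Nat.cast_ne_zero.mpr (deg_pos χ).ne'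
      rw [B.val_X χ hχ 1 hone, map_intCast, Nat.cast_div (hfdvd χ) hd]
      field_simp
    have hY : ∑ θ ∈ B.Y, (intVal θ ht : ℂ) * intVal θ ht * conj ((θ : G → ℂ) x) / (deg θ : ℂ) =
        ((-(B.ε * r * r * ((Nat.card G / B.f : ℕ) : ℤ)) : ℤ) : ℂ) / (Nat.card G : ℂ) := by
      rw [Finset.sum_congr rfl (g := fun θ : IrrCharacter G => (r : ℂ) * r / (B.f : ℂ) * conj ((θ : G → ℂ) x))
        fun θ hθ => by rw [hr θ hθ, B.deg_Y θ hθ]; ring, ← Finset.mul_sum, ← map_sum, B.sum_Y 1 hone,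
        map_neg, map_intCast]
      simp only [Int.cast_neg, Int.cast_mul, Int.cast_natCast]
      rw [Nat.cast_div hfG hf0]
      field_simp
    rw [hX, hY, hcl, PB.sg]
    simp only [Int.cast_sub, Int.cast_neg]
    field_simp
    ring
  have hp' := count_pairs P hP hp2 ht
  rw [← hx] at hp'
  have key : (((A : ℤ) * A * ((C : ℤ) * C) : ℤ) : ℂ) = (((p : ℤ) * (reg P).card * B.sg P hP ht r : ℤ) : ℂ) := by
    have h1 := congrArg (fun n : ℕ => (n : ℂ)) hp'
    simp only [Nat.cast_mul, hN] at h1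
    push_cast
    rw [← h1]
    field_simp
  exact_mod_cast key

end

end CfsgLib.MTwentyTwoUnique.FromOrder
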