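import Cfsg.Agent.Lib.MTwentyTwoUnique.FromOrder.EightPerm
import Cfsg.Agent.Lib.SmallGroups.SylowLocal
import Mathlib

/-!
Transitive groups of order 56, 168 on eight points, and the even part of a group twice as large.
-/

set_option autoImplicit false
set_option linter.style.haveILetI false
set_option linter.unusedSectionVars false

noncomputable section

open scoped Classical

namespace CfsgLib.MTwentyTwoUnique.FromOrder.EightPerm

open Equiv Subgroup CfsgLib.SmallGroups

variable {X : Type*} [Fintype X]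

/-- The stabiliser of a point has index eight. -/
theorem card_stab (hX : Nat.card X = 8) (M : Subgroup (Perm X))
    (htr : ∀ a b : X, ∃ m ∈ M, m a = b) (o : X) :
    8 * Nat.card (MulAction.stabilizer M o) = Nat.card M := by
  haveI : MulAction.IsPretransitive M X := ⟨fun a b => by
    obtain ⟨m, hm, h⟩ := htr a b
    exact ⟨⟨m, hm⟩, h⟩⟩
  rw [← (MulAction.stabilizer M o).card_mul_index, mul_comm,
    MulAction.index_stabilizer_of_transitive M o, hX]

/-- Elements of 2-power order act without fixed points. -/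
theorem no_fixed (hX : Nat.card X = 8) (M : Subgroup (Perm X)) (htr : ∀ a b : X, ∃ m ∈ M, m a = b)
    (hodd : Nat.card M / 8 % 2 = 1) {g : Perm X} (hg : g ∈ M) {k : ℕ} (hk : g ^ 2 ^ k = 1) {q : X}
    (hq : g q = q) : g = 1 := by
  have h1 : orderOf g ∣ Nat.card (MulAction.stabilizer M q) := by
    rw [← Subgroup.orderOf_mk (H := M) g hg]
    exact Subgroup.orderOf_dvd_natCard _ (show (⟨g, hg⟩ : M) ∈ MulAction.stabilizer M q from hq)
  have h2 : orderOf g ∣ 2 ^ k := orderOf_dvd_of_pow_eq_one hk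
  have hcop : Nat.Coprime (Nat.card (MulAction.stabilizer M q)) (2 ^ k) := by
    refine Nat.Coprime.pow_right k ((Nat.prime_two.coprime_iff_not_dvd).2 fun h => ?_).symm
    have h3 := card_stab hX M htr q
    rw [← h3, Nat.mul_div_cancel_left _ (by norm_num : 0 < 8)] at hodd
    omega
  exact orderOf_eq_one_iff.1 (Nat.eq_one_of_dvd_coprimes hcop h1 h2)

/-- A normal subgroup of order 8 or simplicity. -/
theorem normal_or_simple (hX : Nat.card X = 8) (M : Subgroup (Perm X))
    (htr : ∀ a b : X, ∃ m ∈ M, m a = b) {x : Perm X} (hxM : x ∈ M) (hx : orderOf x = 7)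
    (hM : Nat.card M = 56 ∨ Nat.card M = 168) :
    (∃ E : Subgroup M, E.Normal ∧ Nat.card E = 8) ∨ (Nat.card M = 168 ∧ IsSimpleGroup M) := by
  haveI : Fact (Nat.Prime 7) := ⟨by norm_num⟩
  obtain ⟨o, ho, ho', hox⟩ := seven_orbit hX hx
  set x' : M := ⟨x, hxM⟩
  have hx' : orderOf x' = 7 := by rw [← hx]; exact Subgroup.orderOf_mk x hxM
  obtain ⟨P, hP⟩ := (IsPGroup.of_card (p := 7) (n := 1) (by rw [Nat.card_zpowers, hx', pow_one]) :
    IsPGroup 7 (zpowers x')).exists_le_sylow
  have hM7 : Nat.card M = 7 ^ 1 * (Nat.card M / 7) ∧ ¬ 7 ∣ Nat.card M / 7 := by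
    rcases hM with h | h <;> rw [h] <;> norm_num
  have hP7 : Nat.card (P : Subgroup M) = 7 := by simpa using card_sylow_eq hM7.1 hM7.2 P
  have hPe : zpowers x' = (P : Subgroup M) :=
    eq_of_le_of_card_ge hP (by rw [hP7, Nat.card_zpowers, hx'])
  -- the normaliser fixes the point
  have hNfix : ∀ m ∈ normalizer ((P : Subgroup M) : Set M), (m : Perm X) o = o := by
    intro m hm
    have h1 : m⁻¹ * x' * m ∈ (P : Subgroup M) :=
      (hm _).2 (by rw [show m * (m⁻¹ * x' * m) * m⁻¹ = x' by group, ← hPe]; exact mem_zpowers x')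
    rw [← hPe] at h1
    obtain ⟨k, hk⟩ := mem_zpowers_iff.1 h1
    apply ho'
    have h2 : x * (m : Perm X) = (m : Perm X) * x ^ k := by
      have h3 : x ^ k = (m : Perm X)⁻¹ * x * (m : Perm X) := by
        simpa [x'] using congrArg Subtype.val hk
      rw [h3]; group
    rw [← Equiv.Perm.mul_apply, h2, Equiv.Perm.mul_apply,
      Equiv.Perm.zpow_apply_eq_self_of_apply_eq_self ho]
  have hn : Nat.card (Sylow 7 M) = 8 := by
    have h1 := card_sylow_mul_card_normalizer P
    have h2 : Nat.card (normalizer ((P : Subgroup M) : Set M)) ∣ Nat.card (MulAction.stabilizer M o) :=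
      card_dvd_of_le fun m hm => MulAction.mem_stabilizer_iff.2 (hNfix m hm)
    have h3 := card_stab hX M htr o
    have h4 : 7 ∣ Nat.card (normalizer ((P : Subgroup M) : Set M)) := by
      have h := card_dvd_of_le (le_normalizer : (P : Subgroup M) ≤ _)
      rwa [hP7] at h
    have h5 := card_sylow_modEq_one 7 M
    obtain ⟨a, ha⟩ := h2
    obtain ⟨b, hb⟩ := h4
    have h6 : Nat.card (Sylow 7 M) = 8 * a := by
      refine Nat.eq_of_mul_eq_mul_right (Nat.card_pos (α := normalizer ((P : Subgroup M) : Set M))) ?_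
      rw [h1, ← h3, ha]; ring
    have ha' : a ≤ 3 := by
      have : 8 * (7 * b * a) = Nat.card M := by rw [← hb, ← ha, h3]
      rcases hM with h | h <;> rw [h] at this <;> nlinarith [Nat.pos_of_ne_zero (show b ≠ 0 by
        intro h0; rw [h0, mul_zero, zero_mul, mul_zero] at this; omega)]
    rw [h6] at h5
    have : a = 1 := by
      unfold Nat.ModEq at h5
      omega
    omega
  have hall : ∀ Q : Sylow 7 M, Nat.card (Q : Subgroup M) = 7 := fun Q => by
    simpa using card_sylow_eq hM7.1 hM7.2 Q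
  rcases hM with h | h
  · left
    obtain ⟨E, hE, hmem⟩ := exists_eight_56 h hn
    exact ⟨E, ⟨fun a ha g => (hmem _).2 (by rw [conj_pow, (hmem a).1 ha]; group)⟩, hE⟩
  by_cases hs : IsSimpleGroup M
  · exact Or.inr ⟨h, hs⟩
  left
  haveI : Nontrivial M := Finite.one_lt_card_iff_nontrivial.1 (by rw [h]; norm_num)
  obtain ⟨N, hN, hNb, hNt⟩ : ∃ N : Subgroup M, N.Normal ∧ N ≠ ⊥ ∧ N ≠ ⊤ := by
    by_contra hc
    push Not at hc
    exact hs ⟨fun N hN => or_iff_not_imp_left.2 fun hb => hc N hN hb⟩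
  by_cases h7 : 7 ∣ Nat.card N
  · -- contains all elements of order 7
    obtain ⟨Q⟩ : Nonempty (Sylow 7 N) := inferInstance
    have hNcard : Nat.card N ∣ 168 := h ▸ card_subgroup_dvd_card N
    obtain ⟨y, hy⟩ := exists_prime_orderOf_dvd_card' (G := N) 7 h7
    obtain ⟨R, hR⟩ := (IsPGroup.of_card (p := 7) (n := 1)
      (by rw [Nat.card_zpowers, Subgroup.orderOf_coe, hy, pow_one]) :
      IsPGroup 7 (zpowers (y : M))).exists_le_sylow
    have hRe : zpowers (y : M) = (R : Subgroup M) :=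
      eq_of_le_of_card_ge hR (by rw [hall, Nat.card_zpowers, Subgroup.orderOf_coe, hy])
    have hRN : (R : Subgroup M) ≤ N := hRe ▸ zpowers_le.2 y.2
    have hQN : ∀ Q : Sylow 7 M, (Q : Subgroup M) ≤ N := fun Q => by
      obtain ⟨g, rfl⟩ := MulAction.exists_smul_eq M R Q
      rw [Sylow.coe_subgroup_smul]
      rintro _ ⟨a, ha, rfl⟩
      exact hN.conj_mem a (hRN ha) g
    have hn' : Nat.card (Sylow 7 N) = 8 := by
      rw [SylowLocal.card_sylow_eq_card_le R hRN, ← hn]
      exact Nat.card_congr (Equiv.subtypeUnivEquiv hQN)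
    have h8 : 8 ∣ Nat.card N := by
      rw [← hn', ← card_sylow_mul_card_normalizer Q]
      exact dvd_mul_right _ _
    have h56 : 56 ∣ Nat.card N := Nat.Coprime.mul_dvd_of_dvd_of_dvd (by norm_num : Nat.Coprime 7 8) h7 h8
    have hN56 : Nat.card N = 56 := by
      have hlt : Nat.card N < 168 := h ▸ lt_of_le_of_ne (Nat.le_of_dvd Nat.card_pos (card_subgroup_dvd_card N))
        (fun e => hNt (eq_top_of_card_eq N e))
      obtain ⟨a, ha⟩ := h56
      rw [ha] at hNcard hlt ⊢
      have : a ≠ 2 := fun e => by rw [e] at hNcard; norm_num at hNcard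
      have : a ≠ 0 := fun e => by rw [e] at hNcard; norm_num at hNcard
      omega
    obtain ⟨E, hE, hmem⟩ := exists_eight_56 hN56 hn'
    refine ⟨E.map N.subtype, ⟨?_⟩, by rw [card_map_of_injective N.subtype_injective, hE]⟩
    rintro _ ⟨a, ha, rfl⟩ g
    refine ⟨⟨g * (a : M) * g⁻¹, hN.conj_mem _ a.2 g⟩, (hmem _).2 (Subtype.ext ?_), rfl⟩
    show (g * (a : M) * g⁻¹) ^ 8 = 1
    rw [conj_pow, ← SubmonoidClass.coe_pow, (hmem a).1 ha]
    simp
  · refine ⟨N, hN, ?_⟩
    have hNN : ∀ n : N, ((n : M) : Perm X) o = o → n = 1 := by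
      intro n hn0
      have hst : normalizer ((P : Subgroup M) : Set M) = MulAction.stabilizer M o := by
        refine eq_of_le_of_card_ge (fun m hm => MulAction.mem_stabilizer_iff.2 (hNfix m hm)) ?_
        have h1 := card_sylow_mul_card_normalizer P
        have h3 := card_stab hX M htr o
        rw [hn] at h1
        omega
      have hm : (n : M) ∈ normalizer ((P : Subgroup M) : Set M) := by
        rw [hst]; exact MulAction.mem_stabilizer_iff.2 hn0
      have hc : (n : M) * x' * (n : M)⁻¹ * x'⁻¹ ∈ N ⊓ (P : Subgroup M) := by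
        refine Subgroup.mem_inf.2 ⟨?_, mul_mem ((hm x').1 (hPe ▸ mem_zpowers x'))
          (inv_mem (hPe ▸ mem_zpowers x'))⟩
        rw [mul_assoc (n : M) x', mul_assoc]
        exact mul_mem n.2 (hN.conj_mem _ (inv_mem n.2) x')
      have hbot : N ⊓ (P : Subgroup M) = ⊥ := by
        rw [← Subgroup.card_eq_one]
        have h := card_dvd_of_le (inf_le_right : N ⊓ (P : Subgroup M) ≤ _)
        rw [hP7] at h
        exact Nat.eq_one_of_dvd_coprimes ((Nat.Prime.coprime_iff_not_dvd (by norm_num)).2 h7)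
          h (card_dvd_of_le inf_le_left)
      rw [hbot, Subgroup.mem_bot, mul_inv_eq_one] at hc
      have hcomm : Commute ((n : M) : Perm X) x :=
        congrArg Subtype.val (mul_inv_eq_iff_eq_mul.1 hc)
      have hz := mem_zpowers_of_commute hX hx hcomm
      have hmem : (n : M) ∈ N ⊓ (P : Subgroup M) := by
        refine Subgroup.mem_inf.2 ⟨n.2, ?_⟩
        rw [← hPe]
        obtain ⟨k, hk⟩ := mem_zpowers_iff.1 hz
        exact mem_zpowers_iff.2 ⟨k, Subtype.ext (by rw [SubgroupClass.coe_zpow]; exact hk)⟩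
      rw [hbot, Subgroup.mem_bot] at hmem
      exact Subtype.ext hmem
    have hsurj : ∀ q, ∃ n : N, ((n : M) : Perm X) o = q := by
      obtain ⟨n1, hn1⟩ := (Subgroup.ne_bot_iff_exists_ne_one.1 hNb)
      intro q
      rcases eq_or_ne q o with rfl | hq
      · exact ⟨1, rfl⟩
      obtain ⟨k, hk⟩ := hox _ q (fun e => hn1 (hNN n1 e)) hq
      refine ⟨⟨x' ^ k * (n1 : M) * (x' ^ k)⁻¹, hN.conj_mem _ n1.2 _⟩, ?_⟩
      show (x ^ k * ((n1 : M) : Perm X) * (x ^ k)⁻¹) o = q
      rw [Equiv.Perm.mul_apply, Equiv.Perm.mul_apply, Equiv.Perm.inv_eq_iff_eq.2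
        (Equiv.Perm.pow_apply_eq_self_of_apply_eq_self ho k).symm]
      exact hk
    rw [← hX]
    refine Nat.card_eq_of_bijective (fun n : N => ((n : M) : Perm X) o) ⟨fun a b hab => ?_, hsurj⟩
    have h1 : ((((b⁻¹ * a : N) : M)) : Perm X) o = o := by
      simp only [Subgroup.coe_mul, InvMemClass.coe_inv, Equiv.Perm.mul_apply] at hab ⊢
      rw [hab]; simp
    exact (inv_mul_eq_one.1 (hNN _ h1)).symm

/-- The even part. -/
theorem even_part (hX : Nat.card X = 8) (M : Subgroup (Perm X)) (htr : ∀ a b : X, ∃ m ∈ M, m a = b)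
    {x i : Perm X} (hxM : x ∈ M) (hx : orderOf x = 7) (hiM : i ∈ M) (hi : Equiv.Perm.sign i = -1) :
    2 * Nat.card (M ⊓ Equiv.Perm.sign.ker : Subgroup (Perm X)) = Nat.card M ∧
      x ∈ M ⊓ Equiv.Perm.sign.ker ∧
      ∀ a b : X, ∃ m ∈ M ⊓ Equiv.Perm.sign.ker, m a = b := by
  set K := M ⊓ Equiv.Perm.sign.ker
  have hxK : x ∈ K := Subgroup.mem_inf.2 ⟨hxM, MonoidHom.mem_ker.2 (by
    have h1 : (Equiv.Perm.sign x) ^ 7 = 1 := by rw [← map_pow, ← hx, pow_orderOf_eq_one, map_one]
    rcases Int.units_eq_one_or (Equiv.Perm.sign x) with h | h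
    · exact h
    · rw [h] at h1; exact absurd h1 (by decide))⟩
  refine ⟨?_, hxK, ?_⟩
  · let f : M →* ℤˣ := Equiv.Perm.sign.comp M.subtype
    have hsur : Function.Surjective f := fun u => by
      rcases Int.units_eq_one_or u with rfl | rfl
      · exact ⟨1, map_one f⟩
      · exact ⟨⟨i, hiM⟩, hi⟩
    have h := f.ker.card_mul_index
    rw [Subgroup.index_ker, MonoidHom.range_eq_top.2 hsur, Subgroup.card_top] at h
    have hk : Nat.card f.ker = Nat.card K := Nat.card_congr
      ⟨fun m => ⟨m.1.1, Subgroup.mem_inf.2 ⟨m.1.2, m.2⟩⟩,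
       fun m => ⟨⟨m.1, (Subgroup.mem_inf.1 m.2).1⟩, (Subgroup.mem_inf.1 m.2).2⟩, fun m => rfl, fun m => rfl⟩
    rw [hk] at h
    rw [← h, mul_comm, Nat.card_eq_fintype_card (α := ℤˣ), Fintype.card_units_int]
  · obtain ⟨o, ho, ho', hox⟩ := seven_orbit hX hx
    -- the orbit of `o`
    obtain ⟨m, hm, hmo⟩ : ∃ m ∈ K, m o ≠ o := by
      obtain ⟨q, hq⟩ : ∃ q, q ≠ o := by
        haveI : Nontrivial X := Finite.one_lt_card_iff_nontrivial.1 (by rw [hX]; norm_num)
        exact exists_ne o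
      obtain ⟨n, hn, hno⟩ := htr q o
      refine ⟨n * x * n⁻¹, Subgroup.mem_inf.2 ⟨mul_mem (mul_mem hn hxM) (inv_mem hn), ?_⟩, fun h => ?_⟩
      · have := Equiv.Perm.sign.normal_ker.conj_mem x (Subgroup.mem_inf.1 hxK).2 n
        exact this
      · apply hq
        refine ho' q (n.injective ?_)
        simp only [Equiv.Perm.mul_apply] at h
        rw [show n⁻¹ o = q from Equiv.Perm.inv_eq_iff_eq.2 hno.symm] at h
        rw [h, hno]
    have key : ∀ q, ∃ k ∈ K, k o = q := fun q => by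
      rcases eq_or_ne q o with rfl | hq
      · exact ⟨1, one_mem _, rfl⟩
      obtain ⟨k, hk⟩ := hox (m o) q hmo hq
      exact ⟨x ^ k * m, mul_mem (pow_mem hxK k) hm, by rw [Equiv.Perm.mul_apply, hk]⟩
    intro a b
    obtain ⟨ka, hka, ea⟩ := key a
    obtain ⟨kb, hkb, eb⟩ := key b
    exact ⟨kb * ka⁻¹, mul_mem hkb (inv_mem hka), by
      rw [Equiv.Perm.mul_apply, Equiv.Perm.inv_eq_iff_eq.2 ea.symm, eb]⟩

end CfsgLib.MTwentyTwoUnique.FromOrder.EightPerm
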