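import Cfsg.Agent.Lib.MTwentyTwoUnique.FromOrder.SevenBase
import Cfsg.Agent.Lib.MTwentyTwoUnique.FromOrder.EightTrans
import Mathlib

/-!
The centraliser of an involution with eight Sylow 7-subgroups.
-/

set_option autoImplicit false
set_option linter.style.haveILetI false
set_option linter.unusedSectionVars false

noncomputable section

open scoped Classical

namespace CfsgLib.MTwentyTwoUnique.FromOrder

open Equiv Subgroup CfsgLib.SmallGroups CfsgLib.SmallSimple CfsgLib.Blocks.PrimeSylow Cfsg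

variable {G : Type*} [Group G] [Fintype G]

/-- The action of a subgroup on its Sylow 7-subgroups. -/
def act7 (H : Subgroup G) : H →* Perm (Sylow 7 H) := MulAction.toPermHom H (Sylow 7 H)

/-- The elements of `H` fixing all its Sylow 7-subgroups. -/
def ker7 (H : Subgroup G) : Subgroup G := (act7 H).ker.map H.subtype

theorem ker7_le (H : Subgroup G) : ker7 H ≤ H := map_subtype_le _

theorem mem_ker7 {H : Subgroup G} {x : G} (hx : x ∈ H) : x ∈ ker7 H ↔ act7 H ⟨x, hx⟩ = 1 := by
  constructor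
  · rintro ⟨y, hy, hyx⟩
    obtain rfl : y = ⟨x, hx⟩ := Subtype.ext hyx
    exact hy
  · exact fun h => ⟨⟨x, hx⟩, h, rfl⟩

theorem conj_mem_ker7 {H : Subgroup G} {h x : G} (hh : h ∈ H) (hx : x ∈ ker7 H) :
    h * x * h⁻¹ ∈ ker7 H := by
  obtain ⟨y, hy, hyx⟩ := hx
  refine ⟨(⟨h, hh⟩ : H) * y * (⟨h, hh⟩ : H)⁻¹, (act7 H).normal_ker.conj_mem y hy (⟨h, hh⟩ : H), ?_⟩
  rw [← hyx]
  simp

theorem act7_pretransitive [Fact (Nat.Prime 7)] (H : Subgroup G) (a b : Sylow 7 H) :
    ∃ m ∈ (act7 H).range, m a = b := by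
  obtain ⟨g, hg⟩ := MulAction.exists_smul_eq H a b
  exact ⟨act7 H g, ⟨g, rfl⟩, hg⟩

variable [Fact (Nat.Prime 7)] (P : Sylow 7 G) {H : Subgroup G}

section

variable (hG : SG G) (hPH : (P : Subgroup G) ≤ H) (h8 : Nat.card (Sylow 7 H) = 8)
include hG hPH h8

/-- An element of `H` of order 7 moves a Sylow subgroup. -/
theorem orderOf_act7 : orderOf (act7 H ⟨gen P (card_seven P hG), hPH (pw_one P (card_seven P hG) ▸
    pw_mem P (card_seven P hG) 1)⟩) = 7 := by
  set hP := card_seven P hG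
  set y : H := ⟨gen P hP, _⟩
  have hy7 : y ^ 7 = 1 := Subtype.ext (by
    show gen P hP ^ 7 = 1
    have h := pow_orderOf_eq_one (gen P hP)
    rwa [orderOf_gen] at h)
  refine orderOf_eq_prime (by rw [← map_pow, hy7, map_one]) fun h => ?_
  haveI : Subsingleton (Sylow 7 H) := ⟨fun A B => by
    have hfix : ∀ Q : Sylow 7 H, Q = P.subtype hPH := fun Q => by
      refine (sylow_eq_of_normalizes (P.subtype hPH) Q fun u hu => ?_).symm
      refine Sylow.smul_eq_iff_mem_normalizer.1 ?_
      have hu' : (u : G) ∈ zpowers (gen P hP) := zpowers_gen P hP ▸ mem_subgroupOf.1 hu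
      obtain ⟨k, hk⟩ := mem_zpowers_iff.1 hu'
      have : u = y ^ k := Subtype.ext (by rw [SubgroupClass.coe_zpow]; exact hk.symm)
      have h1 : act7 H u = 1 := by rw [this, map_zpow, h, one_zpow]
      exact Equiv.Perm.congr_fun h1 Q
    rw [hfix A, hfix B]⟩
  have := Finite.card_le_one_iff_subsingleton.2 this
  omega

/-- The kernel consists of the regular elements centralising `P`. -/
theorem mem_ker7_iff {x : G} :
    x ∈ ker7 H ↔ x ∈ H ∧ x ∈ centralizer ((P : Subgroup G) : Set G) ∧ ¬ 7 ∣ orderOf x := by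
  set hP := card_seven P hG
  have hgH : gen P hP ∈ H := hPH (pw_one P hP ▸ pw_mem P hP 1)
  have ho := orderOf_act7 P hG hPH h8
  have hCx : ∀ w : G, w ∈ centralizer ((P : Subgroup G) : Set G) ↔ w * gen P hP = gen P hP * w := fun w => by
    rw [← zpowers_gen P hP, zpowers_eq_closure, centralizer_closure, mem_centralizer_singleton_iff]
  constructor
  · intro h
    obtain ⟨hxH⟩ : PLift (x ∈ H) := ⟨ker7_le H h⟩
    have hK : ∀ u ∈ (P : Subgroup G), u ∈ ker7 H → u = 1 := by
      intro u hu huK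
      by_contra hne
      have hz := SylowFixed.zpowers_eq_of_mem P hP hu hne
      have hg : gen P hP ∈ ker7 H := by
        have : gen P hP ∈ (P : Subgroup G) := pw_one P hP ▸ pw_mem P hP 1
        rw [hz] at this
        exact zpowers_le.2 huK this
      rw [(mem_ker7 hgH).1 hg, orderOf_one] at ho
      norm_num at ho
    -- the commutator lies in the kernel and in `P`
    have hxN : x ∈ normalizer ((P : Subgroup G) : Set G) := by
      have h1 := Equiv.Perm.congr_fun ((mem_ker7 hxH).1 h) (P.subtype hPH)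
      have h2 : (⟨x, hxH⟩ : H) • P.subtype hPH = P.subtype hPH := h1
      rw [Sylow.smul_subtype] at h2
      exact Sylow.smul_eq_iff_mem_normalizer.1 (Sylow.subtype_injective h2)
    have hgP : gen P hP ∈ (P : Subgroup G) := pw_one P hP ▸ pw_mem P hP 1
    have hc := hK (x * gen P hP * x⁻¹ * (gen P hP)⁻¹) (mul_mem ((hxN _).1 hgP) (inv_mem hgP)) (by
      rw [mul_assoc x, mul_assoc]
      exact mul_mem h (conj_mem_ker7 hgH (inv_mem h)))
    rw [mul_inv_eq_one] at hc
    have hxC := (hCx x).2 (mul_inv_eq_iff_eq_mul.1 hc)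
    refine ⟨hxH, hxC, fun hd => ?_⟩
    obtain ⟨n, hn⟩ := hd
    have hpos := orderOf_pos x
    have hv : orderOf (x ^ n) = 7 := by
      rw [orderOf_pow' x (by rintro rfl; omega), hn, Nat.gcd_mul_left_left,
        Nat.mul_div_cancel _ (by nlinarith)]
    have hvP : x ^ n ∈ (P : Subgroup G) :=
      mem_of_pElement_centralizer P (pow_mem hxC n) ⟨1, by rw [hv, pow_one]⟩
    rw [hK _ hvP (pow_mem h n), orderOf_one] at hv
    norm_num at hv
  · rintro ⟨hxH, hxC, hx7⟩
    rw [mem_ker7 hxH]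
    set y : H := ⟨gen P hP, hgH⟩
    have hcomm : Commute (act7 H ⟨x, hxH⟩) (act7 H y) :=
      (show Commute (⟨x, hxH⟩ : H) y from Subtype.ext ((hCx x).1 hxC)).map (act7 H)
    have hmem := EightPerm.mem_zpowers_of_commute h8 ho hcomm
    have h7 : orderOf (act7 H ⟨x, hxH⟩) ∣ 7 := by
      have h := orderOf_dvd_of_mem_zpowers hmem
      rwa [ho] at h
    refine orderOf_eq_one_iff.1 (((Nat.dvd_prime (by norm_num)).1 h7).resolve_right fun h => hx7 ?_)
    have := orderOf_map_dvd (act7 H) (⟨x, hxH⟩ : H)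
    rw [h, Subgroup.orderOf_mk] at this
    exact this

/-- The kernel centralises every Sylow 7-subgroup of `H`. -/
theorem ker7_commute (Q : Sylow 7 G) (hQ : (Q : Subgroup G) ≤ H) :
    ker7 H ≤ centralizer ((Q : Subgroup G) : Set G) :=
  fun x hx => ((mem_ker7_iff Q hG hQ h8).1 hx).2.1

/-- The centraliser of `P` in `H` is `P` times the kernel. -/
theorem card_centralizer_inf :
    Nat.card (centralizer ((P : Subgroup G) : Set G) ⊓ H : Subgroup G) = 7 * Nat.card (ker7 H) := by
  set hP := card_seven P hG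
  have hmem : ∀ (i : ZMod 7) (z : ker7 H),
      pw P hP i * (z : G) ∈ centralizer ((P : Subgroup G) : Set G) ⊓ H := fun i z => by
    obtain ⟨h1, h2, -⟩ := (mem_ker7_iff P hG hPH h8).1 z.2
    exact Subgroup.mem_inf.2 ⟨mul_mem (le_centralizer P hP (pw_mem P hP i)) h2,
      mul_mem (hPH (pw_mem P hP i)) h1⟩
  have hreg : ∀ z : ker7 H, (z : G) ∈ reg P := fun z =>
    (mem_reg P).2 ⟨((mem_ker7_iff P hG hPH h8).1 z.2).2.1, ((mem_ker7_iff P hG hPH h8).1 z.2).2.2⟩
  rw [← Nat.card_congr (Equiv.ofBijective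
    (fun q : ZMod 7 × ker7 H =>
      (⟨pw P hP q.1 * (q.2 : G), hmem q.1 q.2⟩ : (centralizer ((P : Subgroup G) : Set G) ⊓ H : Subgroup G)))
    ⟨fun a b h => by
      obtain ⟨h1, h2⟩ := pw_mul_unique P hP (hreg a.2) (hreg b.2) (congrArg Subtype.val h)
      exact Prod.ext h1 (Subtype.ext h2),
    fun w => by
      obtain ⟨i, z, hz, h⟩ := exists_pw_mul P hP (Subgroup.mem_inf.1 w.2).1
      obtain ⟨hzC, hz7⟩ := (mem_reg P).1 hz
      have hzH : z ∈ H := by
        have : z = (pw P hP i)⁻¹ * (w : G) := by rw [h]; group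
        rw [this]
        exact mul_mem (inv_mem (hPH (pw_mem P hP i))) (Subgroup.mem_inf.1 w.2).2
      exact ⟨(i, ⟨z, (mem_ker7_iff P hG hPH h8).2 ⟨hzH, hzC, hz7⟩⟩), Subtype.ext h.symm⟩⟩),
    Nat.card_prod, Nat.card_zmod]

/-- The order of the image on the eight Sylow subgroups. -/
theorem exists_index : ∃ d, 6 % d = 0 ∧ Nat.card (act7 H).range = 56 * d ∧
    Nat.card (normalizer ((P : Subgroup G) : Set G) ⊓ H : Subgroup G) = 7 * (d * Nat.card (ker7 H)) ∧
    Nat.card H = 56 * d * Nat.card (ker7 H) := by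
  set N := normalizer ((P : Subgroup G) : Set G)
  set C := centralizer ((P : Subgroup G) : Set G)
  have hle : C ⊓ H ≤ N ⊓ H := inf_le_inf_right H (centralizer_le_normalizer _)
  haveI hn : (C.subgroupOf N).Normal := by
    rw [← Subgroup.normalizerMonoidHom_ker]; exact MonoidHom.normal_ker _
  set d := (C ⊓ H).relIndex (N ⊓ H)
  have hd : d ∣ 6 := by
    refine dvd_trans ?_ (relIndex_dvd P (card_seven P hG))
    show d ∣ C.relIndex N
    have h1 : d = C.relIndex (N ⊓ H) := by
      show (C ⊓ H).relIndex (N ⊓ H) = _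
      rw [← Subgroup.inf_relIndex_right C (N ⊓ H), ← Subgroup.inf_relIndex_right (C ⊓ H) (N ⊓ H)]
      congr 1
      refine le_antisymm (inf_le_inf_right _ inf_le_left) (le_inf (le_inf inf_le_left ?_) inf_le_right)
      exact inf_le_right.trans inf_le_right
    rw [h1]
    have h2 := Subgroup.relIndex_dvd_index_of_normal (H := C.subgroupOf N) ((N ⊓ H).subgroupOf N)
    rw [Subgroup.relIndex_subgroupOf inf_le_left] at h2
    exact h2
  have hNH : Nat.card (N ⊓ H : Subgroup G) = 7 * (d * Nat.card (ker7 H)) := by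
    have h := ((C ⊓ H).subgroupOf (N ⊓ H)).card_mul_index
    rw [Nat.card_congr (subgroupOfEquivOfLe hle).toEquiv, card_centralizer_inf P hG hPH h8] at h
    rw [← h]; show 7 * Nat.card (ker7 H) * d = _; ring
  have hH := SylowLocal.card_eq_mul_inf P hPH
  rw [h8, hNH] at hH
  refine ⟨d, Nat.mod_eq_zero_of_dvd hd, ?_, hNH, by rw [hH]; ring⟩
  have h := (act7 H).ker.card_mul_index
  rw [Subgroup.index_ker, ← card_map_of_injective (f := H.subtype) H.subtype_injective] at h
  refine Nat.eq_of_mul_eq_mul_left (n := Nat.card (ker7 H)) Nat.card_pos ?_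
  rw [show Nat.card (ker7 H) * Nat.card (act7 H).range = Nat.card H from h, hH]
  ring

end

end CfsgLib.MTwentyTwoUnique.FromOrder
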