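import Cfsg.Agent.Lib.SmallGroups.Order168Structure
import Cfsg.Agent.Lib.SmallGroups.Basic
import Cfsg.Agent.Lib.Classical.Dickson.SmallIdent
import Mathlib

/-!
Transitive groups on eight points containing an element of order seven.
-/

set_option autoImplicit false
set_option linter.style.haveILetI false
set_option linter.unusedSectionVars false

noncomputable section

open scoped Classical

namespace CfsgLib.MTwentyTwoUnique.FromOrder.EightPerm

open Equiv Subgroup CfsgLib.SmallGroups

variable {X : Type*} [Fintype X]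

/-- An element of order 7 on eight points fixes one point and is transitive on the others. -/
theorem seven_orbit (hX : Nat.card X = 8) {x : Perm X} (hx : orderOf x = 7) :
    ∃ o : X, x o = o ∧ (∀ q, x q = q → q = o) ∧ ∀ q r, q ≠ o → r ≠ o → ∃ k : ℕ, (x ^ k) q = r := by
  haveI : Fact (Nat.Prime 7) := ⟨by norm_num⟩
  have hne : x ≠ 1 := fun h => by rw [h, orderOf_one] at hx; norm_num at hx
  have hcyc : ∀ n ∈ x.cycleType, n = 7 := fun n hn => by
    have h := Equiv.Perm.dvd_of_mem_cycleType hn
    rw [hx] at h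
    rcases (Nat.dvd_prime (by norm_num)).1 h with h | h
    · have := Equiv.Perm.two_le_of_mem_cycleType hn; omega
    · exact h
  have hsum := Equiv.Perm.sum_cycleType x
  have hle : x.support.card ≤ 8 := by
    rw [← hX, Nat.card_eq_fintype_card]; exact Finset.card_le_univ _
  have hrep := Multiset.eq_replicate_card.mpr hcyc
  rw [hrep, Multiset.sum_replicate, smul_eq_mul] at hsum
  have hpos : 0 < Multiset.card x.cycleType := Multiset.card_pos.2 fun h =>
    hne (Equiv.Perm.cycleType_eq_zero.1 h)
  have hc1 : Multiset.card x.cycleType = 1 := by omega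
  have hcycle : x.IsCycle := Equiv.Perm.card_cycleType_eq_one.1 hc1
  have h7 : x.support.card = 7 := by omega
  obtain ⟨o, ho⟩ := Finset.card_eq_one.1 (show (x.supportᶜ).card = 1 by
    rw [Finset.card_compl, h7, ← Nat.card_eq_fintype_card, hX])
  have hfix : ∀ q, x q = q ↔ q = o := fun q => by
    rw [show q = o ↔ q ∈ ({o} : Finset X) from Finset.mem_singleton.symm, ← ho, Finset.mem_compl,
      Equiv.Perm.notMem_support]
  refine ⟨o, (hfix o).2 rfl, fun q hq => (hfix q).1 hq, fun q r hq hr => ?_⟩
  obtain ⟨k, hk⟩ := hcycle.exists_pow_eq (x := q) (y := r) (fun h => hq ((hfix q).1 h))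
    (fun h => hr ((hfix r).1 h))
  exact ⟨k, hk⟩

/-- The centraliser of an element of order 7. -/
theorem mem_zpowers_of_commute (hX : Nat.card X = 8) {x y : Perm X} (hx : orderOf x = 7)
    (h : Commute y x) : y ∈ zpowers x := by
  obtain ⟨o, ho, ho', htr⟩ := seven_orbit hX hx
  have happ : ∀ (k : ℕ) (z : X), y ((x ^ k) z) = (x ^ k) (y z) := fun k z =>
    Equiv.Perm.congr_fun (h.pow_right k).eq z
  have hyo : y o = o := ho' _ (by
    have := happ 1 o
    rw [pow_one, ho] at this
    exact this.symm)
  obtain ⟨q, hq⟩ : ∃ q, q ≠ o := by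
    haveI : Nontrivial X := Finite.one_lt_card_iff_nontrivial.1 (by rw [hX]; norm_num)
    exact exists_ne o
  obtain ⟨k, hk⟩ := htr q (y q) hq (fun h => hq (y.injective (h.trans hyo.symm)))
  have : y = x ^ k := Equiv.ext fun r => by
    rcases eq_or_ne r o with rfl | hr
    · rw [hyo, Equiv.Perm.pow_apply_eq_self_of_apply_eq_self ho]
    · obtain ⟨m, rfl⟩ := htr q r hq hr
      rw [happ, ← hk, ← Equiv.Perm.mul_apply, ← Equiv.Perm.mul_apply, ← pow_add, ← pow_add, add_comm]
  rw [this]
  exact npow_mem_zpowers x k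

/-- An involution inverting an element of order 7 is odd. -/
theorem sign_of_inverting (hX : Nat.card X = 8) {x i : Perm X} (hx : orderOf x = 7) (hi : i * i = 1)
    (hxi : i * x * i⁻¹ = x⁻¹) : Equiv.Perm.sign i = -1 := by
  obtain ⟨o, ho, ho', htr⟩ := seven_orbit hX hx
  have happ : ∀ (k : ℕ) (z : X), i ((x ^ k) z) = ((x⁻¹) ^ k) (i z) := fun k z => by
    rw [← hxi, conj_pow]
    simp
  have hio : i o = o := ho' _ (by
    have h := happ 1 o
    rw [pow_one, pow_one, ho] at h
    simpa using congrArg x h)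
  -- at most two fixed points
  have huniq : ∀ p q, i p = p → i q = q → p ≠ o → q ≠ o → p = q := by
    intro p q hp hq hpo hqo
    obtain ⟨k, rfl⟩ := htr p q hpo hqo
    rw [happ, hp, inv_pow, Equiv.Perm.inv_eq_iff_eq, ← Equiv.Perm.mul_apply, ← pow_add] at hq
    have h7 : x ^ (k + k) = 1 := Equiv.ext fun r => by
      rcases eq_or_ne r o with rfl | hr
      · rw [Equiv.Perm.pow_apply_eq_self_of_apply_eq_self ho]; rfl
      · obtain ⟨m, rfl⟩ := htr p r hpo hr
        rw [← Equiv.Perm.mul_apply, ← pow_add, add_comm, pow_add, Equiv.Perm.mul_apply, ← hq]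
        rfl
    have h := orderOf_dvd_of_pow_eq_one h7
    rw [hx] at h
    have hk : x ^ k = 1 := orderOf_dvd_iff_pow_eq_one.1 (by rw [hx]; omega)
    rw [hk]; rfl
  have hfix : (i.supportᶜ).card ≤ 2 := by
    by_contra hc
    obtain ⟨a, ha, b, hb, hab⟩ := Finset.one_lt_card.1 (show 1 < (i.supportᶜ.erase o).card by
      rw [Finset.card_erase_of_mem (Finset.mem_compl.2 (Equiv.Perm.notMem_support.2 hio))]; omega)
    simp only [Finset.mem_erase, Finset.mem_compl, Equiv.Perm.notMem_support] at ha hb
    exact hab (huniq a b ha.2 hb.2 ha.1 hb.1)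
  have hfix1 : 1 ≤ (i.supportᶜ).card :=
    Finset.card_pos.2 ⟨o, Finset.mem_compl.2 (Equiv.Perm.notMem_support.2 hio)⟩
  rw [Finset.card_compl, ← Nat.card_eq_fintype_card, hX] at hfix hfix1
  have h2 : i ^ 2 = 1 := by rw [sq, hi]
  have htwo : ∀ n ∈ i.cycleType, n = 2 := fun n hn => by
    have hd : n ∣ 2 := (Equiv.Perm.dvd_of_mem_cycleType hn).trans (orderOf_dvd_of_pow_eq_one h2)
    exact le_antisymm (Nat.le_of_dvd two_pos hd) (Equiv.Perm.two_le_of_mem_cycleType hn)
  have hs := Equiv.Perm.sum_cycleType i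
  rw [Multiset.eq_replicate_card.mpr htwo, Multiset.sum_replicate, smul_eq_mul] at hs
  have h3 : Multiset.card i.cycleType = 3 := by omega
  rw [Equiv.Perm.sign_of_cycleType, Multiset.eq_replicate_card.mpr htwo, Multiset.sum_replicate,
    Multiset.card_replicate, smul_eq_mul, h3]
  decide

/-- An odd 2-element commuting with a semiregular group of order 4 or more is an 8-cycle. -/
theorem orderOf_odd (hX : Nat.card X = 8) {j : Perm X} (hj8 : ∃ k, orderOf j = 2 ^ k)
    (hodd : Equiv.Perm.sign j = -1) (B : Subgroup (Perm X)) (hB : 4 ≤ Nat.card B) (hB8 : Nat.card B ∣ 8)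
    (hfree : ∀ b ∈ B, b ≠ 1 → ∀ q, b q ≠ q) (hcomm : ∀ b ∈ B, Commute b j)
    (hsq : j * j ≠ 1 → ∀ q, j (j q) ≠ q) : orderOf j = 8 := by
  by_cases h2 : j * j = 1
  · exfalso
    have htwo : ∀ n ∈ j.cycleType, n = 2 := fun n hn => by
      have hd : n ∣ 2 := (Equiv.Perm.dvd_of_mem_cycleType hn).trans
        (orderOf_dvd_of_pow_eq_one (by rw [sq, h2]))
      exact le_antisymm (Nat.le_of_dvd two_pos hd) (Equiv.Perm.two_le_of_mem_cycleType hn)
    rw [Equiv.Perm.sign_of_cycleType, Multiset.eq_replicate_card.mpr htwo, Multiset.sum_replicate,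
      Multiset.card_replicate, smul_eq_mul] at hodd
    have hs := Equiv.Perm.sum_cycleType j
    rw [Multiset.eq_replicate_card.mpr htwo, Multiset.sum_replicate, smul_eq_mul] at hs
    have hc : Multiset.card j.cycleType % 2 = 1 := by
      by_contra hc
      have he : Even (Multiset.card j.cycleType * 2 + Multiset.card j.cycleType) :=
        ⟨3 * (Multiset.card j.cycleType / 2), by omega⟩
      rw [he.neg_one_pow] at hodd
      exact absurd hodd (by decide)
    have hle : j.support.card ≤ 8 := by rw [← hX, Nat.card_eq_fintype_card]; exact Finset.card_le_univ _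
    have hF : (j.supportᶜ).card = 8 - j.support.card := by
      rw [Finset.card_compl, ← Nat.card_eq_fintype_card, hX]
    obtain ⟨q, hq⟩ := Finset.card_pos.1 (show 0 < (j.supportᶜ).card by omega)
    have hmem : ∀ b : B, (b : Perm X) q ∈ j.supportᶜ := fun b => by
      rw [Finset.mem_compl, Equiv.Perm.notMem_support] at hq ⊢
      have h := Equiv.Perm.congr_fun (hcomm b b.2).eq q
      simp only [Equiv.Perm.mul_apply, hq] at h
      exact h.symm
    have hinj : Function.Injective fun b : B => (⟨(b : Perm X) q, hmem b⟩ : (j.supportᶜ : Finset X)) := by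
      intro a b h
      have h' : (a : Perm X) q = (b : Perm X) q := congrArg Subtype.val h
      by_contra hne
      exact hfree ((b : Perm X)⁻¹ * a) (mul_mem (inv_mem b.2) a.2)
        (fun e => hne (Subtype.ext (inv_mul_eq_one.1 e).symm)) q
        (by rw [Equiv.Perm.mul_apply, h']; simp)
    have h4 := Nat.card_le_card_of_injective _ hinj
    rw [Nat.card_eq_finsetCard] at h4
    -- the fixed set is a union of orbits of `B`
    let act : MulAction B (j.supportᶜ : Finset X) :=
      { smul := fun b r => ⟨(b : Perm X) r, by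
          have hr := r.2
          rw [Finset.mem_compl, Equiv.Perm.notMem_support] at hr ⊢
          have h := Equiv.Perm.congr_fun (hcomm b b.2).eq r.1
          simp only [Equiv.Perm.mul_apply, hr] at h
          exact h.symm⟩
        one_smul := fun r => rfl
        mul_smul := fun a b r => rfl }
    letI := act
    have hk : ∀ r : (j.supportᶜ : Finset X), MulAction.stabilizer B r = ⊥ := fun r => by
      rw [Subgroup.eq_bot_iff_forall]
      intro b hb
      by_contra hne
      exact hfree b b.2 (fun e => hne (Subtype.ext e)) r.1 (congrArg Subtype.val hb)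
    have hdvd : Nat.card B ∣ Nat.card (j.supportᶜ : Finset X) := by
      rw [Nat.card_congr (MulAction.selfEquivOrbitsQuotientProd hk), Nat.card_prod]
      exact dvd_mul_left _ _
    rw [Nat.card_eq_finsetCard, hF] at hdvd
    rw [hF] at h4
    have h5 := Nat.le_of_dvd (by omega) hdvd
    have : j.support.card = 2 ∨ j.support.card = 6 := by omega
    rcases this with h | h <;> rw [h] at hdvd h5
    · have : Nat.card B ≤ 6 := by omega
      interval_cases Nat.card B <;> omega
    · omega
  · have hne := hsq h2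
    obtain ⟨k, hk⟩ := hj8
    have hcyc : ∀ n ∈ j.cycleType, 4 ≤ n ∧ n ∣ 2 ^ k := fun n hn => by
      have hd := Equiv.Perm.dvd_of_mem_cycleType hn
      rw [hk] at hd
      refine ⟨?_, hd⟩
      by_contra hc
      have h2n := Equiv.Perm.two_le_of_mem_cycleType hn
      obtain ⟨i, -, rfl⟩ := (Nat.dvd_prime_pow Nat.prime_two).1 hd
      have hi : i = 1 := by
        match i, h2n, hc with
        | 0, h, _ => norm_num at h
        | 1, _, _ => rfl
        | n + 2, _, h => exfalso; apply h; rw [pow_add]; nlinarith [Nat.one_le_two_pow (n := n)]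
      subst hi
      obtain ⟨c, τ, hj, hdis, hc', hcard⟩ := Equiv.Perm.mem_cycleType_iff.1 hn
      obtain ⟨q, hq⟩ := Finset.card_pos.1 (show 0 < c.support.card by rw [hcard]; norm_num)
      apply hne q
      have hτ : ∀ z ∈ c.support, τ z = z := fun z hz => (hdis z).resolve_left (Equiv.Perm.mem_support.1 hz)
      have hcq : c q ∈ c.support := Equiv.Perm.apply_mem_support.2 hq
      have hc2 : c ^ 2 = 1 := orderOf_dvd_iff_pow_eq_one.1 (by rw [hc'.orderOf, hcard]; norm_num)
      rw [hj, Equiv.Perm.mul_apply, Equiv.Perm.mul_apply, hτ q hq, hτ (c q) hcq, ← Equiv.Perm.mul_apply,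
        ← sq, hc2]
      rfl
    have hlt : ∀ n ∈ j.cycleType, n = 4 ∨ n = 8 := fun n hn => by
      obtain ⟨h4, hd⟩ := hcyc n hn
      have hle : n ≤ 8 := by
        calc n ≤ j.support.card := Equiv.Perm.sum_cycleType j ▸ Multiset.le_sum_of_mem hn
          _ ≤ Fintype.card X := Finset.card_le_univ _
          _ = 8 := by rw [← Nat.card_eq_fintype_card, hX]
      obtain ⟨i, -, rfl⟩ := (Nat.dvd_prime_pow Nat.prime_two).1 hd
      match i, h4, hle with
      | 0, h, _ => norm_num at h
      | 1, h, _ => norm_num at h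
      | 2, _, _ => exact Or.inl rfl
      | 3, _, _ => exact Or.inr rfl
      | n + 4, _, h => exfalso; rw [pow_add] at h; nlinarith [Nat.one_le_two_pow (n := n)]
    by_cases h8 : (8 : ℕ) ∈ j.cycleType
    · refine Nat.dvd_antisymm ?_ (Equiv.Perm.dvd_of_mem_cycleType h8)
      rw [← Equiv.Perm.lcm_cycleType]
      refine Multiset.lcm_dvd.2 fun n hn => ?_
      rcases hlt n hn with rfl | rfl <;> norm_num
    exfalso
    have h4 : ∀ n ∈ j.cycleType, n = 4 := fun n hn =>
      (hlt n hn).resolve_right fun e => h8 (e ▸ hn)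
    rw [Equiv.Perm.sign_of_cycleType, Multiset.eq_replicate_card.mpr h4, Multiset.sum_replicate,
      Multiset.card_replicate, smul_eq_mul] at hodd
    -- no fixed point
    have hF : j.support = Finset.univ := Finset.eq_univ_iff_forall.2 fun q =>
      Equiv.Perm.mem_support.2 fun e => hne q (by rw [e, e])
    have hs := Equiv.Perm.sum_cycleType j
    rw [Multiset.eq_replicate_card.mpr h4, Multiset.sum_replicate, smul_eq_mul, hF, Finset.card_univ,
      ← Nat.card_eq_fintype_card, hX] at hs
    rw [show Multiset.card j.cycleType = 2 by omega] at hodd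
    exact absurd hodd (by decide)

section

variable {M : Type*} [Group M] [Finite M]

/-- A group of order 56 with eight Sylow 7-subgroups has a subgroup of order 8 of all 2-elements. -/
theorem exists_eight_56 (hM : Nat.card M = 56) [Fact (Nat.Prime 7)] (hn : Nat.card (Sylow 7 M) = 8) :
    ∃ E : Subgroup M, Nat.card E = 8 ∧ ∀ g, g ∈ E ↔ g ^ 8 = 1 := by
  classical
  haveI := Fintype.ofFinite M
  haveI : Fact (Nat.Prime 2) := ⟨Nat.prime_two⟩
  obtain ⟨E⟩ : Nonempty (Sylow 2 M) := inferInstance
  have hE : Nat.card (E : Subgroup M) = 8 := by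
    simpa using card_sylow_eq (show Nat.card M = 2 ^ 3 * 7 by rw [hM]; norm_num) (by norm_num) E
  have hP7 : ∀ Q : Sylow 7 M, Nat.card (Q : Subgroup M) = 7 := fun Q => by
    simpa using card_sylow_eq (show Nat.card M = 7 ^ 1 * 8 by rw [hM]; norm_num) (by norm_num) Q
  refine ⟨E, hE, fun g => ⟨fun h => ?_, fun h => ?_⟩⟩
  · have := Subgroup.orderOf_dvd_natCard _ h
    rw [hE] at this
    exact orderOf_dvd_iff_pow_eq_one.1 this
  have h7 : Nat.card {g : M // orderOf g = 7} = 48 := by
    rw [CfsgLib.Classical.Dickson.card_orderOf_eq hP7, hn]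
  set A := Finset.univ.filter fun g : M => orderOf g = 7
  set B := Finset.univ.filter fun g : M => g ∈ (E : Subgroup M)
  have hA : A.card = 48 := by rw [← h7, Nat.card_eq_fintype_card, Fintype.card_subtype]
  have hB : B.card = 8 := by
    rw [← hE, Nat.card_eq_fintype_card]; exact (Fintype.card_subtype _).symm
  have hdis : Disjoint A B := Finset.disjoint_left.2 fun a ha hb => by
    have h1 := Subgroup.orderOf_dvd_natCard _ (Finset.mem_filter.1 hb).2
    rw [hE, (Finset.mem_filter.1 ha).2] at h1
    norm_num at h1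
  have huniv : A ∪ B = Finset.univ := Finset.eq_univ_of_card _ (by
    rw [Finset.card_union_of_disjoint hdis, hA, hB, ← Nat.card_eq_fintype_card, hM])
  have hg : g ∈ A ∪ B := huniv ▸ Finset.mem_univ g
  rcases Finset.mem_union.1 hg with h' | h'
  · have h1 := orderOf_dvd_of_pow_eq_one h
    rw [(Finset.mem_filter.1 h').2] at h1
    norm_num at h1
  · exact (Finset.mem_filter.1 h').2

/-- An involution inverting an element of order 7 that acts without fixed points on a group of order 8. -/
theorem no_inverting {E : Subgroup M} (hn : E.Normal) (hE : Nat.card E = 8) {x i : M} (hx : orderOf x = 7)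
    (hfpf : ∀ e ∈ E, Commute e x → e = 1) (hi : i * i = 1) (hxi : i * x * i⁻¹ = x⁻¹) : False := by
  classical
  haveI := Fintype.ofFinite M
  -- conjugates of a non-trivial element
  set S := Finset.univ.filter fun e : M => e ∈ E ∧ e ≠ 1
  have hS : S.card = 7 := by
    have h1 : (Finset.univ.filter fun e : M => e ∈ E).card = 8 := by
      rw [← hE, Nat.card_eq_fintype_card]; exact (Fintype.card_subtype _).symm
    have h2 : S = (Finset.univ.filter fun e : M => e ∈ E).erase 1 := by
      ext e; simp [S, and_comm]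
    rw [h2, Finset.card_erase_of_mem (by simp), h1]
  have hx7 : x ^ 7 = 1 := hx ▸ pow_orderOf_eq_one x
  let c : ℕ → M → M := fun k e => x ^ k * e * (x ^ k)⁻¹
  have hcS : ∀ k, ∀ e ∈ S, c k e ∈ S := fun k e he => by
    simp only [S, Finset.mem_filter, Finset.mem_univ, true_and] at he ⊢
    exact ⟨hn.conj_mem e he.1 _, fun h => he.2 (conj_eq_one_iff.1 h)⟩
  have hinj : ∀ e ∈ S, Function.Injective fun k : Fin 7 => c k e := by
    intro e he
    have key : ∀ a b : ℕ, a ≤ b → b < 7 → c a e = c b e → a = b := by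
      intro a b hab hb heq
      by_contra hne
      simp only [c] at heq
      have h1 : Commute e (x ^ (b - a)) := by
        rw [show b = a + (b - a) by omega, pow_add] at heq
        have h2 : x ^ (b - a) * e * (x ^ (b - a))⁻¹ = e := by
          apply mul_left_cancel (a := x ^ a)
          apply mul_right_cancel (b := (x ^ a)⁻¹)
          rw [heq]
          group
        exact (mul_inv_eq_iff_eq_mul.1 h2).symm
      obtain ⟨m, hm⟩ : ∃ m, (x ^ (b - a)) ^ m = x := by
        haveI : Fact (Nat.Prime 7) := ⟨by norm_num⟩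
        have hcop : Nat.Coprime (b - a) (orderOf x) := by
          rw [hx]
          exact ((Nat.Prime.coprime_iff_not_dvd (by norm_num)).2 fun h => by
            have := Nat.le_of_dvd (by omega) h; omega).symm
        obtain ⟨m, hm⟩ := exists_pow_eq_self_of_coprime hcop
        exact ⟨m, hm⟩
      simp only [S, Finset.mem_filter, Finset.mem_univ, true_and] at he
      exact he.2 (hfpf e he.1 (hm ▸ h1.pow_right m))
    intro a b h
    rcases le_total (a : ℕ) b with hle | hle
    · exact Fin.ext (key _ _ hle b.2 h)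
    · exact (Fin.ext (key _ _ hle a.2 h.symm)).symm
  have hsurj : ∀ e ∈ S, ∀ e' ∈ S, ∃ k : ℕ, k < 7 ∧ c k e = e' := by
    intro e he e' he'
    have himg : (Finset.univ : Finset (Fin 7)).image (fun k : Fin 7 => c (k : ℕ) e) = S := by
      refine Finset.eq_of_subset_of_card_le (fun y hy => ?_) (by
        rw [Finset.card_image_of_injective _ (hinj e he), Finset.card_univ, Fintype.card_fin, hS])
      obtain ⟨k, -, rfl⟩ := Finset.mem_image.1 hy
      exact hcS _ e he
    rw [← himg] at he'
    obtain ⟨k, -, hk⟩ := Finset.mem_image.1 he'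
    exact ⟨k, k.2, hk⟩
  -- involutions only
  have hsq : ∀ e ∈ E, e * e = 1 := by
    haveI : Fact (Nat.Prime 2) := ⟨Nat.prime_two⟩
    obtain ⟨t, ht⟩ := exists_prime_orderOf_dvd_card' (G := E) 2 (by rw [hE]; norm_num)
    have htS : (t : M) ∈ S := by
      simp only [S, Finset.mem_filter, Finset.mem_univ, true_and]
      refine ⟨t.2, fun h => ?_⟩
      rw [← Subgroup.orderOf_coe, h, orderOf_one] at ht
      norm_num at ht
    have htt : (t : M) * t = 1 := by
      rw [← sq, ← ht, ← Subgroup.orderOf_coe, pow_orderOf_eq_one]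
    intro e he
    rcases eq_or_ne e 1 with rfl | hne
    · rw [one_mul]
    obtain ⟨k, -, rfl⟩ := hsurj _ htS e (by simp [S, he, hne])
    simp only [c]
    rw [show x ^ k * t * (x ^ k)⁻¹ * (x ^ k * t * (x ^ k)⁻¹) = x ^ k * (t * t) * (x ^ k)⁻¹ by group, htt]
    group
  have hcommE : ∀ a ∈ E, ∀ b ∈ E, a * b = b * a := fun a ha b hb => by
    have h := hsq _ (mul_mem ha hb)
    calc a * b = a * (a * b * (a * b)) * b := by rw [h, mul_one]
      _ = a * a * (b * a) * (b * b) := by group
      _ = b * a := by rw [hsq a ha, hsq b hb, one_mul, mul_one]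
  -- a fixed element of the involution
  obtain ⟨e, heS, hie⟩ : ∃ e ∈ S, i * e * i⁻¹ = e := by
    by_contra hall
    push Not at hall
    let f : S → S := fun e => ⟨i * e * i⁻¹, by
      have he := e.2
      simp only [S, Finset.mem_filter, Finset.mem_univ, true_and] at he ⊢
      exact ⟨hn.conj_mem _ he.1 i, fun h => he.2 (conj_eq_one_iff.1 h)⟩⟩
    have hff : ∀ e, f (f e) = e := fun e => Subtype.ext (by
      show i * (i * e * i⁻¹) * i⁻¹ = e
      rw [show i * (i * (e : M) * i⁻¹) * i⁻¹ = (i * i) * e * (i * i)⁻¹ by group, hi]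
      group)
    let σ : Perm S := ⟨f, f, hff, hff⟩
    haveI : Fact (Nat.Prime 2) := ⟨Nat.prime_two⟩
    have h := Equiv.Perm.exists_fixed_point_of_prime (p := 2) (n := 1) (σ := σ)
      (by rw [Fintype.card_coe, hS]; norm_num) (Equiv.ext fun e => by simp [sq, σ, hff])
    obtain ⟨e, he⟩ := h
    exact hall e e.2 (congrArg Subtype.val he)
  have heE : e ∈ E := (Finset.mem_filter.1 heS).2.1
  have he1 : e ≠ 1 := (Finset.mem_filter.1 heS).2.2
  have c1S := hcS 1 e heS
  have hne : e * c 1 e ∈ S := by
    simp only [S, Finset.mem_filter, Finset.mem_univ, true_and] at c1S ⊢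
    refine ⟨mul_mem heE c1S.1, fun h => ?_⟩
    have h1 : c 1 e = e := by
      rw [← inv_eq_of_mul_eq_one_right h, inv_eq_of_mul_eq_one_left (hsq e heE)]
    exact he1 (hfpf e heE (by
      simp only [c, pow_one] at h1
      exact (mul_inv_eq_iff_eq_mul.1 h1).symm))
  obtain ⟨k, hk, hke⟩ := hsurj e heS _ hne
  have cadd : ∀ a b y, c (a + b) y = c a (c b y) := fun a b y => by
    simp only [c, pow_add]; group
  have cmul : ∀ a y z, c a (y * z) = c a y * c a z := fun a y z => by simp only [c]; group
  have c7 : ∀ y, c 7 y = y := fun y => by simp only [c, hx7]; group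
  have c0 : ∀ y, c 0 y = y := fun y => by simp [c]
  have cmod : ∀ a, c a e = c (a % 7) e := fun a => by
    simp only [c]; rw [← pow_mod_orderOf, hx]
  -- conjugation by the involution
  have hic : ∀ a, a ≤ 7 → i * c a e * i⁻¹ = c (7 - a) e := fun a ha => by
    have h1 : i * x ^ a * i⁻¹ = x ^ (7 - a) := by
      rw [← conj_pow, hxi, inv_pow, inv_eq_iff_mul_eq_one, ← pow_add, show a + (7 - a) = 7 by omega, hx7]
    simp only [c]
    rw [← h1]
    calc i * (x ^ a * e * (x ^ a)⁻¹) * i⁻¹ = i * x ^ a * i⁻¹ * (i * e * i⁻¹) * (i * x ^ a * i⁻¹)⁻¹ := by group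
      _ = _ := by rw [hie]
  -- e + xe = x^k e and its image
  have e1 : e * c 6 e = c (7 - k) e := by
    rw [← hic k hk.le, hke]
    calc e * c 6 e = i * e * i⁻¹ * (i * c 1 e * i⁻¹) := by rw [hie, hic 1 (by norm_num)]
      _ = i * (e * c 1 e) * i⁻¹ := by group
  have e2 : c 1 e * e = c (8 - k) e := by
    rw [show 8 - k = 1 + (7 - k) by omega, cadd 1 (7 - k), ← e1, cmul, ← cadd, c7]
  have hkk : (8 - k) % 7 = k := by
    have h : c (8 - k) e = c k e := by rw [← e2, hke, hcommE _ (Finset.mem_filter.1 c1S).2.1 _ heE]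
    rw [cmod (8 - k)] at h
    exact congrArg Fin.val (hinj e heS (a₁ := ⟨(8 - k) % 7, Nat.mod_lt _ (by norm_num)⟩)
      (a₂ := ⟨k, hk⟩) h)
  obtain rfl : k = 4 := by omega
  have e3 : c 1 e = c 4 e * e := by
    rw [hke, hcommE e heE _ (Finset.mem_filter.1 c1S).2.1, mul_assoc, hsq e heE, mul_one]
  have e4 : c 4 e * c 5 e = c 1 e := by
    rw [show c 5 e = c 4 (c 1 e) from cadd 4 1 e, ← cmul, ← hke, ← cadd, cmod (4 + 4)]
  have e5 : c 5 e = e := mul_left_cancel (a := c 4 e) (e4.trans e3)
  have := congrArg Fin.val (hinj e heS (a₁ := (5 : Fin 7)) (a₂ := (0 : Fin 7))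
    (show c 5 e = c 0 e by rw [e5, c0]))
  norm_num at this

end

end CfsgLib.MTwentyTwoUnique.FromOrder.EightPerm
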