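import Cfsg.Agent.Lib.MTwentyTwoUnique.FromOrder.Tools
import Mathlib

/-!
A simple group of order 443520: the Sylow 11-subgroup is self-centralising with normaliser of order 55.
-/

set_option autoImplicit false
set_option linter.style.haveILetI false
set_option linter.unusedSectionVars false

noncomputable section

open scoped Classical

namespace CfsgLib.MTwentyTwoUnique.FromOrder

open Subgroup CfsgLib.SmallGroups CfsgLib.SmallSimple Cfsg

/-- Sylow numbers and automizer orders at 11. -/
def optsEleven : List (ℕ × ℕ) :=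
  [(144, 2), (144, 5), (144, 10), (210, 2), (320, 2), (672, 2), (672, 5), (672, 10), (2520, 2), (8064, 5)]

theorem optsEleven_ok : Band6232.optsOK 11 40320 optsEleven = true := by decide +kernel

theorem mem_centsEleven {C : ℕ} (h : 2 * 11 ∣ C) (hC : C ∣ 443520) (hlt : C < 443520) :
    C ∈ centsEleven := by
  obtain ⟨k, rfl⟩ := h
  have hk : k ∣ 20160 := Nat.dvd_of_mul_dvd_mul_left (by norm_num : 0 < 2 * 11) hC
  exact List.mem_map.mpr ⟨k, List.mem_filter.mpr ⟨mem_dvs [64, 9, 5, 7] (by simp) (by simpa using hk),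
    decide_eq_true (by omega)⟩, by norm_num⟩

variable {G : Type*} [Group G] [Fintype G]

/-- No normaliser of order `2 · 63 · 11`. -/
theorem not_eleven_sixtyThree (hG : SG G) [Fact (Nat.Prime 11)] (P : Sylow 11 G)
    (hN : Nat.card (normalizer ((P : Subgroup G) : Set G)) = 11 * (2 * 63))
    (hC : Nat.card (centralizer ((P : Subgroup G) : Set G)) = 11 * 63) : False := by
  haveI := hG.simple
  haveI : Fact (Nat.Prime 7) := ⟨by norm_num⟩
  haveI : Fact (Nat.Prime 3) := ⟨by norm_num⟩
  have hnG : Nat.card G = 11 * 40320 := by rw [hG.card]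
  have hP := Band6232.card_of_prime hnG (by norm_num) P
  set D := centralizer ((P : Subgroup G) : Set G)
  obtain ⟨Q⟩ : Nonempty (Sylow 7 D) := inferInstance
  have hQ : Nat.card (Q : Subgroup D) = 7 := by
    simpa using card_sylow_eq (show Nat.card D = 7 ^ 1 * 99 by rw [hC]; norm_num) (by norm_num) Q
  -- the normaliser of `Q` in `C(P)` contains `P`
  set PD := (P : Subgroup G).subgroupOf D
  have hPD : PD ≤ centralizer ((Q : Subgroup D) : Set D) := fun x hx =>
    mem_centralizer_iff.2 fun y _ => Subtype.ext (mem_centralizer_iff.1 y.2 _ (mem_subgroupOf.1 hx)).symm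
  haveI : IsMulCommutative (Q : Subgroup D) :=
    haveI := isCyclic_of_prime_card (p := 7) hQ
    inferInstance
  have h77 : 77 ∣ Nat.card (centralizer ((Q : Subgroup D) : Set D)) := by
    refine Nat.Coprime.mul_dvd_of_dvd_of_dvd (by norm_num : Nat.Coprime 7 11) ?_ ?_
    · have h := card_dvd_of_le (Subgroup.le_centralizer (Q : Subgroup D))
      rwa [hQ] at h
    · have h := card_dvd_of_le hPD
      rwa [Nat.card_congr (subgroupOfEquivOfLe (by
        haveI := isCyclic_of_prime_card (p := 11) hP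
        haveI : IsMulCommutative (P : Subgroup G) := inferInstance
        exact Subgroup.le_centralizer _)).toEquiv, hP] at h
  have hidx : (centralizer ((Q : Subgroup D) : Set D)).relIndex (normalizer ((Q : Subgroup D) : Set D)) ∣ 6 :=
    CfsgLib.Blocks.PrimeSylow.relIndex_dvd Q hQ
  have h1 := card_sylow_mul_card_normalizer Q
  have h2 := Order459648.card_centralizer_mul_relIndex (Q : Subgroup D)
  rw [hC] at h1
  have h3 : 3 ∣ Nat.card (centralizer ((Q : Subgroup D) : Set D)) := by
    obtain ⟨a, ha⟩ := h77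
    have hn := card_sylow_modEq_one 7 D
    set n := Nat.card (Sylow 7 D)
    set d := (centralizer ((Q : Subgroup D) : Set D)).relIndex (normalizer ((Q : Subgroup D) : Set D))
    rw [← h2, ha] at h1
    have h4 : n * (a * d) = 9 := by
      have h5 : 77 * (n * (a * d)) = 77 * 9 := by rw [show (77 : ℕ) * 9 = 11 * 63 by norm_num, ← h1]; ring
      omega
    have hnd : n ∣ 9 := Dvd.intro _ h4
    have hn1 : n = 1 := by
      have : ∀ k ∈ Nat.divisors 9, k % 7 = 1 → k = 1 := by decide
      exact this n (Nat.mem_divisors.mpr ⟨hnd, by norm_num⟩) hn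
    rw [hn1, one_mul] at h4
    have hd9 : d ∣ 3 := (Nat.dvd_gcd hidx (Dvd.intro_left _ h4)).trans (by norm_num)
    rw [ha]
    rcases (Nat.dvd_prime Nat.prime_three).1 hd9 with h | h <;> rw [h] at h4
    · exact dvd_mul_of_dvd_right ⟨3, by omega⟩ _
    · exact dvd_mul_of_dvd_right ⟨1, by omega⟩ _
  obtain ⟨y, hy⟩ := exists_prime_orderOf_dvd_card' (G := centralizer ((Q : Subgroup D) : Set D)) 3 h3
  set z : G := ((y : D) : G) with hz
  have hzo : orderOf z = 3 := by rw [hz, Subgroup.orderOf_coe, Subgroup.orderOf_coe, hy]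
  have hzC : z ∈ D := y.1.2
  have hcount := local_count P (r := 2) (u := 63) hN hC hzo hzC (by norm_num)
  obtain ⟨h4, h5, h6, -⟩ := Band6232.fixCard_facts hG.not_comm P hP (k := 320) (by
      have h := card_sylow_mul_card_normalizer P
      rw [hN, hG.card] at h
      omega) (by norm_num) Nat.prime_three (by norm_num) hzo hzC
    (Band6232.centralizes_of_coprime P hN hC hzo (by norm_num))
  have hPH := sylow_le_centralizer P hzC
  have h231 : 231 ∣ Nat.card (normalizer ((P : Subgroup G) : Set G) ⊓ centralizer ({z} : Set G) : Subgroup G) := by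
    refine Nat.Coprime.mul_dvd_of_dvd_of_dvd (by norm_num : Nat.Coprime 21 11) ?_ ?_
    · refine Nat.Coprime.mul_dvd_of_dvd_of_dvd (by norm_num : Nat.Coprime 3 7) ?_ ?_
      · exact hzo ▸ Subgroup.orderOf_dvd_natCard _
          ⟨centralizer_le_normalizer _ hzC, mem_centralizer_singleton_iff.2 rfl⟩
      · rw [← hQ, ← card_map_of_injective (f := D.subtype) D.subtype_injective]
        refine card_dvd_of_le ?_
        rintro _ ⟨w, hw, rfl⟩
        exact ⟨centralizer_le_normalizer _ w.2, mem_centralizer_singleton_iff.2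
          (congrArg Subtype.val (mem_centralizer_iff.1 y.2 w hw))⟩
    · have h := card_dvd_of_le (le_inf le_normalizer hPH :
        (P : Subgroup G) ≤ normalizer ((P : Subgroup G) : Set G) ⊓ centralizer ({z} : Set G))
      rwa [hP] at h
  have hH := SylowLocal.card_eq_mul_inf P hPH
  rw [hcount] at hH
  have hdvd : SylowFixed.fixCard 11 z * 231 ∣ 443520 := hG.card ▸
    ((Nat.mul_dvd_mul_left _ h231).trans (hH ▸ card_subgroup_dvd_card _))
  set F := SylowFixed.fixCard 11 z
  have hF : F ∣ 1920 := Nat.dvd_of_mul_dvd_mul_right (by norm_num : 0 < 231) hdvd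
  have key : ∀ k ∈ dvs [128, 15], k < 320 → k % 11 = 1 → k % 3 = 2 → False := by decide +kernel
  exact key F (mem_dvs [128, 15] (by simp) (by simpa using hF)) h4 h5 h6

/-- The Sylow 11-data. -/
theorem eleven (hG : SG G) (x : G) (hx : orderOf x = 11) :
    Nat.card (centralizer ({x} : Set G)) = 11 ∧
      Nat.card (normalizer ((zpowers x : Subgroup G) : Set G)) = 55 := by
  haveI : Fact (Nat.Prime 11) := ⟨by norm_num⟩
  haveI := hG.simple
  have hnG : Nat.card G = 11 * 40320 := by rw [hG.card]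
  obtain ⟨P, hPx, hcx⟩ := exists_sylow_zpowers hnG (by norm_num) hx
  have hP := Band6232.card_of_prime hnG (by norm_num) P
  obtain ⟨k, r, u, hmem, -, hkru, hN, hC⟩ :=
    Band6232.options hG.not_comm hG.card (by norm_num) (by norm_num) P optsEleven optsEleven_ok
  obtain ⟨hrel, hreg⟩ := relIndex_and_reg P hP hN hC
  have key : (r = 2 ∧ u = 63) ∨ (r = 2 ∧ 2 ∣ u) ∨ (r = 5 ∧ 2 ∣ u) ∨ (r = 10 ∧ u ∈ [6, 28, 72, 336]) ∨
      (r = 5 ∧ u = 1) := by
    simp only [optsEleven, List.mem_cons, Prod.mk.injEq, List.not_mem_nil, or_false] at hmem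
    rcases hmem with ⟨rfl, rfl⟩ | ⟨rfl, rfl⟩ | ⟨rfl, rfl⟩ | ⟨rfl, rfl⟩ | ⟨rfl, rfl⟩ | ⟨rfl, rfl⟩ |
      ⟨rfl, rfl⟩ | ⟨rfl, rfl⟩ | ⟨rfl, rfl⟩ | ⟨rfl, rfl⟩ <;>
      simp only [List.mem_cons, List.not_mem_nil, or_false, true_and] <;> omega
  obtain ⟨B⟩ := exists_pb P hP r hrel
  have hok : ∀ χ : IrrCharacter G, χ ≠ CfsgLib.Char.irrOne → (fun _ : ℕ => true) (InvolChar.deg χ) = true :=
    fun _ _ => rfl
  rcases key with ⟨rfl, rfl⟩ | ⟨rfl, hu⟩ | ⟨rfl, hu⟩ | ⟨rfl, hu⟩ | ⟨rfl, rfl⟩
  · exact (not_eleven_sixtyThree hG P hN hC).elim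
  · obtain ⟨t, ht, ht1, -, htC, -⟩ := exists_involution P hP (by norm_num) hC hu
    exact (B.false_of_noTuples hG le_rfl (by norm_num) degs_two_eleven hok fun χ hχ hne =>
      (B.val_facts hG (by norm_num) ht ht1 htC (Finset.mem_union_left _ hχ) hne).2.2).elim
  · obtain ⟨t, ht, ht1, -, htC, h22⟩ := exists_involution P hP (by norm_num) hC hu
    exact (B.false_of_deadOdd hG (by norm_num) (by norm_num) hrel (by norm_num) dead_eleven_five hok ht ht1
      htC (mem_centsEleven h22 (hG.card ▸ card_subgroup_dvd_card _) (centralizer_lt hG ht1))).elim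
  · have hu2 : 2 ∣ u := by
      simp only [List.mem_cons, List.not_mem_nil, or_false] at hu; omega
    obtain ⟨t, ht, ht1, -, htC, h22⟩ := exists_involution P hP (by norm_num) hC hu2
    have h := B.excl_of_deadFull hG rfl (by norm_num) dead_eleven_ten hok ht ht1 htC
      (mem_centsEleven h22 (hG.card ▸ card_subgroup_dvd_card _) (centralizer_lt hG ht1))
      (by rw [hreg]; exact hu)
    exact absurd h (by simp)
  · exact ⟨hcx ▸ hC, hPx ▸ hN⟩

end CfsgLib.MTwentyTwoUnique.FromOrder
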