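import Cfsg.Agent.Lib.MTwentyTwoUnique.FromOrder.FiveSearch
import Cfsg.Agent.Lib.MTwentyTwoUnique.FromOrder.Tools
import Cfsg.Agent.Lib.MTwentyTwoUnique.Table
import Cfsg.Agent.Lib.SmallSimple.Band6232.Tools
import Mathlib

/-!
A simple group of order 443520 with the Sylow normalisers at 7 and 11: the Sylow 5-normaliser has order 20.
-/

set_option autoImplicit false
set_option linter.style.haveILetI false
set_option linter.unusedSectionVars false

noncomputable section

open scoped Classical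

namespace CfsgLib.MTwentyTwoUnique.FromOrder

open Subgroup CfsgLib.InvolChar CfsgLib.SmallGroups CfsgLib.SmallSimple CfsgLib.Blocks CfsgLib.Blocks.PrimeSylow Cfsg
open CfsgLib.MTwentyTwoUnique (sgn sgn_eq tsgn tsgn_eq okEleven candEleven validEleven totOne validVal valList
  mem_valList validVal_of exists_seven exists_sc_eleven okEleven_deg deg_dvd deg_lt two_le_deg Blk7
  validFiveTwo search_five_two eleven_X exists_pair_sorted not_isConj_inv_of_odd not_dvd_centralizer_of_self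
  candEleven_mem)

variable {G : Type*} [Group G] [Fintype G] (hL : Pre G)
include hL

theorem pre_val_ok {z : G} (hzz : z * z = 1) (hz1 : z ≠ 1) {χ : IrrCharacter G}
    (hχ : χ ≠ CfsgLib.Char.irrOne) :
    validVal (Nat.card (centralizer ({z} : Set G))) (deg χ) (intVal χ hzz) = true := by
  refine validVal_of hL hzz hz1 hχ ?_
  have h := CfsgLib.MTwelveUnique.sum_sq_val (fun η : IrrCharacter G => intVal η hzz) (fun η => intVal_spec η hzz)
  have h1 : intVal (CfsgLib.Char.irrOne : IrrCharacter G) hzz = 1 := intVal_irrOne hzz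
  have h2 := Finset.add_sum_erase (Finset.univ : Finset (IrrCharacter G))
    (fun η => intVal η hzz * intVal η hzz) (Finset.mem_univ CfsgLib.Char.irrOne)
  have h3 := Finset.single_le_sum (f := fun η : IrrCharacter G => intVal η hzz * intVal η hzz)
    (fun η _ => mul_self_nonneg _) (Finset.mem_erase.mpr ⟨hχ, Finset.mem_univ χ⟩)
  simp only [h1, mul_one] at h2
  linarith

theorem not_isConj_inv_of_seven_or_eleven {x : G} (hx : orderOf x = 7 ∨ orderOf x = 11) :
    ¬ IsConj x x⁻¹ := by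
  have h2 : x * x ≠ 1 := fun h => by
    have := orderOf_dvd_of_pow_eq_one (x := x) (n := 2) (by rw [sq]; exact h)
    rcases hx with e | e <;> rw [e] at this <;> norm_num at this
  rcases hx with hx | hx
  · exact not_isConj_inv_of_odd (hL.seven x hx).2 (by norm_num) h2
  · exact not_isConj_inv_of_odd (hL.eleven x hx).2 (by norm_num) h2

/-- The values in the principal 7-block at an involution. -/
theorem seven_vals (S : Blk7 G) {t : G} (ht : t * t = 1) (ht2 : orderOf t = 2) :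
    intVal S.θ ht = 1 - intVal S.a ht + intVal S.b ht ∧ intVal S.θ' ht = 1 - intVal S.a ht + intVal S.b ht ∧
      (1 : ℚ) - (intVal S.a ht : ℚ) * intVal S.a ht / 55 + (intVal S.b ht : ℚ) * intVal S.b ht / deg S.b -
        (intVal S.θ ht : ℚ) * intVal S.θ ht / deg S.θ = 0 := by
  haveI : Fact (Nat.Prime 7) := ⟨by norm_num⟩
  obtain ⟨x, hx⟩ := exists_prime_orderOf_dvd_card' (G := G) 7 (by rw [hL.card]; norm_num)
  set v : IrrCharacter G → ℤ := fun χ => intVal χ ht
  have hvs : ∀ χ : IrrCharacter G, (χ : G → ℂ) t = (v χ : ℂ) := fun χ => intVal_spec χ ht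
  have hr7 := S.rel (g := t) (by rw [ht2]; norm_num)
  simp only [hvs] at hr7
  have hθv : v S.θ = 1 - v S.a + v S.b ∧ v S.θ' = 1 - v S.a + v S.b :=
    ⟨by exact_mod_cast hr7.1, by exact_mod_cast hr7.2⟩
  refine ⟨hθv.1, hθv.2, ?_⟩
  have h := S.B.square_rel (by norm_num) hx (not_isConj_inv_of_seven_or_eleven hL (Or.inl hx)) ht v hvs
    (v S.θ) fun η hη => by
      rw [S.Y_eq', Finset.mem_insert, Finset.mem_singleton] at hη
      rcases hη with rfl | rfl
      · rfl
      · rw [hθv.1, hθv.2]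
  rw [S.sum_X, S.s_one, S.s_a, S.s_b, S.ε_eq, deg_irrOne, show v CfsgLib.Char.irrOne = 1 from intVal_irrOne ht,
    S.deg_a, ← S.B.deg_Y S.θ S.θ_mem.1] at h
  push_cast at h
  linear_combination h

theorem seven_norm (S : Blk7 G) {t : G} (ht : t * t = 1) :
    1 + intVal S.a ht * intVal S.a ht + intVal S.b ht * intVal S.b ht + (intVal S.θ ht * intVal S.θ ht +
      intVal S.θ' ht * intVal S.θ' ht) ≤ (Nat.card (centralizer ({t} : Set G)) : ℤ) := by
  rw [← CfsgLib.MTwelveUnique.sum_sq_val (fun χ => intVal χ ht) (fun χ => intVal_spec χ ht)]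
  refine le_trans (le_of_eq ?_) (Finset.sum_le_sum_of_subset_of_nonneg (Finset.subset_univ (S.B.X ∪ S.B.Y))
    fun χ _ _ => mul_self_nonneg _)
  rw [Finset.sum_union S.B.disj, S.sum_X, S.sum_Y,
    show intVal (CfsgLib.Char.irrOne : IrrCharacter G) ht = 1 from intVal_irrOne ht]
  ring

set_option maxHeartbeats 800000 in
/-- The first family at an involution centralising an element of order five. -/
theorem not_nine (S : Blk7 G) (hb : deg S.b = 99) {t : G} (ht : t * t = 1) (ht1 : t ≠ 1)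
    (ht2 : orderOf t = 2) (hC : Nat.card (centralizer ({t} : Set G)) ∈ centsFive) : False := by
  haveI : Fact (Nat.Prime 7) := ⟨by norm_num⟩
  haveI : Fact (Nat.Prime 11) := ⟨by norm_num⟩
  obtain ⟨hθd, hθd'⟩ : deg S.θ = 45 ∧ deg S.θ' = 45 := by
    rcases S.deg_b with ⟨-, h⟩ | ⟨h, -⟩
    · exact h
    · omega
  obtain ⟨B⟩ := exists_sc_eleven hL
  obtain ⟨x, hx⟩ := exists_prime_orderOf_dvd_card' (G := G) 11 (by rw [hL.card]; norm_num)
  obtain ⟨h1X, hs1⟩ := B.one_X (by norm_num) (by norm_num) hx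
  set C := Nat.card (centralizer ({t} : Set G))
  have hC' := centsFive_le C hC
  set v : IrrCharacter G → ℤ := fun χ => intVal χ ht
  have hvs : ∀ χ : IrrCharacter G, (χ : G → ℂ) t = (v χ : ℂ) := fun χ => intVal_spec χ ht
  have hv1 : v CfsgLib.Char.irrOne = 1 := intVal_irrOne ht
  have hne1 : ∀ χ : IrrCharacter G, deg χ ≠ 1 → χ ≠ CfsgLib.Char.irrOne := fun χ h e => h (by rw [e, deg_irrOne])
  have h1θ : CfsgLib.Char.irrOne ≠ S.θ ∧ CfsgLib.Char.irrOne ≠ S.θ' :=
    ⟨(hne1 _ (by omega)).symm, (hne1 _ (by omega)).symm⟩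
  have hθX : S.θ ∈ B.X ∧ S.θ' ∈ B.X :=
    ⟨eleven_X hθd (by norm_num) (by norm_num), eleven_X hθd' (by norm_num) (by norm_num)⟩
  have hout : ∀ χ ∈ B.X ∪ B.Y, ¬ 7 ∣ deg χ → χ = CfsgLib.Char.irrOne ∨ χ = S.θ ∨ χ = S.θ' := by
    intro χ hχ h7
    have h11 : ¬ 11 ∣ deg χ := by
      rcases Finset.mem_union.mp hχ with h | h
      · exact B.not_dvd_of_mem_X h
      · rw [B.deg_Y χ h]; exact B.not_dvd_f (by norm_num)
    rcases S.mem_iff h7 with e | e | e | e | e
    · exact Or.inl e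
    · rw [e, S.deg_a] at h11; exact absurd (by norm_num) h11
    · rw [e, hb] at h11; exact absurd (by norm_num) h11
    · exact Or.inr (Or.inl e)
    · exact Or.inr (Or.inr e)
  obtain ⟨u, u', hu, hYe⟩ := Finset.card_eq_two.mp (show B.Y.card = 2 by rw [B.card_Y])
  have huY : u ∈ B.Y ∧ u' ∈ B.Y := by simp [hYe]
  have hune : ∀ η ∈ B.Y, η ≠ CfsgLib.Char.irrOne ∧ η ≠ S.θ ∧ η ≠ S.θ' := fun η hη =>
    ⟨fun e => Finset.disjoint_left.mp B.disj h1X (e ▸ hη), fun e => Finset.disjoint_left.mp B.disj hθX.1 (e ▸ hη),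
      fun e => Finset.disjoint_left.mp B.disj hθX.2 (e ▸ hη)⟩
  have hY7 : ∀ η ∈ B.Y, 7 ∣ deg η := fun η hη => by
    by_contra h7
    obtain ⟨e1, e2, e3⟩ := hune η hη
    rcases hout η (Finset.mem_union_right _ hη) h7 with e | e | e <;> contradiction
  have hfdeg : deg u = B.f := B.deg_Y u huY.1
  have hfpos : 0 < B.f := hfdeg ▸ deg_pos u
  set N : Finset (IrrCharacter G) := {CfsgLib.Char.irrOne, S.θ, S.θ'} with hN
  have hNX : N ⊆ B.X := by
    intro χ hχ
    simp only [hN, Finset.mem_insert, Finset.mem_singleton] at hχ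
    rcases hχ with rfl | rfl | rfl
    exacts [h1X, hθX.1, hθX.2]
  have hNc : N.card = 3 := by
    rw [hN, Finset.card_insert_of_notMem (by simp [h1θ.1, h1θ.2]), Finset.card_pair S.θ_ne]
  obtain ⟨A, A', hle, hAne, hO⟩ := exists_pair_sorted (fun χ : IrrCharacter G => deg χ)
    (show (B.X \ N).card = 2 by rw [Finset.card_sdiff_of_subset hNX, B.card_X, hNc])
  have hO7 : ∀ χ ∈ B.X \ N, 7 ∣ deg χ ∧ χ ≠ CfsgLib.Char.irrOne ∧ deg χ ∈ candEleven ∧
      B.s χ = sgn 11 (deg χ) := by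
    intro χ hχ
    obtain ⟨hX, hn⟩ := Finset.mem_sdiff.mp hχ
    simp only [hN, Finset.mem_insert, Finset.mem_singleton, not_or] at hn
    have h7 : 7 ∣ deg χ := by
      by_contra h7
      rcases hout χ (Finset.mem_union_left _ hX) h7 with e | e | e
      exacts [hn.1 e, hn.2.1 e, hn.2.2 e]
    have h1 := B.deg_X χ hX
    refine ⟨h7, hn.1, candEleven_mem (deg_lt hL χ) (two_le_deg hL hn.1)
      (Nat.mod_eq_zero_of_dvd (deg_dvd hL χ)) (Nat.mod_eq_zero_of_dvd h7) ?_,
      (sgn_eq (by norm_num) (B.s_sq χ hX) h1).symm⟩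
    rcases B.s_sq χ hX with e | e <;> rw [e] at h1 <;> omega
  obtain ⟨hA7, hA1, hAc, hAs⟩ := hO7 A (by simp [hO])
  obtain ⟨hA'7, hA'1, hA'c, hA's⟩ := hO7 A' (by simp [hO])
  have hsX : ∀ {M : Type} [AddCommMonoid M] (F : IrrCharacter G → M),
      ∑ χ ∈ B.X, F χ = (F A + F A') + (F CfsgLib.Char.irrOne + (F S.θ + F S.θ')) := fun F => by
    rw [← Finset.sum_sdiff hNX, hO, Finset.sum_pair hAne, hN,
      Finset.sum_insert (by simp [h1θ.1, h1θ.2]), Finset.sum_pair S.θ_ne]
  have hsθ : B.s S.θ = 1 ∧ B.s S.θ' = 1 := by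
    constructor
    · rw [← sgn_eq (p := 11) (by norm_num) (B.s_sq _ hθX.1) (B.deg_X _ hθX.1), hθd]; rfl
    · rw [← sgn_eq (p := 11) (by norm_num) (B.s_sq _ hθX.2) (B.deg_X _ hθX.2), hθd']; rfl
  obtain ⟨hεT, hfT⟩ := tsgn_eq (T := totOne (deg A) (deg A')) B.ε_sq hfpos (by
    rw [B.deg_rel huY.1 (by norm_num), hsX, hs1, deg_irrOne, hsθ.1, hsθ.2, hθd, hθd', hAs, hA's, totOne]
    push_cast; ring)
  have hvalid : validEleven (totOne (deg A) (deg A')) = true := by
    simp only [validEleven, hεT, hfT, decide_eq_true_eq]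
    refine ⟨hfdeg ▸ two_le_deg hL (hune u huY.1).1,
      hfdeg ▸ Nat.mod_eq_zero_of_dvd (deg_dvd hL u), hfdeg ▸ Nat.mod_eq_zero_of_dvd (hY7 u huY.1), ?_⟩
    have h := B.deg_f
    rw [mul_comm (5 : ℤ)]
    push_cast at h
    exact Int.emod_eq_emod_iff_emod_sub_eq_zero.mpr (Int.emod_eq_zero_of_dvd h)
  have ht11 : ¬ 11 ∣ orderOf t := by rw [ht2]; norm_num
  have hru : ∀ η ∈ B.Y, v η = v u := fun η hη => by
    have h := B.Y_eq η hη u huY.1 t ht11
    rw [hvs, hvs] at h
    exact_mod_cast h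
  obtain ⟨hθv, hθv', hsq7⟩ := seven_vals hL S ht ht2
  change v S.θ = 1 - v S.a + v S.b at hθv
  change v S.θ' = 1 - v S.a + v S.b at hθv'
  have hvu : B.ε * v u = sgn 11 (deg A) * v A + sgn 11 (deg A') * v A' + (1 + (v S.θ + v S.θ')) := by
    have h := B.rel u huY.1 t ht11
    rw [hsX, hs1, hsθ.1, hsθ.2, hAs, hA's, CfsgLib.Char.irrOne_apply] at h
    simp only [hvs] at h
    have h' : ((B.ε * v u : ℤ) : ℂ) =
        ((sgn 11 (deg A) * v A + sgn 11 (deg A') * v A' + (1 + (v S.θ + v S.θ')) : ℤ) : ℂ) := by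
      push_cast; push_cast at h; linear_combination h
    exact_mod_cast h'
  have hvu' : v u = tsgn (totOne (deg A) (deg A')) * (1 + 2 * (1 - v S.a + v S.b) + sgn 11 (deg A) * v A +
      sgn 11 (deg A') * v A') := by
    rw [hεT, show (1 : ℤ) + 2 * (1 - v S.a + v S.b) + sgn 11 (deg A) * v A + sgn 11 (deg A') * v A' = B.ε * v u by
      rw [hvu, hθv, hθv']; ring, ← mul_assoc]
    rcases B.ε_sq with e | e <;> rw [e] <;> ring
  have hsq11 := B.square_rel (by norm_num) hx (not_isConj_inv_of_seven_or_eleven hL (Or.inr hx)) ht v hvs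
    (v u) hru
  rw [hsX, hs1, hsθ.1, hsθ.2, hAs, hA's, hv1, deg_irrOne, hθd, hθd', hθv, hθv'] at hsq11
  have hdis1 : Disjoint (S.B.X ∪ S.B.Y) (({A, A'} : Finset (IrrCharacter G)) ∪ B.Y) := by
    refine Finset.disjoint_left.mpr fun χ h h' => ?_
    have h7 : ¬ 7 ∣ deg χ := by
      rcases Finset.mem_union.mp h with h | h
      · exact S.B.not_dvd_of_mem_X h
      · rw [S.B.deg_Y χ h]; exact S.B.not_dvd_f (by norm_num)
    rcases Finset.mem_union.mp h' with h' | h'
    · simp only [Finset.mem_insert, Finset.mem_singleton] at h'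
      rcases h' with rfl | rfl
      · exact h7 hA7
      · exact h7 hA'7
    · exact h7 (hY7 χ h')
  have hdis2 : Disjoint ({A, A'} : Finset (IrrCharacter G)) B.Y := Finset.disjoint_left.mpr fun χ h h' =>
    Finset.disjoint_left.mp B.disj (Finset.mem_sdiff.mp (show χ ∈ B.X \ N by rw [hO]; exact h)).1 h'
  have hnorm : 1 + v S.a * v S.a + v S.b * v S.b + (v S.θ * v S.θ + v S.θ' * v S.θ') +
      (v A * v A + v A' * v A' + (v u * v u + v u' * v u')) ≤ (C : ℤ) := by
    rw [← CfsgLib.MTwelveUnique.sum_sq_val v hvs]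
    refine le_trans (le_of_eq ?_) (Finset.sum_le_sum_of_subset_of_nonneg
      (Finset.subset_univ ((S.B.X ∪ S.B.Y) ∪ (({A, A'} : Finset (IrrCharacter G)) ∪ B.Y)))
      fun χ _ _ => mul_self_nonneg _)
    rw [Finset.sum_union hdis1, Finset.sum_union S.B.disj, Finset.sum_union hdis2, S.sum_X, S.sum_Y,
      Finset.sum_pair hAne, hYe, Finset.sum_pair hu, hv1]
    ring
  rw [hθv, hθv', hru u' huY.2, hvu'] at hnorm
  have hok : ∀ χ : IrrCharacter G, χ ≠ CfsgLib.Char.irrOne → v χ ∈ valList C (deg χ) := fun χ hχ =>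
    mem_valList (pre_val_ok hL ht ht1 hχ) hC'
  have hp := hok S.a (hne1 _ (by rw [S.deg_a]; norm_num))
  have hq := hok S.b (hne1 _ (by omega))
  rw [S.deg_a] at hp
  rw [hb] at hq
  rw [hb, hθd, show intVal S.θ ht = v S.θ from rfl, hθv] at hsq7
  have h7z : 495 - 9 * v S.a * v S.a + 5 * v S.b * v S.b - 11 * (1 - v S.a + v S.b) * (1 - v S.a + v S.b) = 0 := by
    have : ((495 - 9 * v S.a * v S.a + 5 * v S.b * v S.b -
        11 * (1 - v S.a + v S.b) * (1 - v S.a + v S.b) : ℤ) : ℚ) = 0 := by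
      push_cast at hsq7 ⊢
      linear_combination 495 * hsq7
    exact_mod_cast this
  have hkill := search_nine _ hAc _ hA'c hle hvalid C hC _ hp _ hq h7z _ (hok A hA1) _ (hok A' hA'1)
  have htrue : validNine C (deg A) (deg A') (v S.a) (v S.b) (v A) (v A') = true := by
    have hrv := pre_val_ok hL ht ht1 (χ := S.θ) (hne1 _ (by omega))
    rw [hθd, show intVal S.θ ht = v S.θ from rfl, hθv] at hrv
    have huv := pre_val_ok hL ht ht1 (χ := u) (hune u huY.1).1
    rw [hfdeg, show intVal u ht = v u from rfl, hvu', ← hfT] at huv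
    simp only [validNine, Bool.and_eq_true, decide_eq_true_eq]
    refine ⟨⟨hrv, huv⟩, le_trans (le_of_eq ?_) hnorm, ?_⟩
    · ring
    · have hg0 : (B.f : ℚ) ≠ 0 := by exact_mod_cast hfpos.ne'
      have hA0 : (deg A : ℚ) ≠ 0 := by exact_mod_cast (deg_pos A).ne'
      have hA'0 : (deg A' : ℚ) ≠ 0 := by exact_mod_cast (deg_pos A').ne'
      rw [← hvu', ← @Int.cast_eq_zero ℚ, hεT, hfT]
      push_cast at hsq11 ⊢
      rw [← zero_mul (45 * (deg A : ℚ) * deg A' * (B.f : ℚ)), ← hsq11]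
      field_simp
      ring
  rw [hkill] at htrue
  exact Bool.false_ne_true htrue

variable [Fact (Nat.Prime 5)] {P : Sylow 5 G} {hP : Nat.card P = 5}

/-- No automiser of order two. -/
theorem not_five_two (S : Blk7 G) (B : PB G P hP 2) : False := by
  obtain ⟨h1X, hs1⟩ := B.one_X le_rfl (by norm_num)
  obtain ⟨χ, hχe⟩ := Finset.card_eq_one.mp
    (show (B.X.erase CfsgLib.Char.irrOne).card = 1 by rw [Finset.card_erase_of_mem h1X, B.card_X])
  obtain ⟨hne, hχ⟩ := Finset.mem_erase.mp (show χ ∈ B.X.erase CfsgLib.Char.irrOne by simp [hχe])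
  obtain ⟨θ, hθ⟩ := B.Y_ne
  have hθne : θ ≠ CfsgLib.Char.irrOne := fun e => Finset.disjoint_left.mp B.disj h1X (e ▸ hθ)
  have hrel := B.deg_rel hθ
  rw [← Finset.add_sum_erase _ _ h1X, hχe, Finset.sum_singleton, hs1, deg_irrOne] at hrel
  have hok : ∀ η : IrrCharacter G, η ≠ CfsgLib.Char.irrOne → deg η % 7 = 0 ∨ deg η ∈ [55, 99, 45, 120, 66] := by
    intro η hη
    by_cases h7 : 7 ∣ deg η
    · exact Or.inl (Nat.mod_eq_zero_of_dvd h7)
    rcases S.mem_iff h7 with e | e | e | e | e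
    · exact absurd e hη
    all_goals rcases S.deg_b with ⟨h, h', h''⟩ | ⟨h, h', h''⟩ <;> simp [e, S.deg_a, h, h', h'']
  have hsχ : sgn 5 (deg χ) = B.s χ := B.sgn_X (by norm_num) hχ
  have hf : (1 + sgn 5 (deg χ) * deg χ).natAbs = deg θ := by
    rw [hsχ, B.deg_Y θ hθ]
    push_cast at hrel
    rw [show 1 + B.s χ * (deg χ : ℤ) = B.ε * B.f by linarith]
    rcases B.ε_sq with e | e <;> simp [e]
  have hv : validFiveTwo (deg χ) = true := by
    simp only [validFiveTwo, hf, Bool.and_eq_true, decide_eq_true_eq]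
    refine ⟨⟨⟨two_le_deg hL hne, Nat.mod_eq_zero_of_dvd (deg_dvd hL χ), B.mod_X hχ, two_le_deg hL hθne,
      Nat.mod_eq_zero_of_dvd (deg_dvd hL θ), ?_⟩, hok χ hne⟩, hok θ hθne⟩
    have h := B.deg_f
    rw [← B.deg_Y θ hθ] at h
    rcases B.ε_sq with e | e <;> rw [e] at h <;> omega
  rw [search_five_two _ (List.mem_range.mpr (deg_lt hL χ))] at hv
  exact Bool.false_ne_true hv

/-- The second family at an involution centralising the Sylow 5-subgroup. -/
theorem not_twenty (S : Blk7 G) (hb : deg S.b = 120) (B : PB G P hP 4) {t : G} (ht : t * t = 1) (ht1 : t ≠ 1)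
    (ht2 : orderOf t = 2) (htC : t ∈ centralizer ((P : Subgroup G) : Set G))
    (hC : Nat.card (centralizer ({t} : Set G)) ∈ centsFive) (hc : (reg P).card ∈ regFive) : False := by
  obtain ⟨hθd, hθd'⟩ : deg S.θ = 66 ∧ deg S.θ' = 66 := by
    rcases S.deg_b with ⟨h, -⟩ | ⟨-, h⟩
    · omega
    · exact h
  have hGS : SG G := ⟨hL.card, hL.simple⟩
  obtain ⟨M, hM, h1, h2, h3, h4, h5, h6, h7, h8⟩ := B.full_data hGS (by norm_num) le_rfl ht ht1 htC
  set C := Nat.card (centralizer ({t} : Set G))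
  have hC' := centsFive_le C hC
  have hok : ∀ η : IrrCharacter G, η ≠ CfsgLib.Char.irrOne → okTwenty (deg η) = true := by
    intro η hη
    simp only [okTwenty, okEleven_deg hL η, Bool.true_and, Bool.or_eq_true, decide_eq_true_eq,
      List.contains_iff_mem]
    by_cases h7 : 7 ∣ deg η
    · exact Or.inl (Nat.mod_eq_zero_of_dvd h7)
    rcases S.mem_iff h7 with e | e | e | e | e
    · exact absurd e hη
    all_goals simp [e, S.deg_a, hb, hθd, hθd']
  obtain ⟨l, hl, hl'⟩ := exists_mem_combos (degs 5 okTwenty) (M.map Prod.fst) (5 - 1) 443519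
    (fun d hd => by obtain ⟨w, hw, rfl⟩ := Multiset.mem_map.mp hd; exact h2 okTwenty hok w hw)
    (by rw [Multiset.card_map, h1]) (by rwa [Multiset.map_map])
  obtain ⟨L, rfl, rfl⟩ := exists_lift Prod.fst l M hl'.symm
  simp only [Multiset.map_coe, Multiset.sum_coe, Multiset.mem_coe] at hM h3 h5 h6 h7 h8
  have hmem : L.map Prod.fst ∈ tuplesFull 5 okTwenty := List.mem_filter.mpr ⟨hl, by
    rw [decide_eq_true_eq, List.map_map]; exact h5⟩
  rw [tuples_five, List.mem_singleton] at hmem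
  obtain ⟨hθv, hθv', hsq7⟩ := seven_vals hL S ht ht2
  set r := 1 - intVal S.a ht + intVal S.b ht with hr
  have h66 : ∀ v : ℤ, (66, v) ∈ L → v = r := by
    intro v hv
    obtain ⟨χ, hχ, e⟩ := hM _ hv
    obtain ⟨e1, e2⟩ := Prod.ext_iff.mp e
    simp only at e1 e2
    rcases S.mem_iff (χ := χ) (by rw [← e1]; norm_num) with k | k | k | k | k
    · exact absurd k hχ
    · rw [k, S.deg_a] at e1; omega
    · rw [k, hb] at e1; omega
    · rw [e2, k]; exact hθv
    · rw [e2, k]; exact hθv'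
  obtain ⟨a, r₁, r₂, b, rfl⟩ : ∃ a r₁ r₂ b, L = [(21, a), (66, r₁), (66, r₂), (154, b)] := by
    rcases L with _ | ⟨w1, _ | ⟨w2, _ | ⟨w3, _ | ⟨w4, _ | ⟨w5, L⟩⟩⟩⟩⟩
    all_goals simp only [List.map_cons, List.map_nil, List.cons.injEq, and_true, reduceCtorEq, and_false] at hmem
    obtain ⟨c1, a⟩ := w1
    obtain ⟨c2, r₁⟩ := w2
    obtain ⟨c3, r₂⟩ := w3
    obtain ⟨c4, b⟩ := w4
    obtain ⟨rfl, rfl, rfl, rfl⟩ := hmem
    exact ⟨a, r₁, r₂, b, rfl⟩
  obtain rfl := h66 r₁ (by simp)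
  obtain rfl := h66 r₂ (by simp)
  have hv : ∀ w ∈ ([(21, a), (66, r), (66, r), (154, b)] : List (ℕ × ℤ)), w.2 ∈ vals 5 C w.1 := fun w hw =>
    mem_vals (by norm_num) (h3 w hw).1 (h3 w hw).2
  have hne : ∀ χ : IrrCharacter G, deg χ ≠ 1 → χ ≠ CfsgLib.Char.irrOne := fun χ h e => h (by rw [e, deg_irrOne])
  have hp := mem_valList (pre_val_ok hL ht ht1 (hne S.a (by rw [S.deg_a]; norm_num))) hC'
  have hq := mem_valList (pre_val_ok hL ht ht1 (hne S.b (by omega))) hC'
  rw [S.deg_a] at hp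
  rw [hb] at hq
  rw [hb, hθd, hθv] at hsq7
  have h7z : 1320 - 24 * intVal S.a ht * intVal S.a ht + 11 * intVal S.b ht * intVal S.b ht - 20 * r * r = 0 := by
    have : ((1320 - 24 * intVal S.a ht * intVal S.a ht + 11 * intVal S.b ht * intVal S.b ht - 20 * r * r : ℤ) : ℚ)
        = 0 := by
      push_cast at hsq7 ⊢
      linear_combination 1320 * hsq7
    exact_mod_cast this
  have hn := seven_norm hL S ht
  rw [hθv, hθv'] at hn
  have hkill := search_twenty C hC _ hp _ hq h7z (by linarith) (hv (66, r) (by simp)) a (hv (21, a) (by simp))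
    b (hv (154, b) (by simp))
  simp only [chkTwenty, chkFull, Bool.or_eq_true, decide_eq_true_eq, List.all_eq_true] at hkill
  rcases hkill with (h | h) | h
  · exact h h6
  · exact absurd h (not_lt.mpr h7)
  · exact absurd (noCount_spec Nat.card_pos (h _ hc) _ h8) (by simp)

omit [Fact (Nat.Prime 5)] in
/-- The Sylow 5-data. -/
theorem five (x : G) (hx : orderOf x = 5) :
    Nat.card (normalizer ((zpowers x : Subgroup G) : Set G)) = 20 := by
  haveI : Fact (Nat.Prime 5) := ⟨by norm_num⟩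
  haveI : Fact (Nat.Prime 7) := ⟨by norm_num⟩
  haveI : Fact (Nat.Prime 11) := ⟨by norm_num⟩
  haveI := hL.simple
  have hnG : Nat.card G = 5 * 88704 := by rw [hL.card]
  obtain ⟨P, hPx, hcx⟩ := exists_sylow_zpowers hnG (by norm_num) hx
  have hP : Nat.card (P : Subgroup G) = 5 := by rw [hPx, Nat.card_zpowers, hx]
  have hopts : Band6232.optsOK 5 88704 optsFive = true := by decide +kernel
  obtain ⟨k, r, u, hmem, -, hkru, hN, hC⟩ :=
    Band6232.options (not_comm hL) hL.card (by norm_num) (by norm_num) P optsFive hopts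
  obtain ⟨hrel, hreg⟩ := relIndex_and_reg P hP hN hC
  obtain ⟨S⟩ := exists_seven hL
  have hnd : ∀ q : ℕ, q.Prime → q ≠ 5 → (∀ y : G, orderOf y = q → Nat.card (centralizer ({y} : Set G)) = q) →
      ¬ q ∣ u := fun q hq hq5 hself h => by
    obtain ⟨y, hyC, hy⟩ := Band6232.exists_of_dvd_centralizer (q := q) hq hC (dvd_mul_of_dvd_right h 5)
    have h5 := card_dvd_of_le (sylow_le_centralizer P hyC)
    rw [hP, hself y hy] at h5
    exact hq5 ((Nat.prime_dvd_prime_iff_eq (by norm_num) hq).mp h5).symm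
  have h7u := hnd 7 (by norm_num) (by norm_num) fun y hy => (hL.seven y hy).1
  have h11u := hnd 11 (by norm_num) (by norm_num) fun y hy => (hL.eleven y hy).1
  have key : r = 2 ∨ r = 4 ∧ u ∈ [1, 6, 16, 36, 96] := by
    rcases optsFive_cases (k, r) hmem with h | ⟨h4, h⟩
    · exact Or.inl h
    · change r = 4 at h4
      subst h4
      have hk : 0 < k := Nat.pos_of_ne_zero fun e => by rw [e, zero_mul] at hkru; norm_num at hkru
      have hu : 88704 / (k * 4) = u := by
        rw [← hkru, show k * (4 * u) = k * 4 * u by ring, Nat.mul_div_cancel_left _ (by omega)]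
      simp only at h
      rw [hu] at h
      rcases h with h | h | h
      · exact Or.inr ⟨rfl, h⟩
      · exact absurd (Nat.dvd_of_mod_eq_zero h) h7u
      · exact absurd (Nat.dvd_of_mod_eq_zero h) h11u
  rcases key with rfl | ⟨rfl, hu⟩
  · obtain ⟨B⟩ := exists_pb P hP 2 hrel
    exact (not_five_two hL S B).elim
  by_cases hu1 : u = 1
  · subst hu1
    exact hPx ▸ hN
  exfalso
  have hureg : u ∈ regFive := by
    simp only [List.mem_cons, List.not_mem_nil, or_false] at hu
    rcases hu with h | h | h | h | h <;> simp_all [regFive]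
  have hu2 : 2 ∣ u := by
    simp only [regFive, List.mem_cons, List.not_mem_nil, or_false] at hureg
    omega
  obtain ⟨t, ht, ht1, ht2, htC, h10⟩ := exists_involution P hP (by norm_num) hC hu2
  have hCt : Nat.card (centralizer ({t} : Set G)) ∈ centsFive := by
    have h7 := not_dvd_centralizer_of_self hL (fun y hy => (hL.seven y hy).1) ht1 (by rw [ht2]; norm_num)
    have h11 := not_dvd_centralizer_of_self hL (fun y hy => (hL.eleven y hy).1) ht1 (by rw [ht2]; norm_num)
    have hd : Nat.card (centralizer ({t} : Set G)) ∣ 5760 * 77 :=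
      (hL.card ▸ card_subgroup_dvd_card _ : _ ∣ 443520).trans (by norm_num)
    obtain ⟨j, hj⟩ := h10
    have hd' : Nat.card (centralizer ({t} : Set G)) ∣ 10 * 576 := by
      refine (Nat.Coprime.dvd_mul_right ?_).mp hd
      exact Nat.Coprime.mul_right (k := _) (m := 7) (n := 11)
        ((Nat.Prime.coprime_iff_not_dvd (by norm_num)).mpr h7).symm
        ((Nat.Prime.coprime_iff_not_dvd (by norm_num)).mpr h11).symm
    rw [hj] at hd' ⊢
    exact List.mem_map.mpr ⟨j, mem_dvs [64, 9] (by simp) (by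
      simpa using Nat.dvd_of_mul_dvd_mul_left (by norm_num : 0 < 10) hd'), rfl⟩
  rcases S.deg_b with ⟨hb, -⟩ | ⟨hb, -⟩
  · exact not_nine hL S hb ht ht1 ht2 hCt
  · obtain ⟨B⟩ := exists_pb P hP 4 hrel
    exact not_twenty hL S hb B ht ht1 ht2 htC hCt (hreg ▸ hureg)

end CfsgLib.MTwentyTwoUnique.FromOrder
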