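import Cfsg.Agent.Lib.MTwentyTwoUnique.FromOrder.Search
import Mathlib

/-!
The finite searches at an involution centralising a Sylow 5-subgroup.
-/

set_option autoImplicit false

namespace CfsgLib.MTwentyTwoUnique.FromOrder

open CfsgLib.MTwentyTwoUnique (sgn tsgn okEleven candEleven validEleven totOne valList validVal)

/-- Sylow numbers and automizer orders at 5. -/
def optsFive : List (ℕ × ℕ) :=
  [(6, 2), (6, 4), (11, 2), (11, 4), (16, 2), (16, 4), (21, 2), (21, 4), (36, 2), (36, 4), (56, 2), (56, 4),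
    (66, 2), (66, 4), (96, 2), (96, 4), (126, 2), (126, 4), (176, 2), (176, 4), (231, 2), (231, 4), (336, 2),
    (336, 4), (396, 2), (396, 4), (576, 2), (616, 2), (616, 4), (1056, 2), (1056, 4), (1386, 2), (1386, 4),
    (2016, 2), (2016, 4), (3696, 2), (3696, 4), (6336, 2), (22176, 2), (22176, 4)]

theorem optsFive_cases : ∀ kr ∈ optsFive, kr.2 = 2 ∨ kr.2 = 4 ∧ (88704 / (kr.1 * 4) ∈ [1, 6, 16, 36, 96] ∨
    88704 / (kr.1 * 4) % 7 = 0 ∨ 88704 / (kr.1 * 4) % 11 = 0) := by
  decide +kernel

/-- The centraliser orders of an involution commuting with an element of order 5. -/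
def centsFive : List ℕ := (dvs [64, 9]).map (10 * ·)

theorem centsFive_le : ∀ C ∈ centsFive, C ≤ 5760 := by decide +kernel

/-- The regular parts. -/
def regFive : List ℕ := [6, 16, 36, 96]

/-- The allowed degrees with the second 7-block. -/
def okTwenty (d : ℕ) : Bool := okEleven d && (decide (d % 7 = 0) || [55, 120, 66].contains d)

theorem tuples_five : tuplesFull 5 okTwenty = [[21, 66, 66, 154]] := by decide +kernel

/-- The second family at an involution centralising a Sylow 5-subgroup. -/
def chkTwenty (C : ℕ) (a r b : ℤ) : Bool :=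
  let L : List (ℕ × ℤ) := [(21, a), (66, r), (66, r), (154, b)]
  chkFull 5 regFive C none (1 + (L.map fun w => sgn 5 w.1 * w.2).sum) (1 + (L.map fun w => w.2 * w.2).sum)
    (443520 + (L.map fun w => sgn 5 w.1 * w.2 * w.2 * ((443520 / w.1 : ℕ) : ℤ)).sum)

set_option synthInstance.maxSize 8192 in
set_option synthInstance.maxHeartbeats 400000 in
set_option maxRecDepth 8000 in
theorem search_twenty : ∀ C ∈ centsFive, ∀ p ∈ valList C 55, ∀ q ∈ valList C 120,
    1320 - 24 * p * p + 11 * q * q - 20 * (1 - p + q) * (1 - p + q) = 0 →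
    1 + p * p + q * q + 2 * ((1 - p + q) * (1 - p + q)) ≤ (C : ℤ) →
    1 - p + q ∈ vals 5 C 66 → ∀ a ∈ vals 5 C 21, ∀ b ∈ vals 5 C 154,
      chkTwenty C a (1 - p + q) b = true := by
  decide +kernel

/-- The first family at an involution. -/
def validNine (C A B : ℕ) (p q a b : ℤ) : Bool :=
  let r := 1 - p + q
  let g : ℕ := (totOne A B).natAbs
  let e := tsgn (totOne A B)
  let u := e * (1 + 2 * r + sgn 11 A * a + sgn 11 B * b)
  validVal C 45 r && validVal C g u && decide (1 + p * p + q * q + 2 * r * r + a * a + b * b + 2 * u * u ≤ (C : ℤ) ∧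
    45 * (A : ℤ) * B * g + 2 * r * r * ((A : ℤ) * B * g) + sgn 11 A * a * a * (45 * (B : ℤ) * g) +
      sgn 11 B * b * b * (45 * (A : ℤ) * g) - e * u * u * (45 * (A : ℤ) * B) = 0)

set_option synthInstance.maxSize 8192 in
set_option synthInstance.maxHeartbeats 400000 in
set_option maxRecDepth 8000 in
theorem search_nine : ∀ A ∈ candEleven, ∀ B ∈ candEleven, A ≤ B → validEleven (totOne A B) = true →
    ∀ C ∈ centsFive, ∀ p ∈ valList C 55, ∀ q ∈ valList C 99,
    495 - 9 * p * p + 5 * q * q - 11 * (1 - p + q) * (1 - p + q) = 0 →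
    ∀ a ∈ valList C A, ∀ b ∈ valList C B, validNine C A B p q a b = false := by
  decide +kernel

end CfsgLib.MTwentyTwoUnique.FromOrder
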