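import Cfsg.Agent.Lib.MTwentyTwoUnique.FromOrder.Seven
import Cfsg.Agent.Lib.MTwentyTwoUnique.FromOrder.Five
import Mathlib

/-!
The local data of a simple group of order 443520.
-/

set_option autoImplicit false

noncomputable section

namespace CfsgLib.MTwentyTwoUnique.FromOrder

open Cfsg

/-- Simplicity and the order give the Sylow normalisers at 5, 7 and 11. -/
theorem local_of_order {G : Type*} [Group G] [Finite G] (hG : SG G) : CfsgLib.MTwentyTwoUnique.Local G := by
  haveI := Fintype.ofFinite G
  have hL : CfsgLib.MTwentyTwoUnique.Pre G := ⟨hG.card, hG.simple, seven hG, eleven hG⟩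
  exact ⟨hL, fun x hx => five hL x hx⟩

end CfsgLib.MTwentyTwoUnique.FromOrder
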