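import Cfsg.Agent.Lib.MTwentyTwoUnique.FromOrder.SevenSix
import Mathlib

/-!
A simple group of order 443520: the Sylow 7-subgroup is self-centralising with normaliser of order 21.
-/

set_option autoImplicit false
set_option linter.style.haveILetI false
set_option linter.unusedSectionVars false

noncomputable section

namespace CfsgLib.MTwentyTwoUnique.FromOrder

open Subgroup CfsgLib.InvolChar CfsgLib.SmallGroups CfsgLib.SmallSimple CfsgLib.Blocks.PrimeSylow Cfsg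

/-- Sylow numbers and automizer orders at 7. -/
def optsSeven : List (ℕ × ℕ) :=
  [(99, 2), (120, 2), (120, 3), (120, 6), (176, 2), (176, 3), (176, 6), (288, 2), (330, 2), (330, 3),
    (330, 6), (792, 2), (960, 2), (960, 3), (960, 6), (1408, 3), (2640, 2), (2640, 3), (2640, 6),
    (6336, 2), (21120, 3)]

theorem optsSeven_ok : Band6232.optsOK 7 63360 optsSeven = true := by decide +kernel

/-- The small degree pairs allowed in the block with two non-exceptional characters. -/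
def okSmall (d f : ℕ) : Bool :=
  decide (2 ≤ d) && decide (d % 7 = 1 ∨ d % 7 = 6) && okEleven d && okEleven f &&
    decide (f = 1 + d ∨ f + 1 = d) && decide (f % 7 = 2 ∨ f % 7 = 5)

theorem small_two_seven : ∀ d ∈ List.range 15, ∀ f ∈ List.range 16, okSmall d f = true → d = 6 ∧ f = 5 := by
  decide +kernel

attribute [local instance] Classical.propDecidable

variable {G : Type*} [Group G] [Fintype G]

/-- The automiser of order two. -/
theorem not_seven_two (hG : SG G) [Fact (Nat.Prime 7)] {P : Sylow 7 G} {hP : Nat.card P = 7}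
    (B : PB G P hP 2) : False := by
  by_cases hbig : ∀ χ ∈ B.X, χ ≠ CfsgLib.Char.irrOne → 2 * 7 < deg χ
  · exact B.false_of_noTuples hG le_rfl (by norm_num) degs_two_seven (fun χ _ => okEleven_of hG χ) hbig
  push Not at hbig
  obtain ⟨χ, hχ, hne, hd⟩ := hbig
  obtain ⟨h1X, hs1⟩ := B.one_X le_rfl (by norm_num)
  obtain ⟨θ, hθ⟩ := B.Y_ne
  have hX : ({CfsgLib.Char.irrOne, χ} : Finset (IrrCharacter G)) = B.X := by
    refine Finset.eq_of_subset_of_card_le ?_ ?_
    · intro a ha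
      simp only [Finset.mem_insert, Finset.mem_singleton] at ha
      rcases ha with rfl | rfl
      · exact h1X
      · exact hχ
    · rw [B.card_X, Finset.card_pair hne.symm]
  have h := B.deg_rel hθ
  rw [← hX, Finset.sum_pair hne.symm, hs1, deg_irrOne] at h
  have hf := B.deg_f
  have hm := B.mod_X hχ
  have hd2 := hG.two_le_deg hne
  have hfok := okEleven_of hG θ
  rw [B.deg_Y θ hθ] at hfok
  have hfd : (B.f = 1 + deg χ ∨ B.f + 1 = deg χ) ∧ (B.f % 7 = 2 ∨ B.f % 7 = 5) := by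
    rcases B.ε_sq with e | e <;> rcases B.s_sq χ hχ with e' | e' <;> rw [e, e'] at h <;> rw [e] at hf <;>
      push_cast at h hf <;> omega
  obtain ⟨h6, h5⟩ := small_two_seven (deg χ) (List.mem_range.2 (by omega)) B.f (List.mem_range.2 (by omega)) (by
    simp only [okSmall, Bool.and_eq_true, decide_eq_true_eq]
    exact ⟨⟨⟨⟨⟨hd2, by omega⟩, okEleven_of hG χ⟩, hfok⟩, hfd.1⟩, hfd.2⟩)
  exact not_five_six hG h6 ((B.deg_Y θ hθ).trans h5)

/-- The Sylow 7-data. -/
theorem seven (hG : SG G) (x : G) (hx : orderOf x = 7) :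
    Nat.card (centralizer ({x} : Set G)) = 7 ∧
      Nat.card (normalizer ((zpowers x : Subgroup G) : Set G)) = 21 := by
  haveI : Fact (Nat.Prime 7) := ⟨by norm_num⟩
  haveI : Fact (Nat.Prime 11) := ⟨by norm_num⟩
  haveI := hG.simple
  have hnG : Nat.card G = 7 * 63360 := by rw [hG.card]
  obtain ⟨P, hPx, hcx⟩ := exists_sylow_zpowers hnG (by norm_num) hx
  have hP := card_seven P hG
  obtain ⟨k, r, u, hmem, -, hkru, hN, hC⟩ :=
    Band6232.options hG.not_comm hG.card (by norm_num) (by norm_num) P optsSeven optsSeven_ok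
  obtain ⟨hrel, hreg⟩ := relIndex_and_reg P hP hN hC
  have h11 : ¬ 11 ∣ u := fun h => by
    obtain ⟨y, hyC, hy⟩ := Band6232.exists_of_dvd_centralizer (q := 11) (by norm_num) hC (dvd_mul_of_dvd_right h 7)
    have h7 := card_dvd_of_le (sylow_le_centralizer P hyC)
    rw [hP, (eleven hG y hy).1] at h7
    norm_num at h7
  have key : r = 2 ∨ (r = 3 ∧ (u = 8 ∨ u = 120)) ∨ (r = 3 ∧ u = 15) ∨ (r * u = 192 ∧ r ≤ 6) ∨
      (r = 6 ∧ (u = 4 ∨ u = 60)) ∨ (r = 3 ∧ u = 1) := by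
    simp only [optsSeven, List.mem_cons, Prod.mk.injEq, List.not_mem_nil, or_false] at hmem
    rcases hmem with ⟨rfl, rfl⟩ | ⟨rfl, rfl⟩ | ⟨rfl, rfl⟩ | ⟨rfl, rfl⟩ | ⟨rfl, rfl⟩ | ⟨rfl, rfl⟩ |
      ⟨rfl, rfl⟩ | ⟨rfl, rfl⟩ | ⟨rfl, rfl⟩ | ⟨rfl, rfl⟩ | ⟨rfl, rfl⟩ | ⟨rfl, rfl⟩ | ⟨rfl, rfl⟩ |
      ⟨rfl, rfl⟩ | ⟨rfl, rfl⟩ | ⟨rfl, rfl⟩ | ⟨rfl, rfl⟩ | ⟨rfl, rfl⟩ | ⟨rfl, rfl⟩ | ⟨rfl, rfl⟩ |
      ⟨rfl, rfl⟩ <;> simp only [true_and, false_or, true_or, or_true] <;> omega
  rcases key with rfl | ⟨rfl, hu⟩ | ⟨rfl, rfl⟩ | ⟨hru, hr⟩ | ⟨rfl, hu⟩ | ⟨rfl, rfl⟩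
  · obtain ⟨B⟩ := exists_pb P hP 2 hrel
    exact (not_seven_two hG B).elim
  · exact (not_seven_three hG P hu hN hC).elim
  · exact (not_seven_fifteen P hG hN hC).elim
  · exact (not_seven_big P hG hru hr hN hrel).elim
  · exact (not_seven_six P hG hu hN hC).elim
  · exact ⟨hcx ▸ hC, hPx ▸ hN⟩

end CfsgLib.MTwentyTwoUnique.FromOrder
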