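import Cfsg.Agent.Lib.MTwentyTwoUnique.FromOrder.EightLocal
import Mathlib

/-!
Two-subgroups, conjugation and dihedral facts for the cases at 7.
-/

set_option autoImplicit false
set_option linter.style.haveILetI false
set_option linter.unusedSectionVars false

noncomputable section

open scoped Classical

namespace CfsgLib.MTwentyTwoUnique.FromOrder

open Subgroup CfsgLib.SmallGroups Cfsg

section

variable {G : Type*} [Group G] [Finite G]

/-- A subgroup containing a Sylow 2-subgroup contains the 2-elements normalising it. -/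
theorem mem_of_two_element {R K : Subgroup G} {a : ℕ} (hKR : K ≤ R) (hK : Nat.card K = 2 ^ a)
    (hR : ¬ 2 ^ (a + 1) ∣ Nat.card R) {v : G} (hvR : v ∈ R) {i : ℕ} (hv : v ^ 2 ^ i = 1)
    (hvK : ∀ x ∈ K, v * x * v⁻¹ ∈ K) : v ∈ K := by
  haveI : Fact (Nat.Prime 2) := ⟨Nat.prime_two⟩
  have hvN : v ∈ normalizer (K : Set G) := by
    intro x
    refine ⟨hvK x, fun h => ?_⟩
    have hp : ∀ n : ℕ, ∀ y ∈ K, v ^ n * y * (v ^ n)⁻¹ ∈ K := by
      intro n
      induction n with
      | zero => intro y hy; simpa using hy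
      | succ n ih =>
        intro y hy
        have := hvK _ (ih y hy)
        convert this using 1
        rw [pow_succ']
        group
    have h1 := hp (2 ^ i - 1) _ h
    have h2 : v ^ (2 ^ i - 1) = v⁻¹ := by
      refine eq_inv_of_mul_eq_one_left ?_
      rw [← pow_succ, Nat.sub_add_cancel Nat.one_le_two_pow, hv]
    rw [h2] at h1
    show x ∈ K
    convert h1 using 1
    group
  have hp : IsPGroup 2 ((zpowers v) ⊔ K : Subgroup G) := by
    refine IsPGroup.to_sup_of_normal_right' ?_ (IsPGroup.of_card hK) (zpowers_le.2 hvN)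
    obtain ⟨k, -, hk⟩ := (Nat.dvd_prime_pow Nat.prime_two).1 (orderOf_dvd_of_pow_eq_one hv)
    exact IsPGroup.of_card (n := k) (by rw [Nat.card_zpowers, hk])
  have hle : zpowers v ⊔ K ≤ R := sup_le (zpowers_le.2 hvR) hKR
  obtain ⟨n, hn⟩ := IsPGroup.iff_card.1 hp
  have h1 : 2 ^ n ∣ Nat.card R := hn ▸ card_dvd_of_le hle
  have hna : n ≤ a := by
    by_contra h
    exact hR ((pow_dvd_pow 2 (by omega)).trans h1)
  have := eq_of_le_of_card_ge (le_sup_right : K ≤ zpowers v ⊔ K)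
    (by rw [hn, hK]; exact Nat.pow_le_pow_right two_pos hna)
  rw [this]
  exact Subgroup.mem_sup_left (mem_zpowers v)

/-- The order of a subgroup meeting a Sylow 2-subgroup of another. -/
theorem inf_eq_of_two {T R K : Subgroup G} {a b : ℕ} (hT : Nat.card T = 2 ^ b) (hKT : K ≤ T) (hKR : K ≤ R)
    (hK : Nat.card K = 2 ^ a) (hR : ¬ 2 ^ (a + 1) ∣ Nat.card R) : T ⊓ R = K := by
  refine (eq_of_le_of_card_ge (le_inf hKT hKR) ?_).symm
  haveI : Fact (Nat.Prime 2) := ⟨Nat.prime_two⟩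
  obtain ⟨n, hn⟩ := IsPGroup.iff_card.1 ((IsPGroup.of_card hT : IsPGroup 2 T).to_le (inf_le_left : T ⊓ R ≤ T))
  have h1 : 2 ^ n ∣ Nat.card R := hn ▸ card_dvd_of_le inf_le_right
  have hna : n ≤ a := by
    by_contra h
    exact hR ((pow_dvd_pow 2 (by omega)).trans h1)
  rw [hn, hK]
  exact Nat.pow_le_pow_right two_pos hna

/-- An involution times an element it inverts. -/
theorem exists_conj_of_odd {l r : G} (hl : l * l = 1) (hlr : l * r * l = r⁻¹) {o : ℕ}
    (ho : o % 2 = 1) (hr : r ^ o = 1) :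
    ∃ k : ℕ, (r ^ k)⁻¹ * l * r ^ k = l * r := by
  refine ⟨(o + 1) / 2, ?_⟩
  set s := r ^ ((o + 1) / 2)
  have hinv : l⁻¹ = l := inv_eq_of_mul_eq_one_left hl
  have h1 : l * s⁻¹ * l = s := by
    have h : l * s * l⁻¹ = s⁻¹ := by rw [← conj_pow, hinv, hlr, inv_pow]
    rw [← h, hinv]
    calc l * (l * s * l) * l = (l * l) * s * (l * l) := by group
      _ = s := by rw [hl, one_mul, mul_one]
  calc s⁻¹ * l * s = (l * l) * s⁻¹ * l * s := by rw [hl, one_mul]
    _ = l * (l * s⁻¹ * l) * s := by group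
    _ = l * (s * s) := by rw [h1, mul_assoc]
    _ = l * r := by
      rw [← pow_add, show (o + 1) / 2 + (o + 1) / 2 = o + 1 by omega, pow_succ, hr, one_mul]

/-- The Frattini argument for a Sylow 2-subgroup of a subgroup. -/
theorem exists_mul_normalizing {R T : Subgroup G} {a : ℕ} (hTR : T ≤ R) (hT : Nat.card T = 2 ^ a)
    (hR : ¬ 2 ^ (a + 1) ∣ Nat.card R) {g : G} (hg : ∀ x ∈ T, g * x * g⁻¹ ∈ R) :
    ∃ c ∈ R, ∀ x ∈ T, c * g * x * (c * g)⁻¹ ∈ T := by
  haveI : Fact (Nat.Prime 2) := ⟨Nat.prime_two⟩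
  set U : Subgroup G := T.map (MulAut.conj g).toMonoidHom
  have hUR : U ≤ R := by
    rintro _ ⟨x, hx, rfl⟩
    exact hg x hx
  have hU : Nat.card U = 2 ^ a := by rw [card_map_of_injective (MulAut.conj g).injective, hT]
  have hmax : ∀ A : Subgroup G, A ≤ R → Nat.card A = 2 ^ a → ∀ S : Sylow 2 R,
      A.subgroupOf R ≤ S → A.subgroupOf R = S := by
    intro A hA hcA S hS
    refine eq_of_le_of_card_ge hS ?_
    rw [Nat.card_congr (subgroupOfEquivOfLe hA).toEquiv, hcA]
    obtain ⟨n, hn⟩ := IsPGroup.iff_card.1 S.2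
    have h1 : 2 ^ n ∣ Nat.card R := hn ▸ card_subgroup_dvd_card (S : Subgroup R)
    have hna : n ≤ a := by
      by_contra h
      exact hR ((pow_dvd_pow 2 (by omega)).trans h1)
    rw [hn]
    exact Nat.pow_le_pow_right two_pos hna
  have hp : ∀ A : Subgroup G, A ≤ R → Nat.card A = 2 ^ a → IsPGroup 2 (A.subgroupOf R) := fun A hA hcA =>
    IsPGroup.of_card (n := a) (by rw [Nat.card_congr (subgroupOfEquivOfLe hA).toEquiv, hcA])
  obtain ⟨S1, hS1⟩ := (hp T hTR hT).exists_le_sylow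
  obtain ⟨S2, hS2⟩ := (hp U hUR hU).exists_le_sylow
  obtain ⟨c, hc⟩ := MulAction.exists_smul_eq R S2 S1
  refine ⟨c, c.2, fun x hx => ?_⟩
  have hmem : (⟨g * x * g⁻¹, hg x hx⟩ : R) ∈ (S2 : Subgroup R) := by
    rw [← hmax U hUR hU S2 hS2]
    exact ⟨x, hx, rfl⟩
  have : c * ⟨g * x * g⁻¹, hg x hx⟩ * c⁻¹ ∈ (S1 : Subgroup R) := by
    rw [← hc, Sylow.coe_subgroup_smul]
    exact ⟨_, hmem, rfl⟩
  rw [← hmax T hTR hT S1 hS1] at this
  have h2 : (c : G) * (g * x * g⁻¹) * (c : G)⁻¹ ∈ T := this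
  convert h2 using 1
  group

end

section

/-- Facts on the dihedral group of order 8. -/
theorem dihedral_facts :
    (∀ a : DihedralGroup 4, (∀ b, a * b = b * a) → a ≠ 1 → a = DihedralGroup.r 2) ∧
    (∀ a : DihedralGroup 4, a * a ≠ 1 → a = DihedralGroup.r 1 ∨ a = DihedralGroup.r 3) ∧
    (∀ a : DihedralGroup 4, a * a = 1 → a * DihedralGroup.r 1 ≠ DihedralGroup.r 1 * a →
      ∃ i, a = DihedralGroup.sr i) ∧
    (∀ i : ZMod 4, (DihedralGroup.sr i : DihedralGroup 4) = DihedralGroup.sr 0 * DihedralGroup.r 1 ^ i.val) ∧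
    (∀ a : DihedralGroup 4, a = DihedralGroup.r 1 ^ (0 : ℕ) ∨ ∃ i : ZMod 4, a = DihedralGroup.r 1 ^ i.val ∨
      a = DihedralGroup.sr 0 * DihedralGroup.r 1 ^ i.val) := by
  refine ⟨by decide, by decide, by decide, by decide, by decide⟩

/-- An automorphism of order dividing three of a dihedral group of order 8 is trivial. -/
theorem dihedral_aut {σ : DihedralGroup 4 ≃* DihedralGroup 4} (h : ∀ a, σ (σ (σ a)) = a) :
    ∀ a, σ a = a := by
  obtain ⟨-, h4, h2, hsr, hall⟩ := dihedral_facts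
  have hr : σ (DihedralGroup.r 1) = DihedralGroup.r 1 := by
    rcases h4 (σ (DihedralGroup.r 1)) (fun e => absurd (σ.injective (e.trans (map_one σ).symm |>
        fun e' => (map_mul σ _ _).trans e')) (by decide)) with e | e
    · exact e
    · have h3 := h (DihedralGroup.r 1)
      have e3 : σ (DihedralGroup.r 3) = DihedralGroup.r 1 := by
        rw [show (DihedralGroup.r 3 : DihedralGroup 4) = DihedralGroup.r 1 ^ 3 by decide, map_pow, e]
        decide
      rw [e, e3, e] at h3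
      exact absurd h3 (by decide)
  obtain ⟨i, hi⟩ := h2 (σ (DihedralGroup.sr 0)) (by rw [← map_mul, show (DihedralGroup.sr 0 : DihedralGroup 4) *
      DihedralGroup.sr 0 = 1 by decide, map_one]) (fun e => by
    rw [← hr, ← map_mul, ← map_mul] at e
    exact absurd (σ.injective e) (by decide))
  have hs : σ (DihedralGroup.sr 0) = DihedralGroup.sr 0 := by
    have h1 : ∀ j : ZMod 4, σ (DihedralGroup.sr j) = DihedralGroup.sr i * DihedralGroup.r 1 ^ j.val := fun j => by
      rw [hsr j, map_mul, map_pow, hi, hr]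
    have h3 := h (DihedralGroup.sr 0)
    rw [hi, h1, map_mul, map_pow, hr, h1] at h3
    rw [hi]
    clear h1 hi h
    revert h3
    revert i
    decide
  intro a
  rcases hall a with rfl | ⟨j, rfl | rfl⟩
  · simp
  · rw [map_pow, hr]
  · rw [map_mul, map_pow, hs, hr]

end

end CfsgLib.MTwentyTwoUnique.FromOrder
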