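import Cfsg.Agent.Lib.MTwentyTwoUnique.FromOrder.SevenThreeSimple
import Mathlib

/-!
A simple group of order 443520: the automiser of order six at 7 with a centraliser of 2-part 4.
-/

set_option autoImplicit false
set_option linter.style.haveILetI false
set_option linter.unusedSectionVars false

noncomputable section

open scoped Classical

namespace CfsgLib.MTwentyTwoUnique.FromOrder

open Equiv Subgroup CfsgLib.InvolChar CfsgLib.SmallGroups CfsgLib.SmallSimple CfsgLib.Blocks.PrimeSylow Cfsg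

section

variable {G : Type*} [Group G] [Finite G]

/-- A power one step up from two coprime exponents. -/
theorem mem_of_pow_mem {A : Subgroup G} {r : G} {m n : ℕ} (hc : Nat.Coprime m n) (h1 : r ^ m ∈ A)
    (h2 : r ^ n ∈ A) : r ∈ A := by
  have h := Nat.gcd_eq_gcd_ab m n
  rw [hc.gcd_eq_one, Nat.cast_one] at h
  rw [← zpow_one r, h, zpow_add, zpow_mul, zpow_mul, zpow_natCast, zpow_natCast]
  exact mul_mem (zpow_mem h1 _) (zpow_mem h2 _)

/-- The exponent of a Sylow 2-subgroup. -/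
theorem pow_eq_one_of_sylow {Y W : Subgroup G} {a n i : ℕ} (hWY : W ≤ Y) (hW : Nat.card W = 2 ^ a)
    (hY : ¬ 2 ^ (a + 1) ∣ Nat.card Y) (hexp : ∀ w ∈ W, w ^ n = 1) {v : G} (hv : v ∈ Y)
    (hv2 : v ^ 2 ^ i = 1) : v ^ n = 1 := by
  haveI : Fact (Nat.Prime 2) := ⟨Nat.prime_two⟩
  obtain ⟨S1, hS1⟩ := (IsPGroup.of_card (n := a) (by
    rw [Nat.card_congr (subgroupOfEquivOfLe hWY).toEquiv, hW]) : IsPGroup 2 (W.subgroupOf Y)).exists_le_sylow
  have hW1 : W.subgroupOf Y = (S1 : Subgroup Y) := by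
    refine eq_of_le_of_card_ge hS1 ?_
    rw [Nat.card_congr (subgroupOfEquivOfLe hWY).toEquiv, hW]
    obtain ⟨k, hk⟩ := IsPGroup.iff_card.1 S1.2
    have h1 : 2 ^ k ∣ Nat.card Y := hk ▸ card_subgroup_dvd_card (S1 : Subgroup Y)
    have hka : k ≤ a := by
      by_contra h
      exact hY ((pow_dvd_pow 2 (by omega)).trans h1)
    rw [hk]
    exact Nat.pow_le_pow_right two_pos hka
  obtain ⟨k, -, hk⟩ := (Nat.dvd_prime_pow Nat.prime_two).1 (orderOf_dvd_of_pow_eq_one hv2)
  obtain ⟨S2, hS2⟩ := (IsPGroup.of_card (n := k) (by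
    rw [Nat.card_zpowers, Subgroup.orderOf_mk, hk]) :
    IsPGroup 2 (zpowers (⟨v, hv⟩ : Y))).exists_le_sylow
  obtain ⟨c, hc⟩ := MulAction.exists_smul_eq Y S2 S1
  have hmem : c * ⟨v, hv⟩ * c⁻¹ ∈ W.subgroupOf Y := by
    rw [hW1, ← hc, Sylow.coe_subgroup_smul]
    exact ⟨_, hS2 (mem_zpowers _), rfl⟩
  have h := hexp _ (mem_subgroupOf.1 hmem)
  rw [Subgroup.coe_mul, Subgroup.coe_mul, InvMemClass.coe_inv, conj_pow] at h
  exact conj_eq_one_iff.1 h

end

variable {G : Type*} [Group G] [Fintype G]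

/-- The centraliser of the chosen involution, for an automiser of order six. -/
structure Six [Fact (Nat.Prime 7)] (P : Sylow 7 G) (u : ℕ) where
  /-- the involution -/
  z : G
  /-- the Sylow 2-subgroup of `C(P)` -/
  K : Subgroup G
  /-- a Sylow 2-subgroup of `N(P)` -/
  U : Subgroup G
  /-- a Sylow 2-subgroup of the centraliser of `z` -/
  T : Subgroup G
  card_N : Nat.card (normalizer ((P : Subgroup G) : Set G)) = 7 * (6 * u)
  hu : u = 4 ∨ u = 60
  hzC : z ∈ centralizer ((P : Subgroup G) : Set G)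
  hKC : K ≤ centralizer ((P : Subgroup G) : Set G)
  hK : Nat.card K = 4
  hUN : U ≤ normalizer ((P : Subgroup G) : Set G)
  hU : Nat.card U = 8
  h8 : Nat.card (Sylow 7 (centralizer ({z} : Set G))) = 8
  hKR : K ≤ ker7 (centralizer ({z} : Set G))
  hR : ¬ 8 ∣ Nat.card (ker7 (centralizer ({z} : Set G)))
  hM : Nat.card (act7 (centralizer ({z} : Set G))).range = 112 ∨
    Nat.card (act7 (centralizer ({z} : Set G))).range = 336
  hTH : T ≤ centralizer ({z} : Set G)
  hT : Nat.card T = 64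
  hKT : K ≤ T
  hUT : U ≤ T

variable [Fact (Nat.Prime 7)] (P : Sylow 7 G)

/-- Seven inverting conjugates give a stabiliser of order 360. -/
theorem not_seven_inverting (hG : SG G)
    (hN : Nat.card (normalizer ((P : Subgroup G) : Set G)) = 7 * 360) {t : G}
    (hC : Nat.card (centralizer ({t} : Set G)) = 6720)
    (hA : (invSet (pw P (card_seven P hG) 1) t).card = 7) : False := by
  set hP := card_seven P hG
  set x := pw P hP (1 : ZMod 7) with hx
  set N := normalizer ((P : Subgroup G) : Set G)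
  set C := centralizer ((P : Subgroup G) : Set G)
  have hxP : x ∈ (P : Subgroup G) := pw_mem P hP 1
  have hinv : ∀ a ∈ invSet x t, ∀ y ∈ (P : Subgroup G), a * y * a⁻¹ = y⁻¹ := by
    intro a ha y hy
    rw [← zpowers_pw P hP (one_ne_zero : (1 : ZMod 7) ≠ 0), ← hx] at hy
    obtain ⟨k, rfl⟩ := mem_zpowers_iff.1 hy
    rw [← conj_zpow, (mem_invSet.1 ha).2, inv_zpow]
  have hstable : ∀ n ∈ N, ∀ a ∈ invSet x t, n * a * n⁻¹ ∈ invSet x t := by
    intro n hn a ha
    refine mem_invSet.2 ⟨(mem_invSet.1 ha).1.trans (isConj_iff.2 ⟨n, rfl⟩), ?_⟩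
    have hy : n⁻¹ * x * n ∈ (P : Subgroup G) :=
      (hn _).2 (by rw [show n * (n⁻¹ * x * n) * n⁻¹ = x by group]; exact hxP)
    calc n * a * n⁻¹ * x * (n * a * n⁻¹)⁻¹ = n * (a * (n⁻¹ * x * n) * a⁻¹) * n⁻¹ := by group
      _ = x⁻¹ := by rw [hinv a ha _ hy]; group
  let act : MulAction N {a // a ∈ invSet x t} :=
    { smul := fun n a => ⟨(n : G) * a * (n : G)⁻¹, hstable n n.2 a a.2⟩
      one_smul := fun a => Subtype.ext (by show (1 : G) * (a : G) * (1 : G)⁻¹ = a; group)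
      mul_smul := fun m n a => Subtype.ext (by
        show ((m : G) * n) * (a : G) * ((m : G) * n)⁻¹ = m * ((n : G) * a * (n : G)⁻¹) * (m : G)⁻¹
        group) }
  letI := act
  obtain ⟨a, ha⟩ := Finset.card_pos.1 (show 0 < (invSet x t).card by rw [hA]; norm_num)
  set St := MulAction.stabilizer N (⟨a, ha⟩ : {a // a ∈ invSet x t})
  have hcomm : ∀ n ∈ St, (n : G) * a = a * n := fun n hn =>
    mul_inv_eq_iff_eq_mul.1 (congrArg Subtype.val hn)
  have h7 : ¬ 7 ∣ Nat.card St := by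
    intro h
    obtain ⟨v, hv⟩ := exists_prime_orderOf_dvd_card' (G := St) 7 h
    have hvo : orderOf ((v : N) : G) = 7 := by rw [Subgroup.orderOf_coe, Subgroup.orderOf_coe, hv]
    have hk : Nat.card N ∣ 6 * Nat.card C := by
      have h := relIndex_dvd P hP
      rw [← Order459648.card_centralizer_mul_relIndex (P : Subgroup G), mul_comm]
      exact Nat.mul_dvd_mul_right h _
    have hvC := SylowLocal.mem_centralizer_of_coprime _ hk (v : N).2 (by rw [hvo]; norm_num)
    have hvP : ((v : N) : G) ∈ (P : Subgroup G) :=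
      mem_of_pElement_centralizer P hvC ⟨1, by rw [hvo, pow_one]⟩
    have h1 := hinv a ha _ hvP
    rw [← (hcomm v v.2), mul_inv_cancel_right] at h1
    have h2 : ((v : N) : G) ^ 2 = 1 := by rw [sq]; nth_rewrite 2 [h1]; exact mul_inv_cancel _
    have h3 := orderOf_dvd_of_pow_eq_one h2
    rw [hvo] at h3
    norm_num at h3
  have horb : Nat.card (MulAction.orbit N (⟨a, ha⟩ : {a // a ∈ invSet x t})) * Nat.card St = 7 * 360 := by
    rw [← hN, ← Nat.card_prod]
    exact Nat.card_congr (MulAction.orbitProdStabilizerEquivGroup N _)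
  have hle : Nat.card (MulAction.orbit N (⟨a, ha⟩ : {a // a ∈ invSet x t})) ≤ 7 := by
    refine (Finite.card_subtype_le _).trans ?_
    rw [Nat.card_eq_finsetCard, hA]
  set o := Nat.card (MulAction.orbit N (⟨a, ha⟩ : {a // a ∈ invSet x t}))
  have h7o : 7 ∣ o := ((Nat.Prime.coprime_iff_not_dvd (by norm_num)).2 h7).dvd_of_dvd_mul_right
    (horb ▸ dvd_mul_right 7 360)
  have hopos : 0 < o := Nat.pos_of_ne_zero fun h0 => by rw [h0, zero_mul] at horb; norm_num at horb
  have ho7 : o = 7 := le_antisymm hle (Nat.le_of_dvd hopos h7o)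
  rw [ho7] at horb
  have hSt : Nat.card St = 360 := Nat.eq_of_mul_eq_mul_left (by norm_num) horb
  have hdvd : Nat.card St ∣ Nat.card (centralizer ({a} : Set G)) := by
    rw [← card_map_of_injective (K := St) N.subtype_injective]
    refine card_dvd_of_le ?_
    rintro _ ⟨n, hn, rfl⟩
    exact mem_centralizer_singleton_iff.2 (hcomm n hn)
  obtain ⟨c, hc⟩ := isConj_iff.1 (mem_invSet.1 ha).1
  have hca : Nat.card (centralizer ({a} : Set G)) ∣ Nat.card (centralizer ({t} : Set G)) := by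
    rw [← card_map_of_injective (f := (MulAut.conj c⁻¹).toMonoidHom) (K := centralizer ({a} : Set G))
      (MulAut.conj c⁻¹).injective]
    refine card_dvd_of_le ?_
    rintro _ ⟨y, hy, rfl⟩
    rw [mem_centralizer_singleton_iff]
    have h1 := mem_centralizer_singleton_iff.1 hy
    rw [← hc] at h1
    show c⁻¹ * y * c⁻¹⁻¹ * t = t * (c⁻¹ * y * c⁻¹⁻¹)
    calc c⁻¹ * y * c⁻¹⁻¹ * t = c⁻¹ * (y * (c * t * c⁻¹)) * c := by group
      _ = c⁻¹ * (c * t * c⁻¹ * y) * c := by rw [h1]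
      _ = t * (c⁻¹ * y * c⁻¹⁻¹) := by group
  have := hdvd.trans hca
  rw [hSt, hC] at this
  norm_num at this

theorem exists_six (hG : SG G) {u : ℕ} (hu : u = 4 ∨ u = 60)
    (hN : Nat.card (normalizer ((P : Subgroup G) : Set G)) = 7 * (6 * u))
    (hC : Nat.card (centralizer ((P : Subgroup G) : Set G)) = 7 * u) : Nonempty (Six P u) := by
  haveI := hG.simple
  haveI : Fact (Nat.Prime 2) := ⟨Nat.prime_two⟩
  set C := centralizer ((P : Subgroup G) : Set G) with hCdef
  set N := normalizer ((P : Subgroup G) : Set G) with hNdef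
  have hP := card_seven P hG
  have hC8 : ¬ 2 ^ (2 + 1) ∣ Nat.card C := by
    rw [hC]; rcases hu with rfl | rfl <;> norm_num
  have hN16 : ¬ 2 ^ (3 + 1) ∣ 6 * u := by rcases hu with rfl | rfl <;> norm_num
  obtain ⟨U0⟩ : Nonempty (Sylow 2 N) := inferInstance
  set U : Subgroup G := (U0 : Subgroup N).map N.subtype
  have hUN : U ≤ N := map_subtype_le _
  have hU : Nat.card U = 8 := by
    rw [card_map_of_injective N.subtype_injective]
    rcases hu with rfl | rfl
    · simpa using card_sylow_eq (show Nat.card N = 2 ^ 3 * 21 by rw [hN]; norm_num) (by norm_num) U0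
    · simpa using card_sylow_eq (show Nat.card N = 2 ^ 3 * 315 by rw [hN]; norm_num) (by norm_num) U0
  set K : Subgroup G := U ⊓ C
  haveI hCn : (C.subgroupOf N).Normal := by
    rw [← Subgroup.normalizerMonoidHom_ker]; exact MonoidHom.normal_ker _
  have hK : Nat.card K = 4 := by
    have h4 : 2 ^ 2 ∣ Nat.card C := by rw [hC]; rcases hu with rfl | rfl <;> norm_num
    obtain ⟨n, hn⟩ := IsPGroup.iff_card.1
      ((IsPGroup.of_card (n := 3) (by rw [hU]; norm_num) : IsPGroup 2 U).to_le (inf_le_left : K ≤ U))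
    have hle : n ≤ 2 := by
      by_contra h
      exact hC8 ((pow_dvd_pow 2 (by omega)).trans (hn ▸ card_dvd_of_le inf_le_right))
    -- the normal subgroup contains a Sylow subgroup of itself
    obtain ⟨W, hW⟩ := Sylow.exists_subgroup_card_pow_prime 2 h4
    have hWN : W.map C.subtype ≤ N := (map_subtype_le _).trans (centralizer_le_normalizer _)
    obtain ⟨U1, hU1⟩ := (IsPGroup.of_card (n := 2) (by
      rw [Nat.card_congr (subgroupOfEquivOfLe hWN).toEquiv, card_map_of_injective C.subtype_injective, hW]) :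
      IsPGroup 2 ((W.map C.subtype).subgroupOf N)).exists_le_sylow
    obtain ⟨c, hc⟩ := MulAction.exists_smul_eq N U1 U0
    have hle' : (W.map C.subtype).map (MulAut.conj (c : G)).toMonoidHom ≤ K := by
      rintro _ ⟨w, hw, rfl⟩
      refine Subgroup.mem_inf.2 ⟨⟨c * ⟨w, hWN hw⟩ * c⁻¹, ?_, rfl⟩, ?_⟩
      · rw [← hc, Sylow.coe_subgroup_smul]
        exact ⟨_, hU1 (show (⟨w, hWN hw⟩ : N) ∈ (W.map C.subtype).subgroupOf N from hw), rfl⟩
      · exact hCn.conj_mem ⟨w, hWN hw⟩ (mem_subgroupOf.2 (map_subtype_le W hw)) c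
    have h4' := card_dvd_of_le hle'
    rw [card_map_of_injective (MulAut.conj (c : G)).injective, card_map_of_injective C.subtype_injective,
      hW, hn] at h4'
    have := Nat.pow_dvd_pow_iff_le_right (x := 2) (k := 2) (l := n) (by norm_num) |>.1 h4'
    exact hn.trans (by rw [show n = 2 by omega]; norm_num)
  have hUp : IsPGroup 2 U := IsPGroup.of_card (n := 3) (by rw [hU]; norm_num)
  have hKn : ∀ s ∈ U, ∀ d ∈ K, s * d * s⁻¹ ∈ K := fun s hs d hd => by
    obtain ⟨h1, h2⟩ := Subgroup.mem_inf.1 hd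
    exact Subgroup.mem_inf.2 ⟨mul_mem (mul_mem hs h1) (inv_mem hs),
      hCn.conj_mem ⟨d, centralizer_le_normalizer _ h2⟩ h2 ⟨s, hUN hs⟩⟩
  obtain ⟨z, hzK, hz, hUz⟩ := exists_central_in hUp inf_le_left (fun h => by
    rw [show K = ⊥ from h, Subgroup.card_bot] at hK; norm_num at hK) hKn
  have hz1 : z ≠ 1 := fun h => by rw [h, orderOf_one] at hz; norm_num at hz
  have hzz : z * z = 1 := by rw [← sq, ← hz, pow_orderOf_eq_one]
  have hKC : K ≤ C := inf_le_right
  have hzC : z ∈ C := hKC hzK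
  set H := centralizer ({z} : Set G)
  have hPH := sylow_le_centralizer P hzC
  obtain ⟨F, j, hF, hF7, hFj, hj, hH⟩ := cent_seven_facts P hG hz1 hzC
  have hUH : U ≤ H := fun x hx => mem_centralizer_singleton_iff.2 (hUz x hx)
  have h8j : 8 ∣ j := by
    have h := card_dvd_of_le (le_inf hUN hUH)
    rw [hU, hj] at h
    exact (by norm_num : Nat.Coprime 8 7).dvd_of_dvd_mul_left h
  have hju : j ∣ 6 * u := by
    have h := card_dvd_of_le (inf_le_left : N ⊓ H ≤ _)
    rw [hN, hj] at h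
    exact Nat.dvd_of_mul_dvd_mul_left (by norm_num) h
  have hj360 : j ∣ [8, 9, 5].prod := hju.trans (by rcases hu with rfl | rfl <;> norm_num)
  have hF8 : F = 8 := by
    by_contra hne
    have key : ∀ a ∈ dvs [128, 9, 5], ∀ b ∈ dvs [8, 9, 5], 8 ∣ b → a % 7 = 1 → a * b ∣ 5760 →
        (b ∣ 24 → a = 8 ∨ a * (7 * b) ∈ centsSeven 4) ∧
        (b ∣ 360 → a = 8 ∨ a * (7 * b) ∈ centsSeven 60) := by decide +kernel
    have hk := key F (mem_dvs _ (by simp) ((dvd_mul_right F _).trans hFj)) j (mem_dvs _ (by simp) hj360)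
      h8j hF7 hFj
    obtain ⟨hrel, hreg⟩ := relIndex_and_reg P hP hN hC
    obtain ⟨B⟩ := exists_pb P hP 6 hrel
    rcases hu with rfl | rfl
    · have h := B.excl_of_deadFull hG (by norm_num) (by norm_num) dead_seven_four
        (fun χ _ => okEleven_of hG χ) hzz hz1 hzC
        (by rw [hH]; exact (hk.1 hju).resolve_left hne) (by rw [hreg]; simp)
      exact absurd h (by simp [exclSeven])
    · have h := B.excl_of_deadFull hG (by norm_num) (by norm_num) dead_seven_sixty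
        (fun χ _ => okEleven_of hG χ) hzz hz1 hzC
        (by rw [hH]; exact (hk.2 hju).resolve_left hne) (by rw [hreg]; simp)
      by_cases hc : Nat.card H = 6720
      · rw [hc] at h
        simp only [exclSeven, and_self, if_true, Option.some.injEq] at h
        refine not_seven_inverting P hG hN hc ?_
        nlinarith [(invSet (pw P hP 1) z).card.zero_le]
      · rw [exclSeven, if_neg (fun h' => hc h'.2)] at h
        exact absurd h (by simp)
  rw [hF8] at hF hH
  obtain ⟨d, hd, hM, hNH, hHc⟩ := exists_index P hG hPH hF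
  have hjd : j = d * Nat.card (ker7 H) := by
    rw [hj] at hNH
    exact Nat.eq_of_mul_eq_mul_left (by norm_num) hNH
  have hKR : K ≤ ker7 H := fun x hx => (mem_ker7_iff P hG hPH hF).2
    ⟨hUH (Subgroup.mem_inf.1 hx).1, hKC hx, fun h => by
      have h1 := h.trans (Subgroup.orderOf_dvd_natCard K hx)
      rw [hK] at h1
      norm_num at h1⟩
  have hR8 : ¬ 8 ∣ Nat.card (ker7 H) := fun h => hC8 (h.trans (card_dvd_of_le fun x hx =>
    ((mem_ker7_iff P hG hPH hF).1 hx).2.1))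
  obtain ⟨a, ha⟩ : 4 ∣ Nat.card (ker7 H) := hK ▸ card_dvd_of_le hKR
  have ha2 : a % 2 = 1 := by
    by_contra h
    exact hR8 (by rw [ha]; omega)
  have hd2 : d % 2 = 0 := by
    rw [hjd, ha] at h8j
    have h2 : 2 ∣ d * a := by
      have : 4 * 2 ∣ 4 * (d * a) := by rw [show 4 * (d * a) = d * (4 * a) by ring]; exact h8j
      exact Nat.dvd_of_mul_dvd_mul_left (by norm_num) this
    rcases Nat.prime_two.dvd_mul.1 h2 with h | h <;> omega
  have hd26 : d = 2 ∨ d = 6 := by
    have hle : d ≤ 6 := Nat.le_of_dvd (by norm_num) (Nat.dvd_of_mod_eq_zero hd)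
    interval_cases d <;> omega
  have hH64 : ∃ b, Nat.card H = 2 ^ 6 * b ∧ ¬ 2 ∣ b := by
    rcases hd26 with rfl | rfl
    · exact ⟨7 * a, by rw [hHc, ha]; ring, by omega⟩
    · exact ⟨21 * a, by rw [hHc, ha]; ring, by omega⟩
  obtain ⟨T0, hT0⟩ := (IsPGroup.of_card (n := 3) (by
    rw [Nat.card_congr (subgroupOfEquivOfLe hUH).toEquiv, hU]; norm_num) :
    IsPGroup 2 (U.subgroupOf H)).exists_le_sylow
  have hT : Nat.card (T0 : Subgroup H) = 64 := by
    obtain ⟨b, hb, hb'⟩ := hH64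
    simpa using card_sylow_eq hb hb' T0
  have hUT : U ≤ (T0 : Subgroup H).map H.subtype := fun x hx => ⟨⟨x, hUH hx⟩, hT0 hx, rfl⟩
  exact ⟨{
    z := z, K := K, U := U, T := (T0 : Subgroup H).map H.subtype
    card_N := hN, hu := hu, hzC := hzC, hKC := hKC, hK := hK, hUN := hUN, hU := hU
    h8 := hF, hKR := hKR, hR := hR8
    hM := by rcases hd26 with rfl | rfl <;> [left; right] <;> exact hM
    hTH := map_subtype_le _
    hT := by rw [card_map_of_injective H.subtype_injective, hT]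
    hKT := inf_le_left.trans hUT
    hUT := hUT }⟩

set_option maxHeartbeats 1600000 in
theorem not_seven_six (hG : SG G) {u : ℕ} (hu : u = 4 ∨ u = 60)
    (hN : Nat.card (normalizer ((P : Subgroup G) : Set G)) = 7 * (6 * u))
    (hC : Nat.card (centralizer ((P : Subgroup G) : Set G)) = 7 * u) : False := by
  obtain ⟨D⟩ := exists_six P hG hu hN hC
  haveI : Fact (Nat.Prime 2) := ⟨Nat.prime_two⟩
  have hP := card_seven P hG
  have hPH := sylow_le_centralizer P D.hzC
  have h8X : Nat.card (Sylow 7 (centralizer ({D.z} : Set G))) = 8 := D.h8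
  have hMc := D.hM
  set H := centralizer ({D.z} : Set G) with hHdef
  haveI := Fintype.ofFinite (Sylow 7 H)
  set M := (act7 H).range with hMdef
  have hgH : gen P hP ∈ H := hPH (pw_one P hP ▸ pw_mem P hP 1)
  set xb := act7 H ⟨gen P hP, hgH⟩ with hxb
  have hxb7 : orderOf xb = 7 := orderOf_act7 P hG hPH D.h8
  have hxbM : xb ∈ M := ⟨_, rfl⟩
  -- an odd involution
  obtain ⟨o, ho, ho', hox⟩ := EightPerm.seven_orbit h8X hxb7
  have hoP : o = P.subtype hPH := by
    refine (ho' _ ?_).symm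
    show (⟨gen P hP, hgH⟩ : H) • P.subtype hPH = P.subtype hPH
    exact Sylow.smul_eq_iff_mem_normalizer.2 (le_normalizer
      (show gen P hP ∈ (P : Subgroup G) from pw_one P hP ▸ pw_mem P hP 1))
  obtain ⟨ib, hiM, hi2, hixb⟩ : ∃ ib ∈ M, ib * ib = 1 ∧ ib * xb * ib⁻¹ = xb⁻¹ := by
    have hst := EightPerm.card_stab h8X M (act7_pretransitive H) o
    have h2 : 2 ∣ Nat.card (MulAction.stabilizer M o) := by
      rcases hMc with h | h <;> rw [h] at hst <;> omega
    obtain ⟨i, hi⟩ := exists_prime_orderOf_dvd_card' (G := MulAction.stabilizer M o) 2 h2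
    obtain ⟨⟨ib, hiM⟩, hfix⟩ := i
    rw [Subgroup.orderOf_mk, Subgroup.orderOf_mk] at hi
    have hi2 : ib * ib = 1 := by rw [← sq, ← hi, pow_orderOf_eq_one]
    obtain ⟨n, rfl⟩ := hiM
    have hnN : (n : G) ∈ normalizer ((P : Subgroup G) : Set G) := by
      have h1 : n • P.subtype hPH = P.subtype hPH := hoP ▸ (hfix : _)
      rw [Sylow.smul_subtype] at h1
      exact Sylow.smul_eq_iff_mem_normalizer.1 (Sylow.subtype_injective h1)
    have hgP : gen P hP ∈ (P : Subgroup G) := pw_one P hP ▸ pw_mem P hP 1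
    have hc := (hnN _).1 hgP
    rw [← zpowers_gen P hP] at hc
    obtain ⟨k, hk⟩ := mem_zpowers_iff.1 hc
    have hk' : act7 H n * xb * (act7 H n)⁻¹ = xb ^ k := by
      rw [hxb, ← map_zpow, ← map_inv, ← map_mul, ← map_mul]
      exact congrArg _ (Subtype.ext (by
        show (n : G) * gen P hP * (n : G)⁻¹ = _
        rw [SubgroupClass.coe_zpow]; exact hk.symm))
    refine ⟨_, ⟨n, rfl⟩, hi2, ?_⟩
    rw [hk']
    have hkk : xb ^ (k * k) = xb := by
      rw [zpow_mul, ← hk', conj_zpow, ← hk']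
      rw [show act7 H n * (act7 H n * xb * (act7 H n)⁻¹) * (act7 H n)⁻¹ =
        (act7 H n * act7 H n) * xb * (act7 H n * act7 H n)⁻¹ by group, hi2]
      group
    have hd : (7 : ℤ) ∣ (k - 1) * (k + 1) := by
      have h1 : xb ^ (k * k - 1) = 1 := by rw [zpow_sub, hkk, zpow_one, mul_inv_cancel]
      have h2 := orderOf_dvd_iff_zpow_eq_one.2 h1
      rw [hxb7] at h2
      rw [show (k - 1) * (k + 1) = k * k - 1 by ring]
      exact h2
    rcases (Int.prime_iff_natAbs_prime.2 (by norm_num)).dvd_or_dvd hd with h | h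
    · exfalso
      have h1 : xb ^ (k - 1) = 1 := orderOf_dvd_iff_zpow_eq_one.1 (by rw [hxb7]; exact h)
      rw [zpow_sub, zpow_one, mul_inv_eq_one] at h1
      rw [h1] at hk'
      have hmem := EightPerm.mem_zpowers_of_commute h8X hxb7 (mul_inv_eq_iff_eq_mul.1 hk' : Commute _ xb)
      have h3 := orderOf_dvd_of_mem_zpowers hmem
      rw [hi, hxb7] at h3
      norm_num at h3
    · have h1 : xb ^ (k + 1) = 1 := orderOf_dvd_iff_zpow_eq_one.1 (by rw [hxb7]; exact h)
      rw [zpow_add, zpow_one] at h1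
      exact eq_inv_of_mul_eq_one_left h1
  have hodd := EightPerm.sign_of_inverting h8X hxb7 hi2 hixb
  set M0 := M ⊓ Equiv.Perm.sign.ker with hM0def
  obtain ⟨hM02, hxbM0, htr0⟩ := EightPerm.even_part h8X M (act7_pretransitive H) hxbM hxb7 hiM hodd
  rw [← hM0def] at hM02 hxbM0 htr0
  have hM0c : Nat.card M0 = 56 ∨ Nat.card M0 = 168 := by rcases hMc with h | h <;> omega
  have hM0n : ∀ m ∈ M, ∀ y ∈ M0, m * y * m⁻¹ ∈ M0 := fun m hm y hy => by
    obtain ⟨h1, h2⟩ := Subgroup.mem_inf.1 hy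
    exact Subgroup.mem_inf.2 ⟨mul_mem (mul_mem hm h1) (inv_mem hm),
      Equiv.Perm.sign.normal_ker.conj_mem y h2 m⟩
  rcases EightPerm.normal_or_simple h8X M0 htr0 hxbM0 hxb7 hM0c with ⟨E, hEn, hE⟩ | ⟨h168, hs⟩
  · -- a normal subgroup of order eight
    have htwo : ∀ g : M0, g ^ 8 = 1 → g ∈ E := fun g hg => by
      refine (QuotientGroup.eq_one_iff g).1 (orderOf_eq_one_iff.1 ?_)
      refine Nat.eq_one_of_dvd_coprimes (a := 8) (b := E.index) ?_ ?_ (_root_.orderOf_dvd_natCard _)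
      · have h := E.card_mul_index
        rw [hE] at h
        rcases hM0c with e | e <;> rw [e] at h
        · rw [show E.index = 7 by omega]; norm_num
        · rw [show E.index = 21 by omega]; norm_num
      · exact (orderOf_map_dvd (QuotientGroup.mk' E) g).trans (orderOf_dvd_of_pow_eq_one hg)
    set E' : Subgroup M := ((E.map M0.subtype)).subgroupOf M
    have hEM : E.map M0.subtype ≤ M := (map_subtype_le _).trans inf_le_left
    refine EightPerm.no_inverting (M := M) (E := E') ⟨fun y hy m => ?_⟩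
      (by rw [Nat.card_congr (subgroupOfEquivOfLe hEM).toEquiv, card_map_of_injective M0.subtype_injective, hE])
      (x := ⟨xb, hxbM⟩) (i := ⟨ib, hiM⟩) (by rw [Subgroup.orderOf_mk, hxb7]) (fun e he hcomm => ?_)
      (Subtype.ext hi2) (Subtype.ext hixb)
    · obtain ⟨y0, hy0, hy0e⟩ := mem_subgroupOf.1 hy
      refine mem_subgroupOf.2 ⟨⟨(m : Perm (Sylow 7 H)) * y * (m : Perm (Sylow 7 H))⁻¹, hM0n m m.2 y
        (hy0e ▸ y0.2)⟩, htwo _ (Subtype.ext ?_), rfl⟩
      show ((m : Perm (Sylow 7 H)) * y * (m : Perm (Sylow 7 H))⁻¹) ^ 8 = 1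
      have h8 : y0 ^ 8 = 1 := by
        have := Subgroup.orderOf_dvd_natCard E hy0
        rw [hE] at this
        exact orderOf_dvd_iff_pow_eq_one.1 this
      rw [conj_pow, ← hy0e]
      show _ * (y0 : Perm (Sylow 7 H)) ^ 8 * _ = 1
      rw [← SubmonoidClass.coe_pow, h8, Subgroup.coe_one]
      group
    · obtain ⟨y0, hy0, hy0e⟩ := mem_subgroupOf.1 he
      have hz := EightPerm.mem_zpowers_of_commute h8X hxb7 (congrArg Subtype.val hcomm.eq : Commute _ xb)
      have h1 := orderOf_dvd_of_mem_zpowers hz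
      rw [hxb7] at h1
      have h2 : orderOf (e : Perm (Sylow 7 H)) ∣ 8 := by
        rw [← hy0e, ← hE]
        show orderOf (y0 : Perm (Sylow 7 H)) ∣ _
        rw [Subgroup.orderOf_coe]
        exact Subgroup.orderOf_dvd_natCard E hy0
      exact Subtype.ext (orderOf_eq_one_iff.1 (Nat.eq_one_of_dvd_coprimes (by norm_num : Nat.Coprime 7 8) h1 h2))
  -- the even part is simple
  haveI := hs
  obtain ⟨hconj, hdih⟩ := simple168_facts h168
  have hfree : ∀ b ∈ M0, ∀ k : ℕ, b ^ 2 ^ k = 1 → b ≠ 1 → ∀ q, b q ≠ q := fun b hb k hk hne q hq =>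
    hne (EightPerm.no_fixed h8X M0 htr0 (by rw [h168]) hb hk hq)
  obtain ⟨S, g, hSp, hS, hTS, hgS, hg, hg', hgg, hSc⟩ := exists_index_two D.hT (card_sylow_two hG)
  have hKT := D.hKT
  have hKR0 : D.T ⊓ ker7 H = D.K :=
    inf_eq_of_two (a := 2) (b := 6) (by rw [D.hT]; norm_num) hKT D.hKR (by rw [D.hK]; norm_num) D.hR
  have hKn : ∀ t ∈ D.T, ∀ a ∈ D.K, t * a * t⁻¹ ∈ D.K := fun t ht a ha =>
    hKR0.le (Subgroup.mem_inf.2 ⟨mul_mem (mul_mem ht (hKT ha)) (inv_mem ht),
      conj_mem_ker7 (D.hTH ht) (D.hKR ha)⟩)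
  have h16 : ¬ 2 ^ (3 + 1) ∣ 6 * u := by rcases hu with rfl | rfl <;> norm_num
  set L : Subgroup G := D.K.map (MulAut.conj g).toMonoidHom with hLdef
  have hLT : L ≤ D.T := by
    rintro _ ⟨a, ha, rfl⟩
    exact hg a (hKT ha)
  have hKL : D.K ⊓ L = ⊥ := by
    by_contra hne
    obtain ⟨k, hk, hk2, hkS⟩ := exists_central_in hSp (inf_le_left.trans (hKT.trans hTS)) hne
      (inf_conj_normalized hg' hgg hSc hKn)
    have hSk : S ≤ centralizer ({k} : Set G) := fun s hs => mem_centralizer_singleton_iff.2 (hkS s hs)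
    exact no_central P hG (Or.inl rfl) hN h16 D.hUN
      (by rw [D.hU]; norm_num) (fun h => by rw [h, orderOf_one] at hk2; norm_num at hk2)
      (D.hKC (Subgroup.mem_inf.1 hk).1) ((D.hUT.trans hTS).trans hSk) (hS ▸ card_dvd_of_le hSk)
  have hLn : ∀ t ∈ D.T, ∀ l ∈ L, t * l * t⁻¹ ∈ L := by
    rintro t ht _ ⟨a, ha, rfl⟩
    refine ⟨g⁻¹ * t * g * a * (g⁻¹ * t * g)⁻¹, hKn _ (hg' t ht) a ha, ?_⟩
    show g * (g⁻¹ * t * g * a * (g⁻¹ * t * g)⁻¹) * g⁻¹ = t * (g * a * g⁻¹) * t⁻¹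
    group
  have hcommKL : ∀ a ∈ D.K, ∀ l ∈ L, a * l = l * a := fun a ha l hl => by
    have h : a * l * a⁻¹ * l⁻¹ ∈ D.K ⊓ L := by
      refine Subgroup.mem_inf.2 ⟨?_, mul_mem (hLn a (hKT ha) l hl) (inv_mem hl)⟩
      rw [mul_assoc a l, mul_assoc]
      exact mul_mem ha (hKn l (hLT hl) _ (inv_mem ha))
    rw [hKL, Subgroup.mem_bot, mul_inv_eq_one] at h
    exact mul_inv_eq_iff_eq_mul.1 h
  have hLR : ∀ l ∈ L, l ∈ ker7 H → l = 1 := fun l hl hlR => by
    have h : l ∈ D.K ⊓ L := Subgroup.mem_inf.2 ⟨hKR0.le (Subgroup.mem_inf.2 ⟨hLT hl, hlR⟩), hl⟩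
    rwa [hKL, Subgroup.mem_bot] at h
  set τ : D.T →* Perm (Sylow 7 H) := (act7 H).comp (Subgroup.inclusion D.hTH) with hτdef
  have hτM : ∀ t, τ t ∈ M := fun t => ⟨_, rfl⟩
  have hτker : ∀ t : D.T, τ t = 1 ↔ (t : G) ∈ D.K := fun t => by
    rw [show τ t = act7 H ⟨t, D.hTH t.2⟩ from rfl, ← mem_ker7]
    exact ⟨fun h => hKR0.le (Subgroup.mem_inf.2 ⟨t.2, h⟩), fun h => D.hKR h⟩
  have hτ2 : ∀ t, ∃ k : ℕ, τ t ^ 2 ^ k = 1 := fun t => ⟨6, by
    rw [← map_pow, show t ^ 2 ^ 6 = 1 from orderOf_dvd_iff_pow_eq_one.1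
      ((_root_.orderOf_dvd_natCard t).trans (by rw [D.hT]; norm_num)), map_one]⟩
  -- the subgroup generated by the elements of order 7
  obtain ⟨hRCD, -, -, hDn⟩ := gen7_facts P hG hPH D.h8
  have hKd : ∀ d ∈ gen7 H, ∀ a ∈ D.K, Commute d a := fun d hd a ha =>
    mem_centralizer_iff.1 (hRCD (D.hKR ha)) d hd
  have hsurj : ∀ m ∈ M0, ∃ d, ∃ hd : d ∈ gen7 H, act7 H ⟨d, gen7_le H hd⟩ = m := by
    set DD := ((gen7 H).subgroupOf H).map (act7 H) with hDD
    have hDM : DD ≤ M0 := by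
      have hle : gen7 H ≤ (M0.comap (act7 H)).map H.subtype := by
        rw [gen7, Subgroup.closure_le]
        rintro y ⟨hy, hyo⟩
        refine ⟨⟨y, hy⟩, Subgroup.mem_inf.2 ⟨⟨_, rfl⟩, MonoidHom.mem_ker.2 ?_⟩, rfl⟩
        have h7 : (Equiv.Perm.sign (act7 H ⟨y, hy⟩)) ^ 7 = 1 := by
          rw [← map_pow, ← map_pow, show (⟨y, hy⟩ : H) ^ 7 = 1 from Subtype.ext (by
            show y ^ 7 = 1; rw [← hyo, pow_orderOf_eq_one]), map_one, map_one]
        rcases Int.units_eq_one_or (Equiv.Perm.sign (act7 H ⟨y, hy⟩)) with h | h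
        · exact h
        · rw [h] at h7; exact absurd h7 (by decide)
      rintro _ ⟨y, hy, rfl⟩
      obtain ⟨y', hy', he⟩ := hle hy
      rw [← Subtype.ext (a2 := y) (he : (y' : G) = y)]
      exact hy'
    haveI := hDn _ rfl
    have hnorm : (DD.subgroupOf M0).Normal := by
      refine ⟨fun y hy m => ?_⟩
      obtain ⟨y0, hy0, hye⟩ := mem_subgroupOf.1 hy
      obtain ⟨m0, hm0⟩ := (Subgroup.mem_inf.1 m.2).1
      refine mem_subgroupOf.2 ⟨m0 * y0 * m0⁻¹, Subgroup.Normal.conj_mem inferInstance y0 hy0 m0, ?_⟩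
      rw [map_mul, map_mul, map_inv, hye, hm0]
      rfl
    rcases hnorm.eq_bot_or_eq_top with he | he
    · exfalso
      have : (⟨xb, hxbM0⟩ : M0) ∈ DD.subgroupOf M0 := mem_subgroupOf.2
        ⟨⟨gen P hP, hgH⟩, mem_subgroupOf.2 (Subgroup.subset_closure ⟨hgH, orderOf_gen P hP⟩), rfl⟩
      rw [he, Subgroup.mem_bot] at this
      rw [show xb = 1 from congrArg Subtype.val this, orderOf_one] at hxb7
      norm_num at hxb7
    · intro m hm
      have : (⟨m, hm⟩ : M0) ∈ DD.subgroupOf M0 := by rw [he]; exact mem_top _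
      obtain ⟨y, hy, hye⟩ := mem_subgroupOf.1 this
      exact ⟨y, hy, hye⟩
  -- the elements of `T` acting as even permutations centralise `K`
  set C1 : Subgroup G := D.T ⊓ centralizer ((D.K : Subgroup G) : Set G) with hC1
  set T0 : Subgroup D.T := M0.comap τ with hT0
  have hT0C : ∀ t : D.T, t ∈ T0 → (t : G) ∈ C1 := by
    intro t ht
    refine Subgroup.mem_inf.2 ⟨t.2, ?_⟩
    obtain ⟨d, hd, hdt⟩ := hsurj (τ t) ht
    set r := d⁻¹ * (t : G) with hr
    have hrR : r ∈ ker7 H := by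
      have hrH : r ∈ H := mul_mem (inv_mem (gen7_le H hd)) (D.hTH t.2)
      rw [mem_ker7 hrH, show (⟨r, hrH⟩ : H) = (⟨d, gen7_le H hd⟩ : H)⁻¹ * Subgroup.inclusion D.hTH t from rfl,
        map_mul, map_inv, hdt]
      exact inv_mul_cancel (τ t)
    have hdr : Commute d r := mem_centralizer_iff.1 (hRCD hrR) d hd
    have hrn : ∀ a ∈ D.K, r * a * r⁻¹ ∈ D.K := fun a ha => by
      have h1 : r * a * r⁻¹ = d⁻¹ * ((t : G) * a * (t : G)⁻¹) * d := by rw [hr]; group
      rw [h1, (hKd d hd _ (hKn t t.2 a ha)).inv_left.eq, inv_mul_cancel_right]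
      exact hKn t t.2 a ha
    obtain ⟨a, o, ho, hn⟩ := Nat.exists_eq_pow_mul_and_not_dvd (orderOf_pos r).ne' 2 (by norm_num)
    have hrnp : ∀ (k : ℕ), ∀ b ∈ D.K, r ^ k * b * (r ^ k)⁻¹ ∈ D.K := by
      intro k
      induction k with
      | zero => intro b hb; simpa using hb
      | succ k ih =>
        intro b hb
        have := hrn _ (ih b hb)
        convert this using 1
        rw [pow_succ']
        group
    have hmem := mem_of_two_element (a := 2) D.hKR (by rw [D.hK]; norm_num) D.hR (pow_mem hrR o)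
      (i := a) (by rw [← pow_mul, mul_comm, ← hn, pow_orderOf_eq_one]) (hrnp o)
    haveI : IsMulCommutative D.K := IsPGroup.isMulCommutative_of_card_eq_prime_sq (p := 2) (by rw [D.hK]; norm_num)
    have h1 : r ^ o ∈ centralizer ((D.K : Subgroup G) : Set G) := le_centralizer D.K hmem
    have h2 : r ^ 64 ∈ centralizer ((D.K : Subgroup G) : Set G) := by
      refine mem_centralizer_iff.2 fun b hb => ?_
      have ht64 : (t : G) ^ 64 = 1 := by
        rw [← SubmonoidClass.coe_pow, orderOf_dvd_iff_pow_eq_one.1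
          ((_root_.orderOf_dvd_natCard t).trans (by rw [D.hT]) : orderOf t ∣ 64)]
        rfl
      have h3 : r ^ 64 = (d ^ 64)⁻¹ := by
        refine eq_inv_of_mul_eq_one_right ?_
        rw [← hdr.mul_pow, show d * r = t by rw [hr]; group, ht64]
      rw [h3]
      exact ((hKd d hd b hb).pow_left 64).inv_left.eq.symm
    have h3 : r ∈ centralizer ((D.K : Subgroup G) : Set G) :=
      mem_of_pow_mem ((Nat.Coprime.pow_left 6 ((Nat.prime_two.coprime_iff_not_dvd).2 ho)).symm) h1 h2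
    refine mem_centralizer_iff.2 fun b hb => ?_
    rw [show (t : G) = d * r by rw [hr]; group]
    exact ((hKd d hd b hb).mul_left (mem_centralizer_iff.1 h3 b hb).symm).eq.symm
  have hT0c : 32 ≤ Nat.card T0 := by
    let s : D.T →* ℤˣ := Equiv.Perm.sign.comp τ
    have hker : T0 = s.ker := by
      ext t
      exact ⟨fun h => (Subgroup.mem_inf.1 h).2, fun h => Subgroup.mem_inf.2 ⟨hτM t, h⟩⟩
    have h := s.ker.card_mul_index
    rw [Subgroup.index_ker, D.hT] at h
    have h2 : Nat.card s.range ≤ 2 := (Finite.card_subtype_le _).trans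
      (by rw [Nat.card_eq_fintype_card, Fintype.card_units_int])
    rw [hker]
    nlinarith
  set C2 : Subgroup G := C1.map (MulAut.conj g).toMonoidHom with hC2
  have hC2T : C2 ≤ D.T := by
    rintro _ ⟨a, ha, rfl⟩
    exact hg a (Subgroup.mem_inf.1 ha).1
  have hC2L : ∀ c ∈ C2, ∀ l ∈ L, c * l = l * c := by
    rintro _ ⟨a, ha, rfl⟩ _ ⟨b, hb, rfl⟩
    show g * a * g⁻¹ * (g * b * g⁻¹) = g * b * g⁻¹ * (g * a * g⁻¹)
    rw [show g * a * g⁻¹ * (g * b * g⁻¹) = g * (a * b) * g⁻¹ by group,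
      ← mem_centralizer_iff.1 (Subgroup.mem_inf.1 ha).2 b hb]
    group
  have hC1c : 32 ≤ Nat.card C1 := by
    refine hT0c.trans ?_
    rw [← card_map_of_injective (f := D.T.subtype) (K := T0) D.T.subtype_injective]
    refine card_le_of_le ?_
    rintro _ ⟨t, ht, rfl⟩
    exact hT0C t ht
  set A : Subgroup (Perm (Sylow 7 H)) := (C2.subgroupOf D.T).map τ with hA
  have hA8 : 8 ≤ Nat.card A := by
    let f : C2.subgroupOf D.T →* A := τ.subgroupMap (C2.subgroupOf D.T)
    have h := f.ker.card_mul_index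
    rw [Subgroup.index_ker, MonoidHom.range_eq_top.2 (τ.subgroupMap_surjective _), Subgroup.card_top,
      Nat.card_congr (subgroupOfEquivOfLe hC2T).toEquiv, show Nat.card C2 = Nat.card C1 from card_map_of_injective (MulAut.conj g).injective] at h
    have hk4 : Nat.card f.ker ≤ 4 := by
      rw [← D.hK]
      refine Nat.card_le_card_of_injective (fun k => (⟨((k.1 : D.T) : G), (hτker k.1).1
        (congrArg Subtype.val k.2)⟩ : D.K)) fun a b hab => Subtype.ext (Subtype.ext (Subtype.ext ?_))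
      exact congrArg (fun q : D.K => (q : G)) hab
    nlinarith
  have hAM : A ≤ M := by
    rintro _ ⟨t, -, rfl⟩; exact hτM t
  set TB : Subgroup (Perm (Sylow 7 H)) := τ.range
  have hTB : Nat.card TB = 16 := by
    have h := τ.ker.card_mul_index
    rw [Subgroup.index_ker, D.hT] at h
    have hk : Nat.card τ.ker = 4 := by
      rw [← D.hK]
      refine Nat.card_congr ⟨fun k => ⟨((k : D.T) : G), (hτker k).1 k.2⟩,
        fun a => ⟨⟨a, hKT a.2⟩, (hτker _).2 a.2⟩, fun k => rfl, fun a => rfl⟩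
    rw [hk] at h
    exact Nat.eq_of_mul_eq_mul_left (show 0 < 4 by norm_num) (h.trans (by norm_num))
  set T1 : Subgroup (Perm (Sylow 7 H)) := TB ⊓ M0 with hT1
  have hT18 : Nat.card T1 = 8 := by
    have h1 : Nat.card T1 ∣ 168 := h168 ▸ card_dvd_of_le inf_le_right
    have h2 : Nat.card T1 ∣ 16 := hTB ▸ card_dvd_of_le inf_le_left
    have h3 : Nat.card T1 ∣ 8 := (Nat.dvd_gcd h1 h2).trans (by norm_num)
    have h4 : 8 ≤ Nat.card T1 := by
      let s : TB →* ℤˣ := Equiv.Perm.sign.comp TB.subtype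
      have h := s.ker.card_mul_index
      rw [Subgroup.index_ker, hTB] at h
      have h2 : Nat.card s.range ≤ 2 := (Finite.card_subtype_le _).trans
        (by rw [Nat.card_eq_fintype_card, Fintype.card_units_int])
      have h5 : Nat.card s.ker ≤ Nat.card T1 := Nat.card_le_card_of_injective
        (fun k => (⟨((k : TB) : Perm (Sylow 7 H)), Subgroup.mem_inf.2 ⟨(k : TB).2,
          Subgroup.mem_inf.2 ⟨(by obtain ⟨t, ht⟩ := (k : TB).2; rw [← ht]; exact hτM t), k.2⟩⟩⟩ : T1))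
        fun a b hab => Subtype.ext (Subtype.ext (congrArg (fun q : T1 => (q : Perm (Sylow 7 H))) hab))
      nlinarith
    exact le_antisymm (Nat.le_of_dvd (by norm_num) h3) h4
  obtain ⟨eD⟩ : Nonempty (T1 ≃* DihedralGroup 4) := by
    obtain ⟨e⟩ := hdih (T1.subgroupOf M0) (by
      rw [Nat.card_congr (subgroupOfEquivOfLe (inf_le_right : T1 ≤ M0)).toEquiv, hT18])
    exact ⟨(subgroupOfEquivOfLe (inf_le_right : T1 ≤ M0)).symm.trans e⟩
  obtain ⟨hcent, hfour, -, -, -⟩ := dihedral_facts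
  set LB : Subgroup (Perm (Sylow 7 H)) := (L.subgroupOf D.T).map τ with hLB
  have hLB4 : Nat.card LB = 4 := by
    have hinj : Function.Injective (τ.comp (Subgroup.inclusion hLT)) := by
      rw [← MonoidHom.ker_eq_bot_iff, Subgroup.eq_bot_iff_forall]
      intro l hl
      exact Subtype.ext (hLR l l.2 (D.hKR ((hτker _).1 hl)))
    have : LB = (τ.comp (Subgroup.inclusion hLT)).range := by
      rw [hLB, MonoidHom.range_comp, Subgroup.inclusion_range]
    rw [this, ← Nat.card_congr (MonoidHom.ofInjective hinj).toEquiv, hLdef,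
      card_map_of_injective (MulAut.conj g).injective, D.hK]
  have hLBT : LB ≤ TB := by rintro _ ⟨t, -, rfl⟩; exact ⟨t, rfl⟩
  have hAL : ∀ a ∈ A, ∀ l ∈ LB, Commute a l := by
    rintro _ ⟨c, hc, rfl⟩ _ ⟨l, hl, rfl⟩
    exact (show Commute c l from Subtype.ext (hC2L c hc l hl)).map τ
  have hfree' : ∀ B : Subgroup (Perm (Sylow 7 H)), B ≤ T1 → ∀ b ∈ B, b ≠ 1 → ∀ q, b q ≠ q := by
    intro B hB b hb hne q
    obtain ⟨h1, h2⟩ := Subgroup.mem_inf.1 (hB hb)
    obtain ⟨t, rfl⟩ := h1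
    obtain ⟨k, hk⟩ := hτ2 t
    exact hfree _ h2 k hk hne q
  have hodd8 : ∀ j ∈ TB, Equiv.Perm.sign j = -1 → ∀ B : Subgroup (Perm (Sylow 7 H)), B ≤ T1 →
      4 ≤ Nat.card B → (∀ b ∈ B, Commute b j) → orderOf j = 8 := by
    rintro _ ⟨t, rfl⟩ hj B hB hB4 hcomm
    refine EightPerm.orderOf_odd h8X ?_ hj B hB4 (hT18 ▸ card_dvd_of_le hB) (hfree' B hB) hcomm ?_
    · obtain ⟨k, hk⟩ := hτ2 t
      obtain ⟨i, -, hi⟩ := (Nat.dvd_prime_pow Nat.prime_two).1 (orderOf_dvd_of_pow_eq_one hk)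
      exact ⟨i, hi⟩
    · intro hne q
      have h2 : τ t * τ t ∈ M0 := Subgroup.mem_inf.2 ⟨mul_mem (hτM t) (hτM t), MonoidHom.mem_ker.2 (by
        rw [map_mul, hj]; decide)⟩
      obtain ⟨k, hk⟩ := hτ2 (t * t)
      rw [map_mul] at hk
      exact fun h => hfree _ h2 k hk hne q h
  have hATB : A ≤ TB := by rintro _ ⟨t, -, rfl⟩; exact ⟨t, rfl⟩
  have hAM0 : 4 ≤ Nat.card (A ⊓ M0 : Subgroup (Perm (Sylow 7 H))) ∧
      (A ⊓ M0) ≤ T1 := by
    refine ⟨?_, inf_le_inf_right _ hATB⟩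
    have h := card_mul_le_inf (A := A) (B := T1) (T := TB) hATB inf_le_left
    rw [hT18, hTB] at h
    have h' : Nat.card (A ⊓ T1 : Subgroup (Perm (Sylow 7 H))) ≤ Nat.card (A ⊓ M0 : Subgroup (Perm (Sylow 7 H))) :=
      card_le_of_le (inf_le_inf_left A inf_le_right)
    nlinarith
  by_cases hLM : LB ≤ M0
  swap
  · obtain ⟨j, hjL, hjM⟩ := SetLike.not_le_iff_exists.1 hLM
    have hjs : Equiv.Perm.sign j = -1 := (Int.units_eq_one_or _).resolve_left fun h => hjM
      (Subgroup.mem_inf.2 ⟨(by obtain ⟨t, -, rfl⟩ := hjL; exact hτM t), h⟩)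
    have h8 := hodd8 j (hLBT hjL) hjs _ hAM0.2 hAM0.1 fun b hb =>
      hAL b (Subgroup.mem_inf.1 hb).1 j hjL
    have := Subgroup.orderOf_dvd_natCard LB hjL
    rw [h8, hLB4] at this
    norm_num at this
  have hLT1 : LB ≤ T1 := le_inf hLBT hLM
  have hnot : ¬ T1 ≤ A := by
    intro hle
    have hmap : ∀ l : LB, eD ⟨l, hLT1 l.2⟩ = 1 ∨ eD ⟨l, hLT1 l.2⟩ = DihedralGroup.r 2 := by
      intro l
      refine or_iff_not_imp_left.2 fun h1 => hcent _ (fun b => ?_) h1
      obtain ⟨b, rfl⟩ := eD.surjective b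
      rw [← map_mul, ← map_mul]
      exact congrArg eD (Subtype.ext (hAL b (hle b.2) l l.2).eq.symm)
    let f : LB → Bool := fun l => decide (eD ⟨l, hLT1 l.2⟩ = 1)
    have hf : Function.Injective f := by
      intro a b hab
      have h1 : eD ⟨a, hLT1 a.2⟩ = eD ⟨b, hLT1 b.2⟩ := by
        rcases hmap a with ha | ha <;> rcases hmap b with hb | hb <;> simp only [f, ha, hb] at hab ⊢ <;>
          revert hab <;> decide
      exact Subtype.ext (congrArg (fun q : T1 => (q : Perm (Sylow 7 H))) (eD.injective h1))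
    have := Nat.card_le_card_of_injective f hf
    rw [hLB4, Nat.card_eq_fintype_card, Fintype.card_bool] at this
    omega
  obtain ⟨j, hjA, hjM⟩ : ∃ j ∈ A, j ∉ M0 := by
    by_contra hall
    push Not at hall
    exact hnot (eq_of_le_of_card_ge (le_inf hATB hall) (by rw [hT18]; exact hA8)).ge
  have hjs : Equiv.Perm.sign j = -1 := (Int.units_eq_one_or _).resolve_left fun h => hjM
    (Subgroup.mem_inf.2 ⟨hAM hjA, h⟩)
  have hj8 := hodd8 j (hATB hjA) hjs LB hLT1 (by rw [hLB4]) fun b hb => (hAL j hjA b hb).symm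
  have hC1ne : C1 ≠ D.T := by
    intro hEq
    apply hnot
    have hC2eq : C2 = D.T := eq_of_le_of_card_ge hC2T (by
      rw [hC2, card_map_of_injective (MulAut.conj g).injective, hEq])
    rintro _ hy
    obtain ⟨t, rfl⟩ := (Subgroup.mem_inf.1 hy).1
    exact ⟨t, mem_subgroupOf.2 (hC2eq.symm ▸ t.2), rfl⟩
  have hC1eq : C1 = T0.map D.T.subtype := by
    refine (eq_of_le_of_card_ge (by rintro _ ⟨t, ht, rfl⟩; exact hT0C t ht) ?_).symm
    rw [card_map_of_injective D.T.subtype_injective]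
    refine le_trans ?_ hT0c
    have h64 : Nat.card C1 ∣ 2 ^ 6 :=
      (card_dvd_of_le (inf_le_left : C1 ≤ D.T)).trans (by rw [D.hT]; norm_num)
    obtain ⟨n, hn, hcn⟩ := (Nat.dvd_prime_pow Nat.prime_two).1 h64
    have hn6 : n ≠ 6 := fun h => hC1ne (eq_of_le_of_card_ge inf_le_left (by rw [hcn, h, D.hT]; norm_num))
    rw [hcn]
    exact (Nat.pow_le_pow_right two_pos (show n ≤ 5 by omega)).trans (by norm_num)
  obtain ⟨v, hvC, hvj⟩ := hjA
  obtain ⟨a, haC, hav⟩ := (mem_subgroupOf.1 hvC : (v : G) ∈ C2)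
  have hav' : g * a * g⁻¹ = v := hav
  rw [hC1eq] at haC
  obtain ⟨ta, hta, hta'⟩ := haC
  have hoa : orderOf (ta : G) = orderOf (v : G) := by
    rw [← hav', show g * a * g⁻¹ = MulAut.conj g a by simp, MulEquiv.orderOf_eq]
    exact congrArg orderOf hta'
  obtain ⟨n, -, hvn⟩ := (Nat.dvd_prime_pow Nat.prime_two).1
    ((Subgroup.orderOf_dvd_natCard D.T v.2).trans (dvd_of_eq (D.hT.trans (by norm_num))) :
      orderOf (v : G) ∣ 2 ^ 6)
  have hn3 : 3 ≤ n := by
    by_contra hlt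
    have h4 : (v : G) ^ 4 = 1 := orderOf_dvd_iff_pow_eq_one.1
      (by rw [hvn]; exact (pow_dvd_pow 2 (show n ≤ 2 by omega)).trans (by norm_num))
    have h4' : j ^ 4 = 1 := by
      rw [← hvj, ← map_pow, show v ^ 4 = 1 from Subtype.ext (by rw [SubmonoidClass.coe_pow]; exact h4), map_one]
    have := orderOf_dvd_of_pow_eq_one h4'
    rw [hj8] at this
    norm_num at this
  have hK4 : ∀ k ∈ D.K, k ^ 4 = 1 := fun k hk => orderOf_dvd_iff_pow_eq_one.1
    (D.hK ▸ Subgroup.orderOf_dvd_natCard D.K hk)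
  have hta1 : τ ta ∈ T1 := Subgroup.mem_inf.2 ⟨⟨ta, rfl⟩, hta⟩
  have hj2T : j * j ∈ T1 := Subgroup.mem_inf.2 ⟨mul_mem ⟨v, hvj⟩ ⟨v, hvj⟩, Subgroup.mem_inf.2
    ⟨mul_mem (hvj ▸ hτM v) (hvj ▸ hτM v), MonoidHom.mem_ker.2 (by rw [map_mul, hjs]; decide)⟩⟩
  have hj2ne : j * j * (j * j) ≠ 1 := fun h => by
    have h4 : j ^ 4 = 1 := by
      rw [show j ^ 4 = j * j * (j * j) by simp [pow_succ, mul_assoc]]; exact h
    have := orderOf_dvd_of_pow_eq_one h4
    rw [hj8] at this
    norm_num at this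
  by_cases hsq : τ ta * τ ta = 1
  swap
  · -- elements of order four
    have e1 := hfour (eD ⟨_, hta1⟩) (fun h => hsq (congrArg Subtype.val (eD.injective
      (((map_mul eD _ _).trans h).trans (map_one eD).symm))))
    have e2 := hfour (eD ⟨_, hj2T⟩) (fun h => hj2ne (congrArg Subtype.val (eD.injective
      (((map_mul eD _ _).trans h).trans (map_one eD).symm))))
    have hr13 : ∀ p q : DihedralGroup 4, (p = DihedralGroup.r 1 ∨ p = DihedralGroup.r 3) →
        (q = DihedralGroup.r 1 ∨ q = DihedralGroup.r 3) → p = q ∨ p = q⁻¹ := by decide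
    have hcase : τ ta = j * j ∨ τ ta = (j * j)⁻¹ := by
      rcases hr13 _ _ e1 e2 with h | h
      · exact Or.inl (congrArg Subtype.val (eD.injective h))
      · rw [← map_inv] at h
        exact Or.inr (congrArg Subtype.val (eD.injective h))
    have hv2 : v * v ∈ T0 := by
      show τ (v * v) ∈ M0
      rw [map_mul, hvj]
      exact (Subgroup.mem_inf.1 hj2T).2
    have key : ∀ q : D.T, τ ta = τ q → q ∈ T0 → (ta : G) ^ 4 = (q : G) ^ 4 := by
      intro q hq hq0
      have hk : ((q⁻¹ * ta : D.T) : G) ∈ D.K := (hτker _).1 (by rw [map_mul, map_inv, hq, inv_mul_cancel])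
      set k := ((q⁻¹ * ta : D.T) : G) with hkdef
      have htaq : (ta : G) = (q : G) * k := by
        rw [hkdef, Subgroup.coe_mul, InvMemClass.coe_inv]; group
      have hc : Commute (q : G) k :=
        (mem_centralizer_iff.1 (Subgroup.mem_inf.1 (hT0C q hq0)).2 k hk).symm
      rw [htaq, hc.mul_pow, hK4 k hk, mul_one]
    have h4a : orderOf ((ta : G) ^ 4) = 2 ^ (n - 2) := by
      rw [orderOf_pow' _ (by norm_num), hoa, hvn, show (4 : ℕ) = 2 ^ 2 by norm_num,
        Nat.gcd_eq_right (pow_dvd_pow 2 (by omega)), Nat.pow_div (by omega) two_pos]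
    have h8v : orderOf ((v : G) ^ 8) = 2 ^ (n - 3) := by
      rw [orderOf_pow' _ (by norm_num), hvn, show (8 : ℕ) = 2 ^ 3 by norm_num,
        Nat.gcd_eq_right (pow_dvd_pow 2 (by omega)), Nat.pow_div (by omega) two_pos]
    have hne : 2 ^ (n - 2) ≠ 2 ^ (n - 3) := fun h => by
      have := Nat.pow_right_injective (le_refl 2) h; omega
    rcases hcase with h | h
    · have h1 := key (v * v) (by rw [h, map_mul, hvj]) hv2
      rw [Subgroup.coe_mul, ← sq, ← pow_mul] at h1
      rw [h1, h8v] at h4a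
      exact hne h4a.symm
    · have h1 := key (v * v)⁻¹ (by rw [h, map_inv, map_mul, hvj]) (inv_mem hv2)
      rw [InvMemClass.coe_inv, Subgroup.coe_mul, ← sq, inv_pow, ← pow_mul] at h1
      rw [h1, orderOf_inv, h8v] at h4a
      exact hne h4a.symm
  -- an involution of the image
  have ha2K : ((ta * ta : D.T) : G) ∈ D.K := (hτker _).1 (by rw [map_mul, hsq])
  have hta8 : (ta : G) ^ 8 = 1 := by
    have := hK4 _ ha2K
    rw [Subgroup.coe_mul, ← sq, ← pow_mul] at this
    exact this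
  have hta4 : (ta : G) ^ 4 ≠ 1 := fun h => by
    have := orderOf_dvd_of_pow_eq_one h
    rw [hoa, hvn, show (4 : ℕ) = 2 ^ 2 by norm_num, Nat.pow_dvd_pow_iff_le_right (by norm_num)] at this
    omega
  have hne1 : τ ta ≠ 1 := fun h => hta4 (hK4 _ ((hτker ta).1 h))
  obtain ⟨y, hy⟩ := exists_prime_orderOf_dvd_card' (G := L) 2 (by
    rw [hLdef, card_map_of_injective (MulAut.conj g).injective, D.hK]; norm_num)
  have hyG : orderOf (y : G) = 2 := by rw [Subgroup.orderOf_coe, hy]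
  set yT : D.T := ⟨y, hLT y.2⟩
  have hyT2 : orderOf (τ yT) = 2 := by
    refine orderOf_eq_prime ?_ fun h => ?_
    · rw [← map_pow, show yT ^ 2 = 1 from Subtype.ext (by
        show (y : G) ^ 2 = 1; rw [← hyG, pow_orderOf_eq_one]), map_one]
    · have h1 := hLR _ y.2 (D.hKR ((hτker yT).1 h))
      rw [h1, orderOf_one] at hyG; norm_num at hyG
  have hyM0 : τ yT ∈ M0 := hLM ⟨yT, y.2, rfl⟩
  obtain ⟨m, hm⟩ := isConj_iff.1 (hconj ⟨τ ta, hta⟩ ⟨τ yT, hyM0⟩
    (orderOf_eq_prime (Subtype.ext (by show τ ta ^ 2 = 1; rw [sq, hsq])) fun h =>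
      hne1 (congrArg Subtype.val h))
    (by rw [← Subgroup.orderOf_coe]; exact hyT2))
  obtain ⟨h, hhD, hhm⟩ := hsurj m m.2
  set a' := h * (ta : G) * h⁻¹ with ha'
  have hhH : h ∈ H := gen7_le H hhD
  have ha'H : a' ∈ H := mul_mem (mul_mem hhH (D.hTH ta.2)) (inv_mem hhH)
  set Y : Subgroup G :=
    ((zpowers (τ yT)).comap (act7 H)).map H.subtype ⊓ centralizer ((D.K : Subgroup G) : Set G) with hY
  have ha'Y : a' ∈ Y := by
    refine Subgroup.mem_inf.2 ⟨⟨⟨a', ha'H⟩, ?_, rfl⟩, ?_⟩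
    · have hval := congrArg Subtype.val hm
      simp only [Subgroup.coe_mul, InvMemClass.coe_inv] at hval
      show act7 H ⟨a', ha'H⟩ ∈ zpowers (τ yT)
      rw [show (⟨a', ha'H⟩ : H) = (⟨h, hhH⟩ : H) * Subgroup.inclusion D.hTH ta * (⟨h, hhH⟩ : H)⁻¹ from rfl,
        map_mul, map_mul, map_inv, hhm, show act7 H (Subgroup.inclusion D.hTH ta) = τ ta from rfl, hval]
      exact mem_zpowers _
    · refine mem_centralizer_iff.2 fun b hb => ?_
      have h1 : Commute h b := hKd h hhD b hb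
      have h2 : Commute (ta : G) b :=
        (mem_centralizer_iff.1 (Subgroup.mem_inf.1 (hT0C ta hta)).2 b hb).symm
      exact ((h1.mul_left h2).mul_left h1.inv_left).eq.symm
  haveI : IsMulCommutative D.K := IsPGroup.isMulCommutative_of_card_eq_prime_sq (p := 2) (by rw [D.hK]; norm_num)
  let f : D.K × zpowers (y : G) →* G := MonoidHom.noncommCoprod D.K.subtype (zpowers (y : G)).subtype
    fun k l => hcommKL k k.2 l (zpowers_le.2 y.2 l.2)
  have hfinj : Function.Injective f := by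
    rw [← MonoidHom.ker_eq_bot_iff, Subgroup.eq_bot_iff_forall]
    rintro ⟨k, l⟩ hkl
    have hkl' : (k : G) * (l : G) = 1 := hkl
    have hk : (k : G) ∈ D.K ⊓ L := Subgroup.mem_inf.2 ⟨k.2, by
      rw [eq_inv_of_mul_eq_one_left hkl']
      exact inv_mem (zpowers_le.2 y.2 l.2)⟩
    rw [hKL, Subgroup.mem_bot] at hk
    rw [hk, one_mul] at hkl'
    exact Prod.ext (Subtype.ext hk) (Subtype.ext hkl')
  have hWY : f.range ≤ Y := by
    rintro _ ⟨⟨k, l⟩, rfl⟩
    have hk' : (k : G) ∈ H := D.hTH (hKT k.2)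
    have hl' : (l : G) ∈ H := D.hTH (hLT (zpowers_le.2 y.2 l.2))
    refine Subgroup.mem_inf.2 ⟨⟨⟨(k : G) * l, mul_mem hk' hl'⟩, ?_, rfl⟩, ?_⟩
    · show act7 H (⟨(k : G), hk'⟩ * ⟨(l : G), hl'⟩) ∈ zpowers (τ yT)
      rw [map_mul, (mem_ker7 hk').1 (D.hKR k.2), one_mul]
      obtain ⟨i, hi⟩ := mem_zpowers_iff.1 l.2
      refine mem_zpowers_iff.2 ⟨i, ?_⟩
      rw [show τ yT = act7 H ⟨y, D.hTH (hLT y.2)⟩ from rfl, ← map_zpow]
      exact congrArg _ (Subtype.ext (by rw [SubgroupClass.coe_zpow]; exact hi))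
    · refine mem_centralizer_iff.2 fun b hb => ?_
      exact ((Commute.mul_right (show Commute b (k : G) from mem_centralizer_iff.1 (le_centralizer D.K k.2) b hb)
        (hcommKL b hb l (zpowers_le.2 y.2 l.2)))).eq
  have hY16 : ¬ 2 ^ (3 + 1) ∣ Nat.card Y := by
    intro h16
    have h1 := h16.trans (card_dvd_of_le (inf_le_left : Y ≤ _))
    rw [card_map_of_injective H.subtype_injective] at h1
    set Z := (zpowers (τ yT)).comap (act7 H)
    let ψ : Z →* Perm (Sylow 7 H) := (act7 H).comp Z.subtype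
    have h2 := ψ.ker.card_mul_index
    rw [Subgroup.index_ker] at h2
    rw [← h2] at h1
    have hr : Nat.card ψ.range ∣ 2 := by
      refine (card_dvd_of_le (show ψ.range ≤ zpowers (τ yT) from ?_)).trans ?_
      · rintro _ ⟨z', rfl⟩; exact z'.2
      · rw [Nat.card_zpowers, hyT2]
    have hk : Nat.card ψ.ker ∣ Nat.card (ker7 H) := by
      rw [← card_map_of_injective (f := H.subtype.comp Z.subtype) (K := ψ.ker)
        (H.subtype_injective.comp Z.subtype_injective)]
      refine card_dvd_of_le ?_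
      rintro _ ⟨z', hz', rfl⟩
      exact (mem_ker7 (z' : H).2).2 hz'
    have h3 : 2 ^ 3 * 2 ∣ Nat.card (ker7 H) * 2 :=
      dvd_trans (dvd_of_eq (by norm_num)) (h1.trans (Nat.mul_dvd_mul hk hr))
    exact D.hR (dvd_trans (by norm_num) (Nat.dvd_of_mul_dvd_mul_right two_pos h3))
  refine hta4 ?_
  have h4 : a' ^ 4 = 1 := pow_eq_one_of_sylow (W := f.range) (a := 3) hWY (by
      rw [← Nat.card_congr (MonoidHom.ofInjective hfinj).toEquiv, Nat.card_prod, D.hK, Nat.card_zpowers, hyG]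
      norm_num) hY16 (fun w hw => by
      obtain ⟨⟨k, l⟩, rfl⟩ := hw
      rw [← map_pow]
      have hk : k ^ 4 = 1 := Subtype.ext (by rw [SubmonoidClass.coe_pow]; exact hK4 _ k.2)
      have hl : l ^ 4 = 1 := by
        have h := _root_.orderOf_dvd_natCard l
        rw [Nat.card_zpowers, hyG] at h
        exact orderOf_dvd_iff_pow_eq_one.1 (h.trans (by norm_num))
      rw [Prod.pow_mk, hk, hl]
      exact map_one f) ha'Y (i := 3) (by rw [ha', conj_pow, show (2 : ℕ) ^ 3 = 8 by norm_num, hta8]; group)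
  rw [ha', conj_pow] at h4
  exact conj_eq_one_iff.1 h4

end CfsgLib.MTwentyTwoUnique.FromOrder
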