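import Cfsg.Agent.Lib.MTwentyTwoUnique.FromOrder.SevenShared
import Mathlib

/-!
A simple group of order 443520: the automiser of order three at 7 with an even centraliser.
-/

set_option autoImplicit false
set_option linter.style.haveILetI false
set_option linter.unusedSectionVars false

noncomputable section

open scoped Classical

namespace CfsgLib.MTwentyTwoUnique.FromOrder

open Equiv Subgroup CfsgLib.InvolChar CfsgLib.SmallGroups CfsgLib.SmallSimple CfsgLib.Blocks.PrimeSylow Cfsg

/-- Involutions and Sylow 2-subgroups of the simple group of order 168. -/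
theorem simple168_facts {M : Type*} [Group M] [Finite M] [IsSimpleGroup M] (h : Nat.card M = 168) :
    (∀ s t : M, orderOf s = 2 → orderOf t = 2 → IsConj s t) ∧
      ∀ T : Subgroup M, Nat.card T = 8 → Nonempty (T ≃* DihedralGroup 4) := by
  obtain ⟨C⟩ := Model168.exists_coding h
  haveI : Fact (Nat.Prime 2) := ⟨Nat.prime_two⟩
  refine ⟨fun s t hs ht => C.isConj_of_model
    (P := fun c => Model168.pw c 2 = Model168.one ∧ c ≠ Model168.one)
    (fun c hc hP => Model168.conj2 c hc hP.1 hP.2) Model168.list_facts.2.1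
    ((C.orderOf_prime_iff s Nat.prime_two).mp hs) ((C.orderOf_prime_iff t Nat.prime_two).mp ht),
    fun T hT => ?_⟩
  obtain ⟨T0, _, _, _, _, z0, -, -, -, -, -, -, hz2, hC0, -, -, -, ⟨e⟩, -⟩ := Model168.exists_named C
  obtain ⟨S, hS⟩ := (IsPGroup.of_card (n := 3) (by rw [hT]; norm_num) : IsPGroup 2 T).exists_le_sylow
  have hTS : T = (S : Subgroup M) :=
    eq_of_le_of_card_ge hS (by rw [hT, Model168.card_sylow_two h S])
  obtain ⟨g, hg⟩ := Model168.exists_conj_dih C h hz2 hC0 S
  exact ⟨((MulEquiv.subgroupCongr (hTS.trans hg)).trans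
    (T0.equivMapOfInjective _ (MulAut.conj g).injective).symm).trans e⟩

variable {G : Type*} [Group G] [Fintype G]

/-- The centraliser of the chosen involution, for an automiser of order three. -/
structure Three [Fact (Nat.Prime 7)] (P : Sylow 7 G) (u : ℕ) where
  /-- the involution -/
  z : G
  /-- the Sylow 2-subgroup of `C(P)` -/
  K : Subgroup G
  /-- a Sylow 2-subgroup of the centraliser of `z` -/
  T : Subgroup G
  card_N : Nat.card (normalizer ((P : Subgroup G) : Set G)) = 7 * (3 * u)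
  card_C : Nat.card (centralizer ((P : Subgroup G) : Set G)) = 7 * u
  hu : u = 8 ∨ u = 120
  hz : orderOf z = 2
  hzK : z ∈ K
  hKC : K ≤ centralizer ((P : Subgroup G) : Set G)
  hK : Nat.card K = 8
  hKz : ∀ x ∈ K, x * z = z * x
  h8 : Nat.card (Sylow 7 (centralizer ({z} : Set G))) = 8
  hKR : K ≤ ker7 (centralizer ({z} : Set G))
  hR : ¬ 16 ∣ Nat.card (ker7 (centralizer ({z} : Set G)))
  hM : Nat.card (act7 (centralizer ({z} : Set G))).range = 56 ∨
    Nat.card (act7 (centralizer ({z} : Set G))).range = 168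
  hTH : T ≤ centralizer ({z} : Set G)
  hT : Nat.card T = 64
  hH : ¬ 128 ∣ Nat.card (centralizer ({z} : Set G))
  hKT : K ≤ T

variable [Fact (Nat.Prime 7)] (P : Sylow 7 G)

theorem exists_three (hG : SG G) {u : ℕ} (hu : u = 8 ∨ u = 120)
    (hN : Nat.card (normalizer ((P : Subgroup G) : Set G)) = 7 * (3 * u))
    (hC : Nat.card (centralizer ((P : Subgroup G) : Set G)) = 7 * u) : Nonempty (Three P u) := by
  haveI := hG.simple
  haveI : Fact (Nat.Prime 2) := ⟨Nat.prime_two⟩
  set C := centralizer ((P : Subgroup G) : Set G) with hCdef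
  obtain ⟨K0⟩ : Nonempty (Sylow 2 C) := inferInstance
  set K : Subgroup G := (K0 : Subgroup C).map C.subtype
  have hK : Nat.card K = 8 := by
    rw [card_map_of_injective C.subtype_injective]
    rcases hu with rfl | rfl
    · simpa using card_sylow_eq (show Nat.card C = 2 ^ 3 * 7 by rw [hC]; norm_num) (by norm_num) K0
    · simpa using card_sylow_eq (show Nat.card C = 2 ^ 3 * 105 by rw [hC]; norm_num) (by norm_num) K0
  have hKC : K ≤ C := map_subtype_le _
  have hKp : IsPGroup 2 K := IsPGroup.of_card (n := 3) (by rw [hK]; norm_num)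
  obtain ⟨z, hzK, hz, hKz⟩ := exists_central_in hKp le_rfl (fun h => by
    rw [h, Subgroup.card_bot] at hK; norm_num at hK) fun s hs d hd => mul_mem (mul_mem hs hd) (inv_mem hs)
  have hz1 : z ≠ 1 := fun h => by rw [h, orderOf_one] at hz; norm_num at hz
  have hzz : z * z = 1 := by rw [← sq, ← hz, pow_orderOf_eq_one]
  have hzC : z ∈ C := hKC hzK
  set H := centralizer ({z} : Set G)
  have hPH := sylow_le_centralizer P hzC
  obtain ⟨F, j, hF, hF7, hFj, hj, hH⟩ := cent_seven_facts P hG hz1 hzC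
  have hKH : K ≤ H := fun x hx => mem_centralizer_singleton_iff.2 (hKz x hx)
  have h8j : 8 ∣ j := by
    have h := card_dvd_of_le (le_inf (hKC.trans (centralizer_le_normalizer _)) hKH)
    rw [hK, hj] at h
    exact (by norm_num : Nat.Coprime 8 7).dvd_of_dvd_mul_left h
  have hju : j ∣ 3 * u := by
    have h := card_dvd_of_le (inf_le_left : normalizer ((P : Subgroup G) : Set G) ⊓ H ≤ _)
    rw [hN, hj] at h
    exact Nat.dvd_of_mul_dvd_mul_left (by norm_num) h
  have hj360 : j ∣ [8, 9, 5].prod := hju.trans (by rcases hu with rfl | rfl <;> norm_num)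
  have hk : Nat.card (Sylow 7 G) * (3 * u) = 63360 := by
    have h := card_sylow_mul_card_normalizer P
    rw [hN, hG.card, mul_left_comm] at h
    omega
  have hF4 : F % 4 = 0 := by
    have h1 := local_count P (r := 3) (u := u) hN hC hz hzC (by norm_num)
    rw [hF] at h1
    have h2 := SylowFixed.four_dvd_moved (p := 7) hG.not_comm hzz
    have hle : SylowFixed.fixCard 7 z ≤ Nat.card (Sylow 7 G) := Finite.card_subtype_le _
    rw [← h1] at h2 hle
    have hk4 : Nat.card (Sylow 7 G) % 4 = 0 := by rcases hu with rfl | rfl <;> omega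
    omega
  have hF8 : F = 8 := by
    by_contra hne
    have key : ∀ a ∈ dvs [128, 9, 5], ∀ b ∈ dvs [8, 9, 5], 8 ∣ b → a % 7 = 1 → a % 4 = 0 →
        a * b ∣ 5760 → a = 8 ∨ a * (7 * b) ∈ [2016, 6720, 20160, 10080] := by decide +kernel
    have hmem := (key F (mem_dvs _ (by simp) ((dvd_mul_right F _).trans hFj)) j
      (mem_dvs _ (by simp) hj360) h8j hF7 hF4 hFj).resolve_left hne
    obtain ⟨hrel, -⟩ := relIndex_and_reg P (card_seven P hG) hN hC
    obtain ⟨B⟩ := exists_pb P (card_seven P hG) 3 hrel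
    exact B.false_of_deadOdd hG (by norm_num) (by norm_num) hrel (by norm_num) dead_seven_three
      (fun χ _ => okEleven_of hG χ) hzz hz1 hzC (by rw [hH]; exact hmem)
  rw [hF8] at hF hH
  obtain ⟨d, hd, hM, hNH, hHc⟩ := exists_index P hG hPH hF
  have hjd : j = d * Nat.card (ker7 H) := by
    rw [hj] at hNH
    exact Nat.eq_of_mul_eq_mul_left (by norm_num) hNH
  have hKR : K ≤ ker7 H := fun x hx => (mem_ker7_iff P hG hPH hF).2 ⟨hKH hx, hKC hx, fun h => by
    have h1 := h.trans (Subgroup.orderOf_dvd_natCard K hx)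
    rw [hK] at h1
    norm_num at h1⟩
  have hj16 : ¬ 16 ∣ j := fun h => by
    have := h.trans hju
    rcases hu with rfl | rfl <;> norm_num at this
  have h8R : 8 ∣ Nat.card (ker7 H) := hK ▸ card_dvd_of_le hKR
  have hdodd : d % 2 = 1 := by
    by_contra hd2
    exact hj16 (hjd ▸ (Nat.mul_dvd_mul (show 2 ∣ d by omega) h8R))
  have hd13 : d = 1 ∨ d = 3 := by
    have hle : d ≤ 6 := Nat.le_of_dvd (by norm_num) (Nat.dvd_of_mod_eq_zero hd)
    interval_cases d <;> omega
  have hH128 : ¬ 128 ∣ Nat.card H := by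
    rw [hH]
    intro h
    apply hj16
    obtain ⟨a, ha⟩ := h
    have : 7 * j = 16 * a := by omega
    omega
  have h64 : 64 ∣ Nat.card H := by
    rw [hHc]
    obtain ⟨a, ha⟩ := h8R
    rw [ha]
    exact ⟨7 * d * a, by ring⟩
  obtain ⟨T0, hT0⟩ := (IsPGroup.of_card (n := 3) (by
    rw [Nat.card_congr (subgroupOfEquivOfLe hKH).toEquiv, hK]; norm_num) :
    IsPGroup 2 (K.subgroupOf H)).exists_le_sylow
  have hT : Nat.card (T0 : Subgroup H) = 64 := by
    obtain ⟨a, ha⟩ := h64
    simpa using card_sylow_eq (show Nat.card H = 2 ^ 6 * a by rw [ha]; norm_num)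
      (fun h => hH128 (by rw [ha]; exact (Nat.mul_dvd_mul_left 64 h))) T0
  exact ⟨{
    z := z, K := K, T := (T0 : Subgroup H).map H.subtype
    card_N := hN, card_C := hC, hu := hu, hz := hz, hzK := hzK, hKC := hKC, hK := hK, hKz := hKz
    h8 := hF, hKR := hKR
    hR := fun h => hj16 (h.trans (hjd ▸ dvd_mul_left _ _))
    hM := by rcases hd13 with rfl | rfl <;> [left; right] <;> exact hM
    hTH := map_subtype_le _
    hT := by rw [card_map_of_injective H.subtype_injective, hT]
    hH := hH128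
    hKT := fun x hx => ⟨⟨x, hKH hx⟩, hT0 hx, rfl⟩ }⟩

namespace Three

variable {P} {u : ℕ} (D : Three P u) (hG : SG G)
include D hG

theorem hzC : D.z ∈ centralizer ((P : Subgroup G) : Set G) := D.hKC D.hzK

theorem hPH : (P : Subgroup G) ≤ centralizer ({D.z} : Set G) := sylow_le_centralizer P (D.hzC hG)

theorem hTR : D.T ⊓ ker7 (centralizer ({D.z} : Set G)) = D.K :=
  inf_eq_of_two (a := 3) (b := 6) (by rw [D.hT]; norm_num) D.hKT D.hKR (by rw [D.hK]; norm_num) D.hR

theorem not_dvd_u : ¬ 2 ^ (3 + 1) ∣ 3 * u := by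
  rcases D.hu with h | h <;> rw [h] <;> norm_num

/-- The image has no normal subgroup of order 8. -/
theorem no_normal : ∀ E : Subgroup (act7 (centralizer ({D.z} : Set G))).range, E.Normal →
    Nat.card E = 8 → False := by
  set H := centralizer ({D.z} : Set G) with hHdef
  intro E hEn hE
  set φ := (act7 H).rangeRestrict
  have hP := card_seven P hG
  have hgH : gen P hP ∈ H := D.hPH hG (pw_one P hP ▸ pw_mem P hP 1)
  have hx7 : orderOf (φ ⟨gen P hP, hgH⟩) = 7 := by
    rw [← Subgroup.orderOf_coe]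
    exact orderOf_act7 P hG (D.hPH hG) D.h8
  -- the preimage
  set R : Subgroup G := (E.comap φ).map H.subtype with hRdef
  have hRH : R ≤ H := map_subtype_le _
  have hmemR : ∀ x (hx : x ∈ H), x ∈ R ↔ φ ⟨x, hx⟩ ∈ E := fun x hx =>
    ⟨fun ⟨y, hy, hyx⟩ => by
      obtain rfl : y = ⟨x, hx⟩ := Subtype.ext hyx
      exact hy, fun h => ⟨⟨x, hx⟩, h, rfl⟩⟩
  have hidx : E.index = 7 ∨ E.index = 21 := by
    have h := E.card_mul_index
    rw [hE] at h
    rcases D.hM with e | e <;> rw [e] at h <;> omega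
  have hTR : D.T ≤ R := fun t ht => by
    rw [hmemR t (D.hTH ht)]
    by_contra hc
    set q : (act7 H).range ⧸ E := QuotientGroup.mk' E (φ ⟨t, D.hTH ht⟩)
    have h1 : orderOf q ∣ 64 := by
      refine (orderOf_map_dvd (QuotientGroup.mk' E) _).trans ((orderOf_map_dvd φ _).trans ?_)
      rw [Subgroup.orderOf_mk, ← D.hT]
      exact Subgroup.orderOf_dvd_natCard _ ht
    have h2 : orderOf q ∣ E.index := _root_.orderOf_dvd_natCard q
    have h3 : orderOf q = 1 := by
      refine Nat.eq_one_of_dvd_coprimes ?_ h1 h2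
      rcases hidx with e | e <;> rw [e] <;> norm_num
    exact hc ((QuotientGroup.eq_one_iff _).1 (orderOf_eq_one_iff.1 h3))
  have hR2 : ¬ 2 ^ (6 + 1) ∣ Nat.card R := fun h => D.hH (h.trans (card_dvd_of_le hRH))
  obtain ⟨c, hcR, hc⟩ := exists_mul_normalizing (a := 6) hTR (by rw [D.hT]; norm_num) hR2
    (g := gen P hP) fun x hx => by
      rw [hmemR _ (mul_mem (mul_mem hgH (D.hTH hx)) (inv_mem hgH))]
      have := hEn.conj_mem _ ((hmemR x (D.hTH hx)).1 (hTR hx)) (φ ⟨gen P hP, hgH⟩)
      rw [← map_inv, ← map_mul, ← map_mul] at this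
      exact this
  have hcH : c ∈ H := hRH hcR
  set w := c * gen P hP with hw
  have hwH : w ∈ H := mul_mem hcH hgH
  have h7 : 7 ∣ orderOf w := by
    by_contra h7
    have hq : QuotientGroup.mk' E (φ ⟨w, hwH⟩) = QuotientGroup.mk' E (φ ⟨gen P hP, hgH⟩) := by
      have e : (⟨w, hwH⟩ : H) = ⟨c, hcH⟩ * ⟨gen P hP, hgH⟩ := rfl
      have hc1 : QuotientGroup.mk' E (φ ⟨c, hcH⟩) = 1 :=
        (QuotientGroup.eq_one_iff _).2 ((hmemR c hcH).1 hcR)
      rw [e, map_mul, map_mul, hc1, one_mul]
    have hd1 : orderOf (QuotientGroup.mk' E (φ ⟨gen P hP, hgH⟩)) ∣ orderOf w := by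
      rw [← hq, ← Subgroup.orderOf_mk (H := H) w hwH]
      exact (orderOf_map_dvd _ _).trans (orderOf_map_dvd _ _)
    have hd2 : orderOf (QuotientGroup.mk' E (φ ⟨gen P hP, hgH⟩)) ∣ 7 := by
      have h := orderOf_map_dvd (QuotientGroup.mk' E) (φ ⟨gen P hP, hgH⟩)
      rwa [hx7] at h
    rcases (Nat.dvd_prime (by norm_num)).1 hd2 with e | e
    · have hmem : φ ⟨gen P hP, hgH⟩ ∈ E := (QuotientGroup.eq_one_iff _).1 (orderOf_eq_one_iff.1 e)
      have := Subgroup.orderOf_dvd_natCard E hmem
      rw [hx7, hE] at this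
      norm_num at this
    · exact h7 (e ▸ hd1)
  obtain ⟨n, hn⟩ := h7
  set v := w ^ n with hv
  have hv7 : orderOf v = 7 := by
    have hn0 : n ≠ 0 := fun h0 => by rw [h0, mul_zero] at hn; exact (orderOf_pos w).ne' hn
    rw [hv, orderOf_pow' w hn0, hn, Nat.gcd_mul_left_left,
      Nat.mul_div_cancel _ (Nat.pos_of_ne_zero hn0)]
  obtain ⟨Q, hQv, -⟩ := exists_sylow_zpowers (m := 63360) (by rw [hG.card]) (by norm_num) hv7
  set X := normalizer ((D.T : Subgroup G) : Set G) with hX
  have hwX : w ∈ X := by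
    refine (Subgroup.mem_normalizer_iff).2 fun x => ⟨hc x, fun h => ?_⟩
    have hp : ∀ k : ℕ, ∀ y ∈ D.T, w ^ k * y * (w ^ k)⁻¹ ∈ D.T := by
      intro k
      induction k with
      | zero => intro y hy; simpa using hy
      | succ k ih =>
        intro y hy
        have := hc _ (ih y hy)
        convert this using 1
        rw [pow_succ']
        group
    have h1 := hp (orderOf w - 1) _ h
    have h2 : w ^ (orderOf w - 1) = w⁻¹ := by
      refine eq_inv_of_mul_eq_one_left ?_
      rw [← pow_succ, Nat.sub_add_cancel (orderOf_pos w), pow_orderOf_eq_one]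
    rw [h2] at h1
    show x ∈ D.T
    convert h1 using 1
    group
  have hQH : (Q : Subgroup G) ≤ H := hQv ▸ zpowers_le.2 (pow_mem hwH n)
  have hQX : (Q : Subgroup G) ≤ X := hQv ▸ zpowers_le.2 (pow_mem hwX n)
  have hKQ : D.K ≤ normalizer ((Q : Subgroup G) : Set G) :=
    (D.hKR.trans (ker7_commute P hG (D.hPH hG) D.h8 Q hQH)).trans (centralizer_le_normalizer _)
  have h11 : ¬ 11 ∣ Nat.card X := by
    intro h
    haveI : Fact (Nat.Prime 11) := ⟨by norm_num⟩
    obtain ⟨c', hc'⟩ := exists_prime_orderOf_dvd_card' (G := X) 11 h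
    have hcX : ((c' : G)) ∈ X := c'.2
    have hc11 : orderOf (c' : G) = 11 := by rw [Subgroup.orderOf_coe, hc']
    let act : MulAction (zpowers c') D.T :=
      { smul := fun g t => ⟨((g : X) : G) * t * ((g : X) : G)⁻¹, ((g : X).2 _).1 t.2⟩
        one_smul := fun t => Subtype.ext (by show (1 : G) * t * (1 : G)⁻¹ = t; group)
        mul_smul := fun a b t => Subtype.ext (by
          show ((a : X) : G) * ((b : X) : G) * t * (((a : X) : G) * ((b : X) : G))⁻¹ = _
          show _ = ((a : X) : G) * (((b : X) : G) * t * ((b : X) : G)⁻¹) * ((a : X) : G)⁻¹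
          group) }
    letI := act
    have hp : IsPGroup 11 (zpowers c') :=
      IsPGroup.of_card (n := 1) (by rw [Nat.card_zpowers, hc', pow_one])
    have hmod := hp.card_modEq_card_fixedPoints D.T
    have hfix : MulAction.fixedPoints (zpowers c') D.T = {1} := by
      ext t
      rw [MulAction.mem_fixedPoints, Set.mem_singleton_iff]
      refine ⟨fun ht => Subtype.ext ?_, fun ht g => ?_⟩
      · have h1 : (c' : G) * t * (c' : G)⁻¹ = t := congrArg Subtype.val (ht ⟨c', mem_zpowers c'⟩)
        have h2 : (t : G) ∈ centralizer ({(c' : G)} : Set G) :=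
          mem_centralizer_singleton_iff.2 (mul_inv_eq_iff_eq_mul.1 h1).symm
        have h3 := Subgroup.orderOf_dvd_natCard _ h2
        rw [(eleven hG _ hc11).1] at h3
        have h4 := Subgroup.orderOf_dvd_natCard _ t.2
        rw [D.hT] at h4
        exact orderOf_eq_one_iff.1 (Nat.eq_one_of_dvd_coprimes (by norm_num : Nat.Coprime 11 64) h3 h4)
      · subst ht
        exact Subtype.ext (by show ((g : X) : G) * 1 * ((g : X) : G)⁻¹ = 1; group)
    rw [hfix, Nat.card_coe_set_eq, Set.ncard_singleton, D.hT] at hmod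
    exact absurd hmod (by decide)
  have h128 : 128 ∣ Nat.card X := by
    obtain ⟨S, g, -, hS, hTS, -, hg, hg', -, hSc⟩ := exists_index_two D.hT (card_sylow_two hG)
    refine hS ▸ card_dvd_of_le fun s hs => ?_
    rcases hSc s hs with h | h
    · exact le_normalizer h
    · have hgX : g ∈ X := (Subgroup.mem_normalizer_iff).2 fun x => ⟨hg x, fun hx => by
        have := hg' _ hx
        show x ∈ D.T
        convert this using 1
        group⟩
      have := mul_mem hgX (le_normalizer h)
      rwa [mul_inv_cancel_left] at this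
  have hNQ : Nat.card (normalizer ((Q : Subgroup G) : Set G)) = 7 * (3 * u) := by
    rw [← D.card_N]
    refine Nat.eq_of_mul_eq_mul_left (n := Nat.card (Sylow 7 G)) Nat.card_pos ?_
    rw [card_sylow_mul_card_normalizer Q, card_sylow_mul_card_normalizer P]
  exact no_big_local Q hG (Or.inl rfl) hNQ (D.not_dvd_u hG) hQX h11 hKQ (by rw [D.hK]; norm_num)
    (D.hKT.trans le_normalizer) h128

end Three

end CfsgLib.MTwentyTwoUnique.FromOrder
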