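import Cfsg.Agent.Lib.MTwentyTwoUnique.FromOrder.SevenThree
import Mathlib

/-!
A simple group of order 443520: automiser of order three at 7, the image of order 168.
-/

set_option autoImplicit false
set_option linter.style.haveILetI false
set_option linter.unusedSectionVars false

noncomputable section

open scoped Classical

namespace CfsgLib.MTwentyTwoUnique.FromOrder

open Equiv Subgroup CfsgLib.InvolChar CfsgLib.SmallGroups CfsgLib.SmallSimple CfsgLib.Blocks.PrimeSylow Cfsg

variable {G : Type*} [Group G] [Fintype G] [Fact (Nat.Prime 7)]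

/-- The subgroup generated by the elements of order 7. -/
def gen7 (H : Subgroup G) : Subgroup G := Subgroup.closure {y : G | y ∈ H ∧ orderOf y = 7}

theorem gen7_le (H : Subgroup G) : gen7 H ≤ H := (Subgroup.closure_le _).2 fun _ h => h.1

/-- The facts on the group generated by the elements of order 7, when the image is simple. -/
theorem gen7_facts (P : Sylow 7 G) (hG : SG G) {H : Subgroup G} (hPH : (P : Subgroup G) ≤ H)
    (h8 : Nat.card (Sylow 7 H) = 8) :
    ker7 H ≤ centralizer ((gen7 H : Subgroup G) : Set G) ∧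
      centralizer ((gen7 H : Subgroup G) : Set G) ≤ centralizer ((P : Subgroup G) : Set G) ∧
      ¬ 7 ∣ Nat.card (centralizer ((gen7 H : Subgroup G) : Set G)) ∧
      ∀ N : Subgroup H, N = (gen7 H).subgroupOf H → N.Normal := by
  have hP := card_seven P hG
  have hgH : gen P hP ∈ H := hPH (pw_one P hP ▸ pw_mem P hP 1)
  have hgD : gen P hP ∈ gen7 H := Subgroup.subset_closure ⟨hgH, orderOf_gen P hP⟩
  have hsylow : ∀ y ∈ H, orderOf y = 7 → ∃ Q : Sylow 7 G, (Q : Subgroup G) ≤ H ∧ y ∈ (Q : Subgroup G) := by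
    intro y hy ho
    obtain ⟨Q, hQ, -⟩ := exists_sylow_zpowers (m := 63360) (by rw [hG.card]) (by norm_num) ho
    exact ⟨Q, hQ ▸ zpowers_le.2 hy, hQ ▸ mem_zpowers y⟩
  have h1 : ker7 H ≤ centralizer ((gen7 H : Subgroup G) : Set G) := by
    intro r hr
    rw [gen7, centralizer_closure, mem_centralizer_iff]
    rintro y ⟨hy, ho⟩
    obtain ⟨Q, hQH, hyQ⟩ := hsylow y hy ho
    exact mem_centralizer_iff.1 (ker7_commute P hG hPH h8 Q hQH hr) y hyQ
  have h2 : centralizer ((gen7 H : Subgroup G) : Set G) ≤ centralizer ((P : Subgroup G) : Set G) := by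
    intro c hc
    rw [← zpowers_gen P hP, zpowers_eq_closure, centralizer_closure, mem_centralizer_singleton_iff]
    exact (mem_centralizer_iff.1 hc _ hgD).symm
  refine ⟨h1, h2, fun h7 => ?_, ?_⟩
  · obtain ⟨v, hv⟩ := exists_prime_orderOf_dvd_card' (G := centralizer ((gen7 H : Subgroup G) : Set G)) 7 h7
    have hvo : orderOf (v : G) = 7 := by rw [Subgroup.orderOf_coe, hv]
    have hvP : (v : G) ∈ (P : Subgroup G) :=
      mem_of_pElement_centralizer P (h2 v.2) ⟨1, by rw [hvo, pow_one]⟩
    have hvz : (P : Subgroup G) = zpowers (v : G) := SylowFixed.zpowers_eq_of_mem P hP hvP fun e => by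
      rw [e, orderOf_one] at hvo; norm_num at hvo
    have hall : gen7 H ≤ (P : Subgroup G) := by
      rw [gen7, Subgroup.closure_le]
      rintro y ⟨hy, ho⟩
      refine mem_of_pElement_centralizer P ?_ ⟨1, by rw [ho, pow_one]⟩
      rw [hvz, zpowers_eq_closure, centralizer_closure, mem_centralizer_singleton_iff]
      exact (mem_centralizer_iff.1 v.2 y (Subgroup.subset_closure ⟨hy, ho⟩))
    -- then every Sylow subgroup of `H` is `P`
    haveI : Subsingleton (Sylow 7 H) := ⟨fun A B => by
      have hfix : ∀ Q : Sylow 7 H, Q = P.subtype hPH := fun Q => by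
        refine Sylow.ext (eq_of_le_of_card_ge ?_ ?_)
        · intro u hu
          have hQc : Nat.card (Q : Subgroup H) = 7 := by
            rw [Nat.card_congr (Q.equiv (P.subtype hPH)).toEquiv, Sylow.coe_subtype,
              Nat.card_congr (subgroupOfEquivOfLe hPH).toEquiv, hP]
          have hd := Subgroup.orderOf_dvd_natCard _ hu
          rw [hQc] at hd
          rcases (Nat.dvd_prime (by norm_num)).1 hd with e | e
          · rw [orderOf_eq_one_iff.1 e]; exact one_mem _
          · exact hall (Subgroup.subset_closure ⟨u.2, (orderOf_injective H.subtype H.subtype_injective u).trans e⟩)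
        · rw [Nat.card_congr (Q.equiv (P.subtype hPH)).toEquiv]
      rw [hfix A, hfix B]⟩
    have := Finite.card_le_one_iff_subsingleton.2 this
    omega
  · rintro N rfl
    refine ⟨fun a ha h => ?_⟩
    rw [mem_subgroupOf] at ha ⊢
    have hle : gen7 H ≤ (gen7 H).comap (MulAut.conj (h : G)).toMonoidHom := by
      conv_lhs => rw [gen7]
      rw [Subgroup.closure_le]
      rintro y ⟨hy, ho⟩
      refine Subgroup.subset_closure ⟨mul_mem (mul_mem h.2 hy) (inv_mem h.2), ?_⟩
      show orderOf (MulAut.conj (h : G) y) = 7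
      rw [MulEquiv.orderOf_eq, ho]
    exact hle ha

namespace Three

variable {P : Sylow 7 G} {u : ℕ} (D : Three P u) (hG : SG G)
include D hG

set_option maxHeartbeats 1600000 in
theorem no_simple : ∀ _ : Nat.card (act7 (centralizer ({D.z} : Set G))).range = 168,
    IsSimpleGroup (act7 (centralizer ({D.z} : Set G))).range → False := by
  set H := centralizer ({D.z} : Set G) with hHdef
  intro hcard hs
  haveI := hs
  haveI : Fact (Nat.Prime 2) := ⟨Nat.prime_two⟩
  set φ := (act7 H).rangeRestrict with hφdef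
  have hP := card_seven P hG
  have hPH := D.hPH hG
  have hzH : ∀ h ∈ H, h * D.z = D.z * h := fun h hh => mem_centralizer_singleton_iff.1 hh
  have hker : ∀ x (hx : x ∈ H), x ∈ ker7 H ↔ φ ⟨x, hx⟩ = 1 := fun x hx => by
    rw [mem_ker7 hx]
    exact ⟨fun h => Subtype.ext h, fun h => congrArg Subtype.val h⟩
  obtain ⟨hconj, hdih⟩ := simple168_facts (M := (act7 H).range) hcard
  obtain ⟨S, g, hSp, hS, hTS, hgS, hg, hg', hgg, hSc⟩ := exists_index_two D.hT (card_sylow_two hG)
  have hKT := D.hKT
  have hKR0 : D.T ⊓ ker7 H = D.K := D.hTR hG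
  have hKn : ∀ t ∈ D.T, ∀ a ∈ D.K, t * a * t⁻¹ ∈ D.K := fun t ht a ha => by
    rw [← hKR0]
    exact Subgroup.mem_inf.2 ⟨mul_mem (mul_mem ht (hKT ha)) (inv_mem ht),
      conj_mem_ker7 (D.hTH ht) (D.hKR ha)⟩
  set L : Subgroup G := D.K.map (MulAut.conj g).toMonoidHom with hLdef
  have hLT : L ≤ D.T := by
    rintro _ ⟨a, ha, rfl⟩
    exact hg a (hKT ha)
  have hKL : D.K ⊓ L = ⊥ := by
    by_contra hne
    obtain ⟨k, hk, hk2, hkS⟩ := exists_central_in hSp (inf_le_left.trans (hKT.trans hTS)) hne
      (inf_conj_normalized hg' hgg hSc hKn)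
    have hSk : S ≤ centralizer ({k} : Set G) := fun s hs => mem_centralizer_singleton_iff.2 (hkS s hs)
    exact no_central P hG (Or.inl rfl) D.card_N (D.not_dvd_u hG) (D.hKC.trans (centralizer_le_normalizer _))
      (by rw [D.hK]; norm_num) (fun h => by rw [h, orderOf_one] at hk2; norm_num at hk2)
      (D.hKC (Subgroup.mem_inf.1 hk).1) ((hKT.trans hTS).trans hSk) (hS ▸ card_dvd_of_le hSk)
  have hLn : ∀ t ∈ D.T, ∀ l ∈ L, t * l * t⁻¹ ∈ L := by
    rintro t ht _ ⟨a, ha, rfl⟩
    refine ⟨g⁻¹ * t * g * a * (g⁻¹ * t * g)⁻¹, hKn _ (hg' t ht) a ha, ?_⟩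
    show g * (g⁻¹ * t * g * a * (g⁻¹ * t * g)⁻¹) * g⁻¹ = t * (g * a * g⁻¹) * t⁻¹
    group
  have hcommKL : ∀ a ∈ D.K, ∀ l ∈ L, a * l = l * a := fun a ha l hl => by
    have h : a * l * a⁻¹ * l⁻¹ ∈ D.K ⊓ L := by
      refine Subgroup.mem_inf.2 ⟨?_, mul_mem (hLn a (hKT ha) l hl) (inv_mem hl)⟩
      rw [mul_assoc a l, mul_assoc]
      exact mul_mem ha (hKn l (hLT hl) _ (inv_mem ha))
    rw [hKL, Subgroup.mem_bot, mul_inv_eq_one] at h
    exact mul_inv_eq_iff_eq_mul.1 h
  have hLH : L ≤ H := hLT.trans D.hTH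
  have hLR : ∀ l ∈ L, l ∈ ker7 H → l = 1 := fun l hl hlR => by
    have h : l ∈ D.K ⊓ L := Subgroup.mem_inf.2 ⟨hKR0 ▸ Subgroup.mem_inf.2 ⟨hLT hl, hlR⟩, hl⟩
    rwa [hKL, Subgroup.mem_bot] at h
  -- `K` is dihedral
  set ψ : L →* (act7 H).range := φ.comp (Subgroup.inclusion hLH)
  have hψ : Function.Injective ψ := by
    rw [← MonoidHom.ker_eq_bot_iff, Subgroup.eq_bot_iff_forall]
    exact fun l hl => Subtype.ext (hLR l l.2 ((hker l (hLH l.2)).2 hl))
  have hLcard : Nat.card L = 8 := by rw [card_map_of_injective (MulAut.conj g).injective, D.hK]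
  obtain ⟨eT⟩ := hdih ψ.range (by rw [← Nat.card_congr (MonoidHom.ofInjective hψ).toEquiv, hLcard])
  obtain ⟨e⟩ : Nonempty (D.K ≃* DihedralGroup 4) :=
    ⟨((D.K.equivMapOfInjective _ (MulAut.conj g).injective).trans (MonoidHom.ofInjective hψ)).trans eT⟩
  obtain ⟨hcent, -, -, -, -⟩ := dihedral_facts
  have hz1 : D.z ≠ 1 := fun h => by have := D.hz; rw [h, orderOf_one] at this; norm_num at this
  have hcentral : ∀ a : D.K, (∀ b ∈ D.K, b * (a : G) = a * b) → (a : G) = 1 ∨ (a : G) = D.z := by
    intro a ha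
    rcases eq_or_ne a 1 with rfl | h1
    · exact Or.inl rfl
    right
    have hc : ∀ c : D.K, (∀ b ∈ D.K, b * (c : G) = c * b) → c ≠ 1 → e c = DihedralGroup.r 2 := fun c hc h => by
      refine hcent _ (fun b => ?_) (fun h' => h (e.injective (h'.trans (map_one e).symm)))
      obtain ⟨b, rfl⟩ := e.surjective b
      rw [← map_mul, ← map_mul]
      exact congrArg e (Subtype.ext (hc b b.2).symm)
    have := e.injective ((hc a ha h1).trans
      (hc ⟨D.z, D.hzK⟩ D.hKz (fun h => hz1 (congrArg Subtype.val h))).symm)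
    rw [this]
  set v0 : G := (e.symm (DihedralGroup.r 1) : G) with hv0
  have hv0z : v0 * v0 = D.z := by
    have hne : e.symm (DihedralGroup.r 1) * e.symm (DihedralGroup.r 1) ≠ (1 : D.K) := by
      rw [← map_mul, ← map_one e.symm]
      exact fun h => absurd (e.symm.injective h) (by decide)
    refine (hcentral (e.symm (DihedralGroup.r 1) * e.symm (DihedralGroup.r 1)) fun b hb => ?_).resolve_left
      (fun h => hne (Subtype.ext h))
    have key : ∀ d : DihedralGroup 4, d * (DihedralGroup.r 1 * DihedralGroup.r 1) =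
        DihedralGroup.r 1 * DihedralGroup.r 1 * d := by decide
    have h := congrArg e.symm (key (e ⟨b, hb⟩))
    simp only [map_mul, e.symm_apply_apply] at h
    exact congrArg Subtype.val h
  -- the group generated by the elements of order 7
  obtain ⟨hRCD, hCDC, hCD7, hDn⟩ := gen7_facts P hG hPH D.h8
  set CD := centralizer ((gen7 H : Subgroup G) : Set G) with hCDdef
  have hsurj : ∀ h ∈ H, ∃ d ∈ gen7 H, d⁻¹ * h ∈ ker7 H := by
    intro h hh
    haveI := hDn _ rfl
    have hgH : gen P hP ∈ H := hPH (pw_one P hP ▸ pw_mem P hP 1)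
    have hN := Subgroup.Normal.map (H := (gen7 H).subgroupOf H) inferInstance φ
      (act7 H).rangeRestrict_surjective
    rcases hN.eq_bot_or_eq_top with he | he
    · have hx : φ ⟨gen P hP, hgH⟩ ∈ ((gen7 H).subgroupOf H).map φ :=
        mem_map_of_mem φ (show (⟨gen P hP, hgH⟩ : H) ∈ (gen7 H).subgroupOf H from
          Subgroup.subset_closure ⟨hgH, orderOf_gen P hP⟩)
      rw [he, Subgroup.mem_bot, ← hker _ hgH, mem_ker7_iff P hG hPH D.h8, orderOf_gen] at hx
      exact absurd (dvd_refl 7) hx.2.2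
    · obtain ⟨d, hd, hdh⟩ : φ ⟨h, hh⟩ ∈ ((gen7 H).subgroupOf H).map φ := by rw [he]; exact mem_top _
      refine ⟨d, hd, ?_⟩
      rw [hker _ (mul_mem (inv_mem d.2) hh),
        show (⟨(d : G)⁻¹ * h, mul_mem (inv_mem d.2) hh⟩ : H) = d⁻¹ * ⟨h, hh⟩ from rfl, map_mul, map_inv,
        hdh, inv_mul_cancel]
  have hDR : ∀ d ∈ gen7 H, ∀ r ∈ CD, r * d = d * r := fun d hd r hr =>
    (mem_centralizer_iff.1 hr d hd).symm
  have hRH := ker7_le (G := G) H
  -- regular elements commuting with `K`
  have hC0 : ∀ r ∈ ker7 H, (∀ a ∈ D.K, r * a = a * r) → ∃ o, o % 2 = 1 ∧ (r ^ o = 1 ∨ r ^ o = D.z) := by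
    intro r hr hrK
    obtain ⟨a, o, ho, hn⟩ := Nat.exists_eq_pow_mul_and_not_dvd (orderOf_pos r).ne' 2 (by norm_num)
    refine ⟨o, by omega, ?_⟩
    have hpow : (r ^ o) ^ 2 ^ a = 1 := by rw [← pow_mul, mul_comm, ← hn, pow_orderOf_eq_one]
    have hc : ∀ b ∈ D.K, r ^ o * b = b * r ^ o := fun b hb =>
      ((show Commute r b from hrK b hb).pow_left o).eq
    have hmem := mem_of_two_element (a := 3) D.hKR (by rw [D.hK]; norm_num) D.hR (pow_mem hr o) hpow
      fun b hb => by rw [hc b hb, mul_inv_cancel_right]; exact hb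
    exact hcentral ⟨_, hmem⟩ fun b hb => (hc b hb).symm
  -- the conjugate of `z`
  set z' := g * D.z * g⁻¹ with hz'
  set v := g * v0 * g⁻¹ with hv
  have hvL : v ∈ L := ⟨v0, Subtype.prop _, rfl⟩
  have hz'L : z' ∈ L := ⟨D.z, D.hzK, rfl⟩
  have hCDz : ∀ c ∈ CD, c * z' = z' * c := by
    obtain ⟨d, hd, hr⟩ := hsurj v (hLH hvL)
    set r := d⁻¹ * v with hrdef
    obtain ⟨o, ho, hro⟩ := hC0 r hr fun a ha => by
      have h1 : Commute d a := (hDR d hd a (hRCD (D.hKR ha))).symm
      have h2 : Commute v a := (hcommKL a ha v hvL).symm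
      exact (h1.inv_left.mul_left h2).eq
    have hro2 : (r * r) ^ o = 1 := by
      rw [(Commute.refl r).mul_pow]
      rcases hro with e | e <;> rw [e]
      · rw [one_mul]
      · rw [← sq, ← D.hz, pow_orderOf_eq_one]
    intro c hc
    have hcd : Commute c (d * d) := Commute.mul_right (hDR d hd c hc) (hDR d hd c hc)
    have hrd : Commute r d := hDR d hd r (hRCD hr)
    have hz'r : z' = d * d * (r * r) := by
      have h1 : z' = v * v := by rw [hz', hv, ← hv0z]; group
      have h2 : v = d * r := by rw [hrdef]; group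
      rw [h1, h2, mul_assoc d r, ← mul_assoc r d r, hrd.eq]
      group
    -- conjugation by `z'` is conjugation by `r²`
    have hzz : z' * z' = 1 := by
      rw [hz']
      calc g * D.z * g⁻¹ * (g * D.z * g⁻¹) = g * (D.z * D.z) * g⁻¹ := by group
        _ = 1 := by rw [← sq, ← D.hz, pow_orderOf_eq_one]; group
    have hcr : r * r * c * (r * r)⁻¹ = z' * c * z'⁻¹ := by
      have hrc : r * r * c * (r * r)⁻¹ ∈ CD :=
        mul_mem (mul_mem (mul_mem (hRCD hr) (hRCD hr)) hc) (inv_mem (mul_mem (hRCD hr) (hRCD hr)))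
      have h1 : Commute (r * r * c * (r * r)⁻¹) (d * d) :=
        Commute.mul_right (hDR d hd _ hrc) (hDR d hd _ hrc)
      rw [hz'r]
      calc r * r * c * (r * r)⁻¹ = d * d * (r * r * c * (r * r)⁻¹) * (d * d)⁻¹ := by
            rw [← h1.eq]; group
        _ = _ := by group
    have h4 : Commute ((r * r) * (r * r)) c := by
      refine mul_inv_eq_iff_eq_mul.1 ?_
      have hc' : z' * c * z'⁻¹ ∈ CD := by
        rw [← hcr]
        exact mul_mem (mul_mem (mul_mem (hRCD hr) (hRCD hr)) hc) (inv_mem (mul_mem (hRCD hr) (hRCD hr)))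
      have h1 : Commute (d * d) (z' * c * z'⁻¹) :=
        (Commute.mul_right (hDR d hd _ hc') (hDR d hd _ hc')).symm
      calc r * r * (r * r) * c * (r * r * (r * r))⁻¹ = r * r * (r * r * c * (r * r)⁻¹) * (r * r)⁻¹ := by group
        _ = r * r * (z' * c * z'⁻¹) * (r * r)⁻¹ := by rw [hcr]
        _ = (d * d)⁻¹ * (z' * (z' * c * z'⁻¹) * z'⁻¹) * (d * d) := by rw [hz'r]; group
        _ = (d * d)⁻¹ * c * (d * d) := by
            rw [show z' * (z' * c * z'⁻¹) * z'⁻¹ = (z' * z') * c * (z' * z')⁻¹ by group, hzz]; group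
        _ = c := by rw [mul_assoc, hcd.eq, inv_mul_cancel_left]
    have h2 : Commute (r * r) c := by
      have h5 := h4.pow_left ((o + 1) / 2)
      rwa [← sq (r * r), ← pow_mul, show 2 * ((o + 1) / 2) = o + 1 by omega, pow_succ, hro2, one_mul] at h5
    show Commute c z'
    rw [hz'r]
    exact Commute.mul_right hcd h2.symm
  -- the noncentral involutions
  set w : ZMod 4 → G := fun i => (e.symm (DihedralGroup.sr i) : G) with hwdef
  have hwK : ∀ i, w i ∈ D.K := fun i => Subtype.prop _
  have hw2 : ∀ i, orderOf (w i) = 2 := fun i => by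
    rw [Subgroup.orderOf_coe, MulEquiv.orderOf_eq]
    exact orderOf_eq_prime (by rw [sq]; exact DihedralGroup.sr_mul_self i) (by decide +revert)
  have hwne : ∀ i, w i ≠ D.z := fun i h => by
    have key : ∀ j : ZMod 4, (DihedralGroup.sr j : DihedralGroup 4) * DihedralGroup.r 1 ≠
        DihedralGroup.r 1 * DihedralGroup.sr j := by decide
    apply key i
    have := congrArg e (Subtype.ext ((congrArg (fun x => x * v0) h).trans ((D.hKz v0 (Subtype.prop _)).symm.trans
      (congrArg (fun x => v0 * x) h.symm))) :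
        e.symm (DihedralGroup.sr i) * e.symm (DihedralGroup.r 1) =
          e.symm (DihedralGroup.r 1) * e.symm (DihedralGroup.sr i))
    simpa only [map_mul, e.apply_symm_apply] using this
  have hclass : ∀ i, ∃ c ∈ CD, c * w i * c⁻¹ = D.z := by
    intro i
    have hwC : w i ∈ centralizer ((P : Subgroup G) : Set G) := D.hKC (hwK i)
    -- to the conjugate of `z`
    set l := g * w i * g⁻¹ with hldef
    have hlL : l ∈ L := ⟨w i, hwK i, rfl⟩
    have hord : ∀ x : L, orderOf (x : G) = 2 → orderOf (ψ x) = 2 := fun x hx => by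
      rw [orderOf_injective ψ hψ, ← Subgroup.orderOf_coe, hx]
    have hlo : orderOf l = 2 := by
      rw [hldef, show g * w i * g⁻¹ = MulAut.conj g (w i) by simp, MulEquiv.orderOf_eq, hw2]
    have hz'o : orderOf z' = 2 := by
      rw [hz', show g * D.z * g⁻¹ = MulAut.conj g D.z by simp, MulEquiv.orderOf_eq, D.hz]
    obtain ⟨m, hm⟩ := isConj_iff.1 (hconj _ _ (hord ⟨z', hz'L⟩ hz'o) (hord ⟨l, hlL⟩ hlo))
    obtain ⟨⟨h0, hh0⟩, rfl⟩ := (act7 H).rangeRestrict_surjective m
    obtain ⟨h, hhD, hr0⟩ := hsurj h0 hh0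
    have hhH : h ∈ H := gen7_le H hhD
    have hφh : φ ⟨h, hhH⟩ = φ ⟨h0, hh0⟩ := by
      have h1 := (hker _ (mul_mem (inv_mem hhH) hh0)).1 hr0
      rw [show (⟨h⁻¹ * h0, mul_mem (inv_mem hhH) hh0⟩ : H) = (⟨h, hhH⟩ : H)⁻¹ * ⟨h0, hh0⟩ from rfl,
        map_mul, map_inv, inv_mul_eq_one] at h1
      exact h1
    set r := l⁻¹ * (h * z' * h⁻¹) with hrdef
    have hrH : r ∈ H := mul_mem (inv_mem (hLH hlL)) (mul_mem (mul_mem hhH (hLH hz'L)) (inv_mem hhH))
    have hrR : r ∈ ker7 H := by
      rw [hker r hrH, show (⟨r, hrH⟩ : H) = (⟨l, hLH hlL⟩ : H)⁻¹ * (⟨h, hhH⟩ * ⟨z', hLH hz'L⟩ * ⟨h, hhH⟩⁻¹)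
        from rfl, map_mul, map_inv, map_mul, map_mul, map_inv, hφh, inv_mul_eq_one]
      exact hm.symm
    obtain ⟨o, ho, hro⟩ := hC0 r hrR fun a ha => by
      have h1 : Commute h a := (hDR h hhD a (hRCD (D.hKR ha))).symm
      have h2 : Commute z' a := (hcommKL a ha z' hz'L).symm
      have h3 : Commute l a := (hcommKL a ha l hlL).symm
      exact (h3.inv_left.mul_left ((h1.mul_left h2).mul_left h1.inv_left)).eq
    have hll : l * l = 1 := by rw [← sq, ← hlo, pow_orderOf_eq_one]
    have hlr : l * r = h * z' * h⁻¹ := by rw [hrdef]; group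
    have hlrl : l * r * l = r⁻¹ := by
      refine eq_inv_of_mul_eq_one_left ?_
      calc l * r * l * r = (l * r) * (l * r) := by group
        _ = h * (z' * z') * h⁻¹ := by rw [hlr]; group
        _ = 1 := by rw [← sq, ← hz'o, pow_orderOf_eq_one]; group
    have hwG : IsConj D.z (w i) ∨ IsConj (z' * D.z) (w i) := by
      have hwl : IsConj l (w i) := isConj_iff.2 ⟨g⁻¹, by rw [hldef]; group⟩
      rcases hro with e1 | e1
      · obtain ⟨k, hk⟩ := exists_conj_of_odd hll hlrl ho e1
        left
        refine (isConj_iff.2 ⟨g, rfl⟩ : IsConj D.z z').trans (IsConj.trans ?_ hwl)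
        refine (isConj_iff.2 ⟨h, hlr.symm⟩ : IsConj z' (l * r)).trans (isConj_iff.2 ⟨r ^ k, ?_⟩)
        rw [← hk]; group
      · have hzl : Commute D.z l := (hzH l (hLH hlL)).symm
        have hzr : Commute D.z r := (hzH r hrH).symm
        have hzz : D.z * D.z = 1 := by rw [← sq, ← D.hz, pow_orderOf_eq_one]
        have hlz : l * D.z * (l * D.z) = 1 := by
          rw [mul_assoc, ← mul_assoc D.z, hzl.eq, mul_assoc l, hzz, mul_one, hll]
        obtain ⟨k, hk⟩ := exists_conj_of_odd (l := l * D.z) (r := D.z * r) hlz (by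
          calc l * D.z * (D.z * r) * (l * D.z) = l * (D.z * D.z) * r * l * D.z := by group
            _ = r⁻¹ * D.z := by rw [hzz, mul_one, hlrl]
            _ = (D.z * r)⁻¹ := by rw [mul_inv_rev D.z r, inv_eq_of_mul_eq_one_right hzz]) ho (by
          rw [hzr.mul_pow, e1, ← pow_succ, show o + 1 = 2 * ((o + 1) / 2) by omega, pow_mul, sq, hzz,
            one_pow])
        rw [show l * D.z * (D.z * r) = l * (D.z * D.z) * r by group, hzz, mul_one, hlr] at hk
        right
        set q := (D.z * r) ^ k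
        have hzq : Commute D.z q := ((Commute.refl D.z).mul_right hzr).pow_right k
        have hzh : Commute D.z h := (hzH h hhH).symm
        refine IsConj.trans ?_ hwl
        refine (isConj_iff.2 ⟨h, rfl⟩ : IsConj (z' * D.z) _).trans (isConj_iff.2 ⟨q, ?_⟩)
        calc q * (h * (z' * D.z) * h⁻¹) * q⁻¹ = q * (h * z' * (D.z * h⁻¹)) * q⁻¹ := by group
          _ = q * (h * z' * h⁻¹) * (D.z * q⁻¹) := by rw [hzh.inv_right.eq]; group
          _ = q * (q⁻¹ * (l * D.z) * q) * (q⁻¹ * D.z) := by rw [← hk, hzq.inv_right.eq]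
          _ = l * (D.z * D.z) := by group
          _ = l := by rw [hzz, mul_one]
    rcases hwG with hwz | hwz
    swap
    · -- the product is central in a Sylow subgroup
      exfalso
      have hz'z : z' * D.z = D.z * z' := (hzH z' (hLH hz'L))
      have hST : ∀ s ∈ S, s * (z' * D.z) = z' * D.z * s := by
        have hT' : ∀ t ∈ D.T, Commute t (z' * D.z) := fun t ht => by
          refine Commute.mul_right ?_ (hzH t (D.hTH ht))
          have h1 := hzH _ (D.hTH (hg' t ht))
          show t * z' = z' * t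
          rw [hz']
          calc t * (g * D.z * g⁻¹) = g * (g⁻¹ * t * g * D.z) * g⁻¹ := by group
            _ = g * (D.z * (g⁻¹ * t * g)) * g⁻¹ := by rw [h1]
            _ = g * D.z * g⁻¹ * t := by group
        have hgz : Commute g (z' * D.z) := by
          refine mul_inv_eq_iff_eq_mul.1 ?_
          calc g * (z' * D.z) * g⁻¹ = (g * z' * g⁻¹) * (g * D.z * g⁻¹) := by group
            _ = D.z * z' := by
              rw [← hz', show g * z' * g⁻¹ = g * g * D.z * (g * g)⁻¹ by rw [hz']; group,
                hzH _ (D.hTH hgg), mul_inv_cancel_right]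
            _ = z' * D.z := hz'z.symm
        intro s hs
        rcases hSc s hs with hst | hst
        · exact (hT' s hst).eq
        · have := (hgz.mul_left (hT' _ hst)).eq
          rwa [mul_inv_cancel_left] at this
      obtain ⟨a, ha⟩ := isConj_iff.1 hwz
      have h128 : 128 ∣ Nat.card (centralizer ({w i} : Set G)) := by
        rw [← hS, ← card_map_of_injective (f := (MulAut.conj a).toMonoidHom) (K := S) (MulAut.conj a).injective]
        refine card_dvd_of_le ?_
        rintro _ ⟨s, hs, rfl⟩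
        rw [mem_centralizer_singleton_iff, ← ha]
        show a * s * a⁻¹ * (a * (z' * D.z) * a⁻¹) = a * (z' * D.z) * a⁻¹ * (a * s * a⁻¹)
        calc a * s * a⁻¹ * (a * (z' * D.z) * a⁻¹) = a * (s * (z' * D.z)) * a⁻¹ := by group
          _ = a * (z' * D.z * s) * a⁻¹ := by rw [hST s hs]
          _ = _ := by group
      have hw1 : w i ≠ 1 := fun h => by have := hw2 i; rw [h, orderOf_one] at this; norm_num at this
      obtain ⟨F, j, -, hF, hFj, hj, hH⟩ := cent_seven_facts P hG hw1 hwC
      set N := normalizer ((P : Subgroup G) : Set G)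
      set J := N ⊓ centralizer ({w i} : Set G)
      by_cases h8j : 8 ∣ j
      · have hJ : ¬ 2 ^ (3 + 1) ∣ Nat.card J := fun h => by
          have h' := h.trans (card_dvd_of_le (inf_le_left : J ≤ N))
          rw [D.card_N] at h'
          exact D.not_dvd_u hG ((Nat.Coprime.pow_left _ (by norm_num : Nat.Coprime 2 7)).dvd_of_dvd_mul_left h')
        obtain ⟨T0⟩ : Nonempty (Sylow 2 J) := inferInstance
        obtain ⟨a, ha⟩ := h8j
        refine no_central P hG (Or.inl rfl) D.card_N (D.not_dvd_u hG)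
          (T := (T0 : Subgroup J).map J.subtype) ((map_subtype_le _).trans inf_le_left) ?_ hw1 hwC
          ((map_subtype_le _).trans inf_le_right) h128
        rw [card_map_of_injective J.subtype_injective]
        exact card_sylow_eq (show Nat.card J = 2 ^ 3 * (7 * a) by rw [hj, ha]; ring)
          (fun h => hJ (by rw [hj, ha, pow_succ, show 7 * (8 * a) = 2 ^ 3 * (7 * a) by ring]
                           exact Nat.mul_dvd_mul_left _ h)) T0
      have h4 : 4 ∣ j := by
        have hsub : (Subgroup.closure ({DihedralGroup.r 2, DihedralGroup.sr i} : Set (DihedralGroup 4))) ≤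
            (J.comap D.K.subtype).map e.toMonoidHom := by
          rw [Subgroup.closure_le]
          rintro d (rfl | rfl)
          · refine ⟨⟨D.z, D.hzK⟩, ?_, ?_⟩
            · exact Subgroup.mem_inf.2 ⟨centralizer_le_normalizer _ (D.hzC hG),
                mem_centralizer_singleton_iff.2 (D.hKz _ (hwK i)).symm⟩
            · exact hcent _ (fun b => by
                obtain ⟨b, rfl⟩ := e.surjective b
                show e _ * e b = e b * e _
                rw [← map_mul, ← map_mul]
                exact congrArg e (Subtype.ext (D.hKz b b.2).symm)) fun h => hz1 (congrArg Subtype.val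
                  (e.injective (h.trans (map_one e).symm)))
          · refine ⟨e.symm (DihedralGroup.sr i), ?_, e.apply_symm_apply _⟩
            exact Subgroup.mem_inf.2 ⟨centralizer_le_normalizer _ hwC, mem_centralizer_singleton_iff.2 rfl⟩
        have hc4 : 4 ∣ Nat.card (Subgroup.closure ({DihedralGroup.r 2, DihedralGroup.sr i} :
            Set (DihedralGroup 4))) := by
          set U := Subgroup.closure ({DihedralGroup.r 2, DihedralGroup.sr i} : Set (DihedralGroup 4))
          have h2 : Nat.card U ∣ 8 := by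
            have := card_subgroup_dvd_card U
            rwa [DihedralGroup.nat_card] at this
          have h3 : 3 ≤ Nat.card U := by
            let f : Fin 3 → U := ![1, ⟨DihedralGroup.r 2, Subgroup.subset_closure (Or.inl rfl)⟩,
              ⟨DihedralGroup.sr i, Subgroup.subset_closure (Or.inr rfl)⟩]
            have kd : ∀ j : ZMod 4, (1 : DihedralGroup 4) ≠ DihedralGroup.r 2 ∧
                (1 : DihedralGroup 4) ≠ DihedralGroup.sr j ∧
                (DihedralGroup.r 2 : DihedralGroup 4) ≠ DihedralGroup.sr j := by decide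
            obtain ⟨k1, k2, k3⟩ := kd i
            have hf : Function.Injective f := by
              intro a b hab
              have h' := congrArg Subtype.val hab
              fin_cases a <;> fin_cases b <;> first
                | rfl | exact absurd h' k1 | exact absurd h' k2 | exact absurd h' k3
                | exact absurd h'.symm k1 | exact absurd h'.symm k2 | exact absurd h'.symm k3
            simpa using Nat.card_le_card_of_injective f hf
          obtain ⟨n, hn, hU⟩ := (Nat.dvd_prime_pow Nat.prime_two).1 (show Nat.card U ∣ 2 ^ 3 by simpa using h2)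
          rw [hU] at h3 ⊢
          match n, h3 with
          | 0, h => norm_num at h
          | 1, h => norm_num at h
          | n + 2, _ => exact ⟨2 ^ n, by rw [pow_add]; ring⟩
        have h5 := hc4.trans (card_dvd_of_le hsub)
        rw [card_map_of_injective (f := e.toMonoidHom) e.injective] at h5
        have h6 : Nat.card (J.comap D.K.subtype) ∣ Nat.card J := by
          rw [← card_map_of_injective (f := D.K.subtype) D.K.subtype_injective]
          exact card_dvd_of_le (Subgroup.map_comap_le _ _)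
        have h7 := h5.trans h6
        rw [hj] at h7
        exact (by norm_num : Nat.Coprime 4 7).dvd_of_dvd_mul_left h7
      have h3 : 3 ∣ j := by
        haveI : Fact (Nat.Prime 3) := ⟨by norm_num⟩
        set C := centralizer ((P : Subgroup G) : Set G)
        obtain ⟨a, haN, haC⟩ : ∃ a ∈ N, a ∉ C := by
          by_contra hall
          push Not at hall
          have := card_dvd_of_le (show N ≤ C from hall)
          rw [D.card_N, D.card_C] at this
          have := Nat.le_of_dvd (by rcases D.hu with e | e <;> rw [e] <;> norm_num) this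
          rcases D.hu with e | e <;> rw [e] at this <;> omega
        have haC' : ∀ x ∈ C, a * x * a⁻¹ ∈ C := fun x hx => by
          haveI : (C.subgroupOf N).Normal := by
            rw [← Subgroup.normalizerMonoidHom_ker]; exact MonoidHom.normal_ker _
          exact (Subgroup.Normal.conj_mem (H := C.subgroupOf N) inferInstance
            ⟨x, centralizer_le_normalizer _ hx⟩ hx ⟨a, haN⟩ : _)
        have hC16 : ¬ 2 ^ (3 + 1) ∣ Nat.card C := fun h => by
          rw [D.card_C] at h
          exact D.not_dvd_u hG (dvd_mul_of_dvd_right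
            ((Nat.Coprime.pow_left _ (by norm_num : Nat.Coprime 2 7)).dvd_of_dvd_mul_left h) _)
        obtain ⟨c, hc, hcK⟩ := exists_mul_normalizing (a := 3) D.hKC (by rw [D.hK]; norm_num) hC16
          fun x hx => haC' x (D.hKC hx)
        set b := c * a with hb
        have hbN : b ∈ N := mul_mem (centralizer_le_normalizer _ hc) haN
        have hb3 : 3 ∣ orderOf b := by
          by_contra h3
          refine haC ?_
          have := SylowLocal.mem_centralizer_of_coprime (P : Subgroup G) (k := 3)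
            (dvd_of_eq (by rw [D.card_N, D.card_C]; ring)) hbN
            (((by norm_num : Nat.Prime 3).coprime_iff_not_dvd).2 h3).symm
          have h' := mul_mem (inv_mem hc) this
          rwa [hb, inv_mul_cancel_left] at h'
        obtain ⟨n, hn⟩ := hb3
        set y := b ^ n with hy
        have hy3 : orderOf y = 3 := by
          have hn0 : n ≠ 0 := fun h0 => by rw [h0, mul_zero] at hn; exact (orderOf_pos b).ne' hn
          rw [hy, orderOf_pow' b hn0, hn, Nat.gcd_mul_left_left, Nat.mul_div_cancel _ (Nat.pos_of_ne_zero hn0)]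
        have hbK : ∀ x ∈ D.K, b * x * b⁻¹ ∈ D.K := hcK
        have hyK : ∀ x ∈ D.K, y * x * y⁻¹ ∈ D.K := by
          rw [hy]
          clear_value b
          clear hn hy3 hy y
          induction n with
          | zero => intro x hx; simpa using hx
          | succ n ih =>
            intro x hx
            have := hbK _ (ih x hx)
            convert this using 1
            rw [pow_succ']
            group
        have hyK3 : y ^ 3 = 1 := hy3 ▸ pow_orderOf_eq_one y
        have hyinv : ∀ x ∈ D.K, y⁻¹ * x * y ∈ D.K := fun x hx => by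
          have h2 : y⁻¹ = y ^ 2 := inv_eq_of_mul_eq_one_right (by rw [← pow_succ', hyK3])
          have := hyK _ (hyK x hx)
          convert this using 1
          calc y⁻¹ * x * y = y⁻¹ * x * (y⁻¹)⁻¹ := by rw [inv_inv]
            _ = y ^ 2 * x * (y ^ 2)⁻¹ := by rw [h2]
            _ = y * (y * x * y⁻¹) * y⁻¹ := by rw [sq]; group
        let c0 : D.K ≃* D.K :=
          { toFun := fun x => ⟨y * x * y⁻¹, hyK x x.2⟩
            invFun := fun x => ⟨y⁻¹ * x * y, hyinv x x.2⟩
            left_inv := fun x => Subtype.ext (by show y⁻¹ * (y * x * y⁻¹) * y = x; group)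
            right_inv := fun x => Subtype.ext (by show y * (y⁻¹ * x * y) * y⁻¹ = x; group)
            map_mul' := fun x x' => Subtype.ext (by
              show y * (x * x' : G) * y⁻¹ = y * x * y⁻¹ * (y * x' * y⁻¹); group) }
        have hσ := dihedral_aut (σ := e.symm.trans (c0.trans e)) fun d => by
          simp only [MulEquiv.trans_apply, e.symm_apply_apply]
          rw [← e.apply_symm_apply d]
          simp only [e.symm_apply_apply]
          refine congrArg e (Subtype.ext ?_)
          show y * (y * (y * (e.symm d : G) * y⁻¹) * y⁻¹) * y⁻¹ = _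
          calc y * (y * (y * (e.symm d : G) * y⁻¹) * y⁻¹) * y⁻¹
              = y * y * y * (e.symm d : G) * (y * y * y)⁻¹ := by group
            _ = _ := by rw [← sq, ← pow_succ, hyK3]; group
        have hyw : y * w i = w i * y := by
          have h := hσ (DihedralGroup.sr i)
          simp only [MulEquiv.trans_apply] at h
          have h1 := congrArg Subtype.val (congrArg e.symm h)
          rw [e.symm_apply_apply] at h1
          exact mul_inv_eq_iff_eq_mul.1 h1
        have h1 := Subgroup.orderOf_dvd_natCard J (Subgroup.mem_inf.2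
          ⟨pow_mem hbN n, mem_centralizer_singleton_iff.2 hyw⟩ : y ∈ J)
        rw [hy3, hj] at h1
        exact (by norm_num : Nat.Coprime 3 7).dvd_of_dvd_mul_left h1
      have hF32 : 32 ∣ F := by
        rw [hH] at h128
        obtain ⟨a, rfl⟩ := h4
        have ha : Nat.Coprime 32 (7 * a) := by
          refine Nat.Coprime.pow_left 5 (?_ : Nat.Coprime 2 (7 * a))
          refine (Nat.prime_two.coprime_iff_not_dvd).2 fun h => h8j ?_
          obtain ⟨b, rfl⟩ : 2 ∣ a := by omega
          exact ⟨b, by ring⟩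
        refine ha.dvd_of_dvd_mul_right (Nat.dvd_of_mul_dvd_mul_left (by norm_num : 0 < 4) ?_)
        convert h128 using 1
        ring
      have h12 : F * 12 ∣ 5760 :=
        (Nat.mul_dvd_mul_left F (Nat.Coprime.mul_dvd_of_dvd_of_dvd (by norm_num : Nat.Coprime 4 3) h4 h3)).trans hFj
      have key : ∀ k ∈ dvs [128, 9, 5], k % 7 = 1 → 32 ∣ k → k * 12 ∣ 5760 → False := by decide +kernel
      exact key F (mem_dvs _ (by simp) ((dvd_mul_right F _).trans hFj)) hF hF32 h12
    -- fusion in `CD`
    obtain ⟨a, ha⟩ := isConj_iff.1 hwz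
    set Hw := centralizer ({w i} : Set G)
    have hPw := sylow_le_centralizer P hwC
    have hmap : ∀ h, h ∈ H → a * h * a⁻¹ ∈ Hw := fun h hh => by
      rw [mem_centralizer_singleton_iff, ← ha]
      calc a * h * a⁻¹ * (a * D.z * a⁻¹) = a * (h * D.z) * a⁻¹ := by group
        _ = a * (D.z * h) * a⁻¹ := by rw [hzH h hh]
        _ = a * D.z * a⁻¹ * (a * h * a⁻¹) := by group
    have hmap' : ∀ h, h ∈ Hw → a⁻¹ * h * a ∈ H := fun h hh => by
      have h1 := mem_centralizer_singleton_iff.1 hh
      rw [← ha] at h1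
      rw [hHdef, mem_centralizer_singleton_iff]
      calc a⁻¹ * h * a * D.z = a⁻¹ * (h * (a * D.z * a⁻¹)) * a := by group
        _ = a⁻¹ * (a * D.z * a⁻¹ * h) * a := by rw [h1]
        _ = D.z * (a⁻¹ * h * a) := by group
    have hc8 : Nat.card {Q : Sylow 7 G // (Q : Subgroup G) ≤ Hw} =
        Nat.card {Q : Sylow 7 G // (Q : Subgroup G) ≤ H} := by
      refine (Nat.card_congr (Equiv.subtypeEquiv (MulAction.toPerm a) fun Q => ?_)).symm
      rw [MulAction.toPerm_apply, Sylow.coe_subgroup_smul]
      constructor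
      · rintro hQ _ ⟨x, hx, rfl⟩
        exact hmap x (hQ hx)
      · intro hQ x hx
        have := hmap' _ (hQ ⟨x, hx, rfl⟩)
        convert this using 1
        show x = a⁻¹ * (a * x * a⁻¹) * a
        group
    have hw8 : Nat.card (Sylow 7 Hw) = 8 := by
      rw [SylowLocal.card_sylow_eq_card_le P hPw, hc8, ← SylowLocal.card_sylow_eq_card_le P hPH]
      exact D.h8
    have hzw : D.z ∈ ker7 Hw := (mem_ker7_iff P hG hPw hw8).2
      ⟨mem_centralizer_singleton_iff.2 (D.hKz _ (hwK i)).symm, D.hzC hG, by rw [D.hz]; norm_num⟩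
    have hle : ∀ Q : Sylow 7 G, (Q : Subgroup G) ≤ Hw → (Q : Subgroup G) ≤ H := fun Q hQ x hx =>
      mem_centralizer_singleton_iff.2 (mem_centralizer_iff.1 (ker7_commute P hG hPw hw8 Q hQ hzw) x hx)
    let inc : {Q : Sylow 7 G // (Q : Subgroup G) ≤ Hw} → {Q : Sylow 7 G // (Q : Subgroup G) ≤ H} :=
      fun Q => ⟨Q.1, hle Q.1 Q.2⟩
    have hinc : Function.Bijective inc :=
      (Nat.bijective_iff_injective_and_card inc).2
        ⟨fun A B h => Subtype.ext (congrArg (fun q => q.1) h), hc8⟩
    have hle' : ∀ Q : Sylow 7 G, (Q : Subgroup G) ≤ H → (Q : Subgroup G) ≤ Hw := fun Q hQ => by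
      obtain ⟨Q', hQ'⟩ := hinc.2 ⟨Q, hQ⟩
      have : Q'.1 = Q := congrArg Subtype.val hQ'
      exact this ▸ Q'.2
    have hKa : ∀ x ∈ D.K, a * x * a⁻¹ ∈ CD := by
      intro x hx
      rw [hCDdef, gen7, centralizer_closure, mem_centralizer_iff]
      rintro y ⟨hy, hyo⟩
      obtain ⟨Q, hQy, -⟩ := exists_sylow_zpowers (m := 63360) (by rw [hG.card]) (by norm_num) hyo
      have hyw : y ∈ Hw := hle' Q (hQy ▸ zpowers_le.2 hy) (hQy ▸ mem_zpowers y)
      have ho : orderOf (a⁻¹ * y * a) = 7 := by
        rw [show a⁻¹ * y * a = MulAut.conj a⁻¹ y by simp, MulEquiv.orderOf_eq, hyo]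
      have hc := mem_centralizer_iff.1 (hRCD (D.hKR hx)) (a⁻¹ * y * a)
        (Subgroup.subset_closure ⟨hmap' y hyw, ho⟩)
      calc y * (a * x * a⁻¹) = a * (a⁻¹ * y * a * x) * a⁻¹ := by group
        _ = a * (x * (a⁻¹ * y * a)) * a⁻¹ := by rw [hc]
        _ = a * x * a⁻¹ * y := by group
    have hCD16 : ¬ 2 ^ (3 + 1) ∣ Nat.card CD := fun h => by
      have h' := h.trans (card_dvd_of_le hCDC)
      rw [D.card_C] at h'
      exact D.not_dvd_u hG (dvd_mul_of_dvd_right
        ((Nat.Coprime.pow_left _ (by norm_num : Nat.Coprime 2 7)).dvd_of_dvd_mul_left h') _)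
    obtain ⟨c, hc, hcK⟩ := exists_mul_normalizing (a := 3) (D.hKR.trans hRCD) (by rw [D.hK]; norm_num) hCD16 hKa
    refine ⟨c, hc, ?_⟩
    have himg : D.K.map (MulAut.conj (c * a)).toMonoidHom = D.K :=
      eq_of_le_of_card_ge (by rintro _ ⟨x, hx, rfl⟩; exact hcK x hx)
        (by rw [card_map_of_injective (MulAut.conj (c * a)).injective])
    have he : c * w i * c⁻¹ = c * a * D.z * (c * a)⁻¹ := by rw [← ha]; group
    rw [he]
    refine (hcentral ⟨_, hcK _ D.hzK⟩ fun b hb => ?_).resolve_left fun h => hz1 ?_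
    · rw [← himg] at hb
      obtain ⟨b', hb', rfl⟩ := hb
      show c * a * b' * (c * a)⁻¹ * (c * a * D.z * (c * a)⁻¹) =
        c * a * D.z * (c * a)⁻¹ * (c * a * b' * (c * a)⁻¹)
      calc _ = c * a * (b' * D.z) * (c * a)⁻¹ := by group
        _ = c * a * (D.z * b') * (c * a)⁻¹ := by rw [D.hKz b' hb']
        _ = _ := by group
    · exact conj_eq_one_iff.1 h
  -- five conjugates in a group of order at most 24
  have hmemH : ∀ c ∈ CD, g⁻¹ * c * g ∈ H := fun c hc => by
    rw [hHdef, mem_centralizer_singleton_iff]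
    calc g⁻¹ * c * g * D.z = g⁻¹ * (c * z') * g := by rw [hz']; group
      _ = g⁻¹ * (z' * c) * g := by rw [hCDz c hc]
      _ = D.z * (g⁻¹ * c * g) := by rw [hz']; group
  let χ : CD →* (act7 H).range := MonoidHom.mk' (fun c => φ ⟨g⁻¹ * c * g, hmemH c c.2⟩) fun a b => by
    rw [← map_mul]
    exact congrArg φ (Subtype.ext (by show g⁻¹ * (a * b : G) * g = g⁻¹ * a * g * (g⁻¹ * b * g); group))
  set Y := χ.range
  have hKCD : D.K ≤ CD := D.hKR.trans hRCD
  set κ : D.K →* Y := χ.rangeRestrict.comp (Subgroup.inclusion hKCD)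
  have hκ : Function.Injective κ := by
    rw [← MonoidHom.ker_eq_bot_iff, Subgroup.eq_bot_iff_forall]
    intro k hk
    have h1 : χ (Subgroup.inclusion hKCD k) = 1 := congrArg Subtype.val hk
    have hmem : g⁻¹ * (k : G) * g ∈ D.K :=
      hKR0.le (Subgroup.mem_inf.2 ⟨hg' k (hKT k.2), (hker _ (hmemH k (hKCD k.2))).2 h1⟩)
    have h2 : (k : G) ∈ D.K ⊓ L := Subgroup.mem_inf.2 ⟨k.2, ⟨_, hmem, by
      show g * (g⁻¹ * (k : G) * g) * g⁻¹ = k; group⟩⟩
    rw [hKL, Subgroup.mem_bot] at h2
    exact Subtype.ext h2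
  have hY24 : Nat.card Y ≤ 24 := by
    have h1 : Nat.card Y ∣ 168 := hcard ▸ card_subgroup_dvd_card Y
    have h2 : Nat.card Y ∣ u := by
      refine (Subgroup.card_range_dvd χ).trans ?_
      have h := card_dvd_of_le hCDC
      rw [D.card_C] at h
      exact (((Nat.Prime.coprime_iff_not_dvd (by norm_num)).2 hCD7).symm).dvd_of_dvd_mul_left h
    have h3 : Nat.card Y ∣ 120 := h2.trans (by rcases D.hu with e | e <;> rw [e] <;> norm_num)
    exact Nat.le_of_dvd (by norm_num) ((Nat.dvd_gcd h1 h3).trans (by norm_num))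
  set zK : D.K := ⟨D.z, D.hzK⟩
  have hcent8 : 8 ≤ Nat.card (centralizer ({κ zK} : Set Y)) := by
    have hle : κ.range ≤ centralizer ({κ zK} : Set Y) := by
      rintro _ ⟨k, rfl⟩
      rw [mem_centralizer_singleton_iff, ← map_mul, ← map_mul]
      exact congrArg κ (Subtype.ext (D.hKz k k.2))
    refine le_trans ?_ (Nat.le_of_dvd Nat.card_pos (card_dvd_of_le hle))
    rw [← Nat.card_congr (MonoidHom.ofInjective hκ).toEquiv, D.hK]
  have hcount : 5 ≤ Nat.card {y : Y // IsConj (κ zK) y} := by
    let f : Option (ZMod 4) → {y : Y // IsConj (κ zK) y} := fun o => match o with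
      | none => ⟨κ zK, IsConj.refl _⟩
      | some i => ⟨κ (e.symm (DihedralGroup.sr i)), by
          obtain ⟨c, hc, hcw⟩ := hclass i
          refine isConj_iff.2 ⟨χ.rangeRestrict ⟨c, hc⟩⁻¹, ?_⟩
          show χ.rangeRestrict ⟨c, hc⟩⁻¹ * χ.rangeRestrict (Subgroup.inclusion hKCD zK) *
            (χ.rangeRestrict ⟨c, hc⟩⁻¹)⁻¹ = χ.rangeRestrict (Subgroup.inclusion hKCD _)
          rw [← map_inv, ← map_mul, ← map_mul]
          refine congrArg _ (Subtype.ext ?_)
          show c⁻¹ * D.z * c⁻¹⁻¹ = w i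
          rw [← hcw]; group⟩
    have hf : Function.Injective f := by
      intro a b hab
      have h' := congrArg Subtype.val hab
      rcases a with _ | i <;> rcases b with _ | j
      · rfl
      · exact absurd (congrArg Subtype.val (hκ h')).symm (hwne j)
      · exact absurd (congrArg Subtype.val (hκ h')) (hwne i)
      · have := e.symm.injective (hκ h')
        simpa using this
    calc 5 = Nat.card (Option (ZMod 4)) := by simp
      _ ≤ _ := Nat.card_le_card_of_injective f hf
  rw [CfsgLib.Char.card_isConj_eq_index] at hcount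
  have := (centralizer ({κ zK} : Set Y)).card_mul_index
  nlinarith

end Three

theorem not_seven_three (hG : SG G) (P : Sylow 7 G) {u : ℕ} (hu : u = 8 ∨ u = 120)
    (hN : Nat.card (normalizer ((P : Subgroup G) : Set G)) = 7 * (3 * u))
    (hC : Nat.card (centralizer ((P : Subgroup G) : Set G)) = 7 * u) : False := by
  obtain ⟨D⟩ := exists_three P hG hu hN hC
  have hP := card_seven P hG
  set H := centralizer ({D.z} : Set G)
  have hgH : gen P hP ∈ H := D.hPH hG (pw_one P hP ▸ pw_mem P hP 1)
  have hcardX : Nat.card (Sylow 7 H) = 8 := D.h8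
  haveI := Fintype.ofFinite (Sylow 7 H)
  rcases EightPerm.normal_or_simple hcardX (act7 H).range (act7_pretransitive H)
      (x := act7 H ⟨gen P hP, hgH⟩) ⟨_, rfl⟩ (orderOf_act7 P hG (D.hPH hG) D.h8) D.hM with
    ⟨E, hEn, hE⟩ | ⟨h168, hs⟩
  · exact D.no_normal hG E hEn hE
  · exact D.no_simple hG h168 hs

end CfsgLib.MTwentyTwoUnique.FromOrder
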